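import Cfsg.Agent.Lib.QuadPair.Class2

/-!
Quadratic elements of least commutator rank over a prime field of characteristic at least five, described by the
pair (commutator space, fixed space) of each element.
-/

set_option autoImplicit false

namespace Cfsg.Agent.EquiQuad

open UniFamily QuadPair

variable {p : ℕ} [hp : Fact p.Prime] {M : Type} [AddCommGroup M] [Module (ZMod p) M]

local notation "F" => ZMod p
local notation "GLM" => LinearMap.GeneralLinearGroup (ZMod p) M
local notation "EndM" => M →ₗ[ZMod p] M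

theorem tail_mul {R : Type*} [Semigroup R] {x y z : R} (h : x * y = z) (w : R) : x * (y * w) = z * w := by
  rw [← mul_assoc, h]

/-- The commutator space and the fixed space of an element. -/
def key (g : LinearMap.GeneralLinearGroup (ZMod p) M) :
    Submodule (ZMod p) M × Submodule (ZMod p) M :=
  (LinearMap.range (dev g), LinearMap.ker (dev g))

/-- The action of an element on pairs of subspaces. -/
def act (g : LinearMap.GeneralLinearGroup (ZMod p) M) (C : Submodule (ZMod p) M × Submodule (ZMod p) M) :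
    Submodule (ZMod p) M × Submodule (ZMod p) M :=
  (C.1.map (g : M →ₗ[ZMod p] M), C.2.map (g : M →ₗ[ZMod p] M))

/-- Two pairs of subspaces in opposite position. -/
def Opp (C D : Submodule (ZMod p) M × Submodule (ZMod p) M) : Prop := C.1 ⊓ D.2 = ⊥ ∧ D.1 ⊓ C.2 = ⊥

theorem act_one (C : Submodule F M × Submodule F M) : act (1 : GLM) C = C := by
  simp [act, Module.End.one_eq_id]

theorem act_mul (g h : GLM) (C : Submodule F M × Submodule F M) : act (g * h) C = act g (act h C) := by
  simp only [act, Units.val_mul, Module.End.mul_eq_comp, Submodule.map_comp]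

theorem act_inv_act (g : GLM) (C : Submodule F M × Submodule F M) : act g⁻¹ (act g C) = C := by
  rw [← act_mul, inv_mul_cancel, act_one]

theorem act_act_inv (g : GLM) (C : Submodule F M × Submodule F M) : act g (act g⁻¹ C) = C := by
  rw [← act_mul, mul_inv_cancel, act_one]

theorem act_injective (g : GLM) : Function.Injective (act g) := fun C D h => by
  rw [← act_inv_act g C, h, act_inv_act]

theorem key_conj (g x : GLM) : key (g * x * g⁻¹) = act g (key x) := by
  rw [key, key, act, dev_conj, range_conj, ker_conj]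

theorem act_key_self {g x : GLM} (h : g * x = x * g) : act g (key x) = key x := by
  rw [← key_conj, h, mul_inv_cancel_right]

theorem opp_symm {C D : Submodule F M × Submodule F M} (h : Opp C D) : Opp D C := ⟨h.2, h.1⟩

theorem opp_act (g : GLM) {C D : Submodule F M × Submodule F M} (h : Opp C D) :
    Opp (act g C) (act g D) := by
  constructor
  · show C.1.map (g : EndM) ⊓ D.2.map (g : EndM) = ⊥
    rw [← Submodule.map_inf (g : EndM) (gl_injective g), h.1, Submodule.map_bot]
  · show D.1.map (g : EndM) ⊓ C.2.map (g : EndM) = ⊥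
    rw [← Submodule.map_inf (g : EndM) (gl_injective g), h.2, Submodule.map_bot]

theorem natCast_ne {n : ℕ} (h0 : 0 < n) (hn : n < p) : (n : ZMod p) ≠ 0 := by
  rw [Ne, ZMod.natCast_eq_zero_iff]
  intro h
  have := Nat.le_of_dvd h0 h
  omega

theorem two_ne (h5 : 5 ≤ p) : (2 : ZMod p) ≠ 0 := by
  simpa using natCast_ne (p := p) (n := 2) two_pos (by omega)

omit hp in
theorem card_ne (h5 : 5 ≤ p) : Nat.card (ZMod p) ≠ 3 := by rw [Nat.card_zmod]; omega

theorem dev_pow {g : GLM} (h : dev g * dev g = 0) (n : ℕ) : dev (g ^ n) = (n : ZMod p) • dev g := by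
  induction n with
  | zero => simp [dev_one]
  | succ n ih =>
    rw [pow_succ, dev_mul, ih, smul_mul_assoc, h, smul_zero, zero_add, Nat.cast_succ, add_smul, one_smul]

/-- Over a prime field every quadratic element carries its scalar family. -/
theorem exists_smul_mem {G : Subgroup GLM} {g : GLM} (hg : g ∈ G) (h : dev g * dev g = 0) (c : F) :
    ∃ u ∈ G, dev u = c • dev g :=
  ⟨g ^ c.val, pow_mem hg _, by rw [dev_pow h, ZMod.natCast_zmod_val]⟩

theorem quad_mem {G : Subgroup GLM} {g : GLM} (hg : g ∈ G) (h : dev g * dev g = 0) (h0 : dev g ≠ 0) :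
    g ∈ Cfsg.quadraticElements G :=
  mem_quadratic hg h h0 (exists_smul_mem hg h)

/-- The members of least rank. -/
def Min (G : Subgroup (LinearMap.GeneralLinearGroup (ZMod p) M)) :
    Set (LinearMap.GeneralLinearGroup (ZMod p) M) :=
  Cfsg.minimalQuadraticElements G

theorem min_mem {G : Subgroup GLM} {s : GLM} (h : s ∈ Min G) : s ∈ G := h.1.1

theorem exists_min {G : Subgroup GLM} {g : GLM} (hg : g ∈ G) (h : dev g * dev g = 0) (h0 : dev g ≠ 0) :
    ∃ s, s ∈ Min G := by
  classical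
  have hex : ∃ n, ∃ s ∈ Cfsg.quadraticElements G, Cfsg.commutatorRank s = n := ⟨_, g, quad_mem hg h h0, rfl⟩
  obtain ⟨s, hs, hn⟩ := Nat.find_spec hex
  exact ⟨s, hs, fun t ht => hn.le.trans (Nat.find_min' hex ⟨t, ht, rfl⟩)⟩

theorem min_of_le {G : Subgroup GLM} {g s : GLM} (hs : s ∈ Min G) (hg : g ∈ G)
    (h : dev g * dev g = 0) (h0 : dev g ≠ 0)
    (hr : Module.finrank F (LinearMap.range (dev g)) ≤ Module.finrank F (LinearMap.range (dev s))) :
    g ∈ Min G :=
  ⟨quad_mem hg h h0, fun t ht => hr.trans (hs.2 t ht)⟩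

theorem min_conj {G : Subgroup GLM} {g s : GLM} (hg : g ∈ G) (hs : s ∈ Min G) : g * s * g⁻¹ ∈ Min G :=
  conj_minimal hg hs

section Pairs

variable [FiniteDimensional (ZMod p) M] (h5 : 5 ≤ p) {G : Subgroup (LinearMap.GeneralLinearGroup (ZMod p) M)}
  {s t : LinearMap.GeneralLinearGroup (ZMod p) M}
include h5

theorem opp_iff (hs : s ∈ Min G) (ht : t ∈ Min G) :
    Opp (key s) (key t) ↔ ¬ IsNilpotent (zz (dev s) (dev t)) := by
  refine ⟨fun h => not_nilpotent_of_left (sq_zero hs) (dev_ne_zero hs) h.1 h.2, fun h => ?_⟩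
  have hS := (structure_theorem (two_ne h5) (card_ne h5) hs ht h).1
  exact ⟨hS.left, hS.right⟩

theorem split_of_opp (hs : s ∈ Min G) (ht : t ∈ Min G) (h : Opp (key s) (key t)) :
    Split (dev s) (dev t) :=
  (structure_theorem (two_ne h5) (card_ne h5) hs ht ((opp_iff h5 hs ht).1 h)).1

theorem sts_of_not_opp (hs : s ∈ Min G) (ht : t ∈ Min G) (h : ¬ Opp (key s) (key t)) :
    dev s * dev t * dev s = 0 ∧ dev t * dev s * dev t = 0 :=
  sts_of_nilpotent (two_ne h5) hs ht (by
    by_contra hn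
    exact h ((opp_iff h5 hs ht).2 hn))

/-- The normalised partner. -/
theorem exists_partner_mem (hs : s ∈ Min G) (ht : t ∈ Min G) (h : Opp (key s) (key t)) :
    ∃ g ∈ Min G, key g = key t ∧ dev s * dev g * dev s = dev s ∧ dev g * dev s * dev g = dev g := by
  obtain ⟨g, hg, heq, ψ, -, hψ⟩ :=
    partner_full (two_ne h5) (card_ne h5) hs ht ((opp_iff h5 hs ht).1 h)
  have hk : key g = key t := Prod.ext hg.2.2 hg.2.1
  refine ⟨g, hg.1, hk, ?_⟩
  set a := dev s with ha
  set b := dev g with hb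
  have haa : a * a = 0 := sq_zero hs
  have hbb : b * b = 0 := sq_zero hg.1
  have hid : a * b * a + b * a * b = a + b := by
    have e := congrArg dev heq
    have e1 : dev (g⁻¹ * s * g) = (1 - b) * a * (1 + b) := by
      conv_lhs => rw [show g⁻¹ * s * g = g⁻¹ * s * g⁻¹⁻¹ by rw [inv_inv]]
      rw [dev_conj, inv_inv, coe_inv_of_sq hbb, coe_dev g]
    have e2 : dev (s⁻¹ * g⁻¹ * s) = (1 - a) * (-b) * (1 + a) := by
      conv_lhs => rw [show s⁻¹ * g⁻¹ * s = s⁻¹ * g⁻¹ * s⁻¹⁻¹ by rw [inv_inv]]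
      rw [dev_conj, inv_inv, coe_inv_of_sq haa, coe_dev s, dev_inv_of_sq' hbb]
    rw [e1, e2] at e
    rw [← sub_eq_zero] at e ⊢
    have e' : (1 - b) * a * (1 + b) - (1 - a) * (-b) * (1 + a) = -(a * b * a + b * a * b - (a + b)) := by
      simp only [sub_mul, mul_sub, add_mul, mul_add, one_mul, mul_one, neg_mul, mul_neg, mul_assoc]
      abel
    rw [e', neg_eq_zero] at e
    exact e
  have hS := split_of_opp h5 hs hg.1 (by rw [hk]; exact h)
  have key1 : a * b * a = a := by
    refine LinearMap.ext fun m => sub_eq_zero.1 ?_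
    rw [← Submodule.mem_bot F, ← hS.left]
    have hX : (a * b * a) m - a m = b m - (b * a * b) m := by
      have := LinearMap.congr_fun hid m
      simp only [LinearMap.add_apply] at this
      linear_combination (norm := module) this
    refine ⟨Submodule.sub_mem _ ⟨b (a m), rfl⟩ ⟨m, rfl⟩, ?_⟩
    show b ((a * b * a) m - a m) = 0
    rw [hX, map_sub]
    simp only [Module.End.mul_apply]
    have hb0 : ∀ x, b (b x) = 0 := fun x => LinearMap.congr_fun hbb x
    simp [← hb, hb0]
  exact ⟨key1, by rwa [key1, add_right_inj] at hid⟩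
where
  dev_inv_of_sq' {g : GLM} (h : dev g * dev g = 0) : dev g⁻¹ = -dev g := by
    rw [dev, coe_inv_of_sq h]; abel

omit [FiniteDimensional (ZMod p) M] h5 in
/-- The element exchanging a normalised pair. -/
theorem exists_swap {g : GLM} (h1 : dev s * dev g * dev s = dev s) (h2 : dev g * dev s * dev g = dev g)
    (hs : dev s * dev s = 0) (hg : dev g * dev g = 0) :
    (((s * g⁻¹ * s : GLM)) : EndM) = 1 - dev s * dev g - dev g * dev s + dev s - dev g ∧
      (s * g⁻¹ * s) * s * (s * g⁻¹ * s)⁻¹ = g⁻¹ := by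
  have hw : (((s * g⁻¹ * s : GLM)) : EndM) = 1 - dev s * dev g - dev g * dev s + dev s - dev g := by
    rw [Units.val_mul, Units.val_mul, coe_dev s, coe_inv_of_sq hg]
    calc (1 + dev s) * (1 - dev g) * (1 + dev s)
        = 1 - dev s * dev g - dev g * dev s + dev s - dev g
          + (dev s * dev s + dev s) - dev s * dev g * dev s := by noncomm_ring
      _ = _ := by rw [hs, h1, zero_add, add_sub_cancel_right]
  refine ⟨hw, ?_⟩
  rw [mul_inv_eq_iff_eq_mul]
  apply Units.ext
  rw [Units.val_mul (s * g⁻¹ * s) s, Units.val_mul g⁻¹, hw, coe_dev s, coe_inv_of_sq hg]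
  set a := dev s
  set b := dev g
  have p1 : a * (b * a) = a := by rw [← mul_assoc, h1]
  have p2 : b * (a * b) = b := by rw [← mul_assoc, h2]
  simp only [mul_add, add_mul, sub_mul, mul_sub, mul_one, one_mul, mul_assoc, hs, hg, p1, p2,
    tail_mul hg, zero_mul, mul_zero]
  abel

theorem exists_conj_of_opp (hs : s ∈ Min G) (ht : t ∈ Min G) (h : Opp (key s) (key t)) :
    ∃ g ∈ G, act g (key s) = key t := by
  obtain ⟨g, hg, hk, h1, h2⟩ := exists_partner_mem h5 hs ht h
  refine ⟨s * g⁻¹ * s, mul_mem (mul_mem (min_mem hs) (inv_mem (min_mem hg))) (min_mem hs), ?_⟩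
  rw [← key_conj, (exists_swap h1 h2 (sq_zero hs) (sq_zero hg)).2, ← hk, key, key,
    exists_partner_mem.dev_inv_of_sq' (sq_zero hg), LinearMap.range_neg, LinearMap.ker_neg]

/-- An element fixing the pair of another commutes with it, and is not opposite to it. -/
theorem commute_of_fix (hs : s ∈ Min G) (ht : t ∈ Min G) (h : act s (key t) = key t) :
    s * t = t * s ∧ ¬ Opp (key s) (key t) := by
  have hno : ¬ Opp (key s) (key t) := by
    intro ho
    refine dev_ne_zero ht (LinearMap.range_eq_bot.1 (eq_bot_iff.2 fun v hv => ?_))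
    have h1 : dev s v ∈ LinearMap.range (dev t) := by
      rw [dev_apply]
      exact Submodule.sub_mem _ ((congrArg Prod.fst h).le ⟨v, hv, rfl⟩) hv
    have h2 : dev s v ∈ LinearMap.ker (dev s) := LinearMap.congr_fun (sq_zero hs) v
    have h3 : dev s v = 0 := by
      rw [← Submodule.mem_bot F, ← ho.2]; exact ⟨h1, h2⟩
    rw [← ho.2]; exact ⟨hv, h3⟩
  refine ⟨commute_of_zc ?_, hno⟩
  refine zc_zero_of_normalizes (two_ne h5) hs ht (by
    by_contra hn; exact hno ((opp_iff h5 hs ht).2 hn)) ⟨min_conj (min_mem hs) ht, ?_, ?_⟩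
  · exact congrArg Prod.snd ((key_conj s t).trans h)
  · exact congrArg Prod.fst ((key_conj s t).trans h)

end Pairs

/-- No nontrivial unipotent normal subgroup. -/
def NoUni (G : Subgroup (LinearMap.GeneralLinearGroup (ZMod p) M)) : Prop :=
  ∀ U : Subgroup (LinearMap.GeneralLinearGroup (ZMod p) M), U ≤ G → Cfsg.IsUnipotentOn U →
    (∀ g ∈ G, ∀ x ∈ U, g * x * g⁻¹ ∈ U) → U = ⊥

section Partner

variable [FiniteDimensional (ZMod p) M] (h5 : 5 ≤ p) {G : Subgroup (LinearMap.GeneralLinearGroup (ZMod p) M)}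
  (hG : NoUni G)
include h5 hG

theorem exists_opp {s : GLM} (hs : s ∈ Min G) : ∃ g ∈ G, Opp (key s) (key (g * s * g⁻¹)) := by
  by_contra hno
  push Not at hno
  let W : Set (Subgroup GLM) := {A | ∃ g ∈ G, A = Subgroup.zpowers (g * s * g⁻¹)}
  have hWW : ∀ A ∈ W, ∀ B ∈ W, Cfsg.IsUnipotentOn (A ⊔ B) := by
    rintro _ ⟨g, hg, rfl⟩ _ ⟨h, hh, rfl⟩
    have hga := min_conj hg hs
    have hha := min_conj hh hs
    have hn : IsNilpotent (zz (dev (g * s * g⁻¹)) (dev (h * s * h⁻¹))) := by
      by_contra hn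
      refine hno (g⁻¹ * h) (mul_mem (inv_mem hg) hh) ?_
      have := opp_act g⁻¹ ((opp_iff h5 hga hha).2 hn)
      rwa [← key_conj, ← key_conj, show g⁻¹ * (g * s * g⁻¹) * g⁻¹⁻¹ = s by group,
        show g⁻¹ * (h * s * h⁻¹) * g⁻¹⁻¹ = g⁻¹ * h * s * (g⁻¹ * h)⁻¹ by group] at this
    obtain ⟨n, hn', hb⟩ := exists_pwr_eq_bot (isUnipotentOn_of_nilpotent (sq_zero hga) (sq_zero hha) hn)
    set X := Subgroup.closure (Set.range (el (dev (g * s * g⁻¹)) (sq_zero hga)) ∪
      Set.range (el (dev (h * s * h⁻¹)) (sq_zero hha)))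
    have hle : Subgroup.zpowers (g * s * g⁻¹) ⊔ Subgroup.zpowers (h * s * h⁻¹) ≤ X := by
      refine sup_le (Subgroup.zpowers_le.2 ?_) (Subgroup.zpowers_le.2 ?_)
      · exact Subgroup.subset_closure (Or.inl ⟨1, el_one hga⟩)
      · exact Subgroup.subset_closure (Or.inr ⟨1, el_one hha⟩)
    exact unipotent_of_algebra (le_bot_iff.1 ((pwr_one_pow X n hn').trans hb.le))
      fun x hx => dev_mem_pwr (hle hx)
  have hconj : ∀ A ∈ W, ∀ B ∈ W, ∀ x ∈ A, Cfsg.conjBy B x ∈ W := by
    rintro _ ⟨g, hg, rfl⟩ _ ⟨h, hh, rfl⟩ x hx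
    have hxG : x ∈ G := (Subgroup.zpowers_le.2 (min_mem (min_conj hg hs))) hx
    refine ⟨x * h, mul_mem hxG hh, ?_⟩
    rw [Cfsg.conjBy, MonoidHom.map_zpowers]
    congr 1
  set U := ⨆ A ∈ W, A with hU
  have hUG : U ≤ G := iSup₂_le fun A ⟨g, hg, hA⟩ => hA ▸ Subgroup.zpowers_le.2 (min_mem (min_conj hg hs))
  have hbot : U = ⊥ := by
    refine hG U hUG (unipotent_iSup hWW hconj) fun g hg x hx => ?_
    have hle : U ≤ U.comap (MulAut.conj g).toMonoidHom := by
      refine iSup₂_le ?_
      rintro _ ⟨h, hh, rfl⟩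
      refine Subgroup.zpowers_le.2 ?_
      refine le_iSup₂_of_le (f := fun (A : Subgroup GLM) (_ : A ∈ W) => A) _ ⟨g * h, mul_mem hg hh, rfl⟩
        le_rfl ?_
      rw [show (MulAut.conj g).toMonoidHom (h * s * h⁻¹) = g * h * s * (g * h)⁻¹ by
        simp [mul_assoc]]
      exact Subgroup.mem_zpowers _
    exact hle hx
  refine mem_ne_one hs ?_
  rw [← Subgroup.mem_bot, ← hbot, hU]
  exact le_iSup₂_of_le (f := fun (A : Subgroup GLM) (_ : A ∈ W) => A) _ ⟨1, one_mem G, rfl⟩ le_rfl
    (by simp)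

/-- Two non-commuting members generating a unipotent group have a common partner. -/
theorem exists_common_opp {s t : GLM} (hs : s ∈ Min G) (ht : t ∈ Min G)
    (h : ¬ Opp (key s) (key t)) (h0 : s * t ≠ t * s) :
    ∃ π ∈ Min G, Opp (key π) (key s) ∧ Opp (key π) (key (t * s * t⁻¹)) ∧
      ∃ g ∈ G, act g (key (s * t * s⁻¹ * t⁻¹)) = key π := by
  have hn : IsNilpotent (zz (dev s) (dev t)) := by
    by_contra hn; exact h ((opp_iff h5 hs ht).2 hn)
  have h2 := two_ne h5
  obtain ⟨hδ, -⟩ := commutator_minimal h2 hs ht hn (fun e => h0 (commute_of_zc e))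
  set δ := s * t * s⁻¹ * t⁻¹ with hδd
  have hdδ : dev δ = zc (dev s) (dev t) := dev_comm_pair h2 hs ht hn
  obtain ⟨g, hg, hopp⟩ := exists_opp h5 hG hδ
  set π := g * δ * g⁻¹
  have hπ : π ∈ Min G := min_conj hg hδ
  have hsc : ∀ n : ℕ, dev (t ^ n * s * (t ^ n)⁻¹) = dev s - (n : F) • zc (dev s) (dev t) := by
    intro n
    have hd := dev_pow (sq_zero ht) n
    rw [dev_conj, coe_inv_of_sq (by rw [hd, smul_mul_smul_comm, sq_zero ht, smul_zero]),
      coe_dev (t ^ n), hd]
    have e2 := (sts_of_nilpotent h2 hs ht hn).2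
    simp only [add_mul, mul_sub, one_mul, mul_one, zc, smul_mul_assoc, mul_smul_comm, e2,
      smul_zero, smul_sub]
    abel
  have hmin : ∀ n : ℕ, t ^ n * s * (t ^ n)⁻¹ ∈ Min G := fun n => min_conj (pow_mem (min_mem ht) n) hs
  have hone : ∀ m n : ℕ, m < p → n < p → m ≠ n →
      ¬ Opp (key π) (key (t ^ m * s * (t ^ m)⁻¹)) → Opp (key π) (key (t ^ n * s * (t ^ n)⁻¹)) := by
    intro m n hm hn' hmn hm0
    by_contra hn0
    have e1 := (sts_of_not_opp h5 hπ (hmin m) hm0).1
    have e2 := (sts_of_not_opp h5 hπ (hmin n) hn0).1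
    rw [hsc, mul_sub, sub_mul, mul_smul_comm, smul_mul_assoc, sub_eq_zero] at e1 e2
    have hne : (m : F) ≠ (n : F) := fun e => hmn (by
      have := congrArg ZMod.val e
      rwa [ZMod.val_cast_of_lt hm, ZMod.val_cast_of_lt hn'] at this)
    have e3 : dev π * zc (dev s) (dev t) * dev π = 0 := by
      have : ((m : F) - n) • (dev π * zc (dev s) (dev t) * dev π) = 0 := by
        rw [sub_smul, ← e1, ← e2, sub_self]
      exact (smul_eq_zero.1 this).resolve_left (sub_ne_zero.2 hne)
    refine (opp_iff h5 hπ hδ).1 (opp_symm hopp) ⟨2, ?_⟩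
    rw [hdδ, pow_two, zz_sq (sq_zero hπ) (by rw [← hdδ]; exact sq_zero hδ), e3, zero_mul,
      show zc (dev s) (dev t) * dev π * zc (dev s) (dev t) * dev π
        = zc (dev s) (dev t) * (dev π * zc (dev s) (dev t) * dev π) by simp only [mul_assoc],
      e3, mul_zero, add_zero]
  by_cases h01 : Opp (key π) (key (t ^ 0 * s * (t ^ 0)⁻¹)) ∧ Opp (key π) (key (t ^ 1 * s * (t ^ 1)⁻¹))
  · exact ⟨π, hπ, by simpa using h01.1, by simpa using h01.2, g, hg, (key_conj g δ).symm⟩
  -- shift
  have hgood : Opp (key π) (key (t ^ (p - 2) * s * (t ^ (p - 2))⁻¹)) ∧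
      Opp (key π) (key (t ^ (p - 1) * s * (t ^ (p - 1))⁻¹)) := by
    rw [not_and_or] at h01
    rcases h01 with hb | hb
    · exact ⟨hone 0 _ (by omega) (by omega) (by omega) hb, hone 0 _ (by omega) (by omega) (by omega) hb⟩
    · exact ⟨hone 1 _ (by omega) (by omega) (by omega) hb, hone 1 _ (by omega) (by omega) (by omega) hb⟩
  have htp : t ^ p = 1 := dev_eq_zero (by rw [dev_pow (sq_zero ht), ZMod.natCast_self, zero_smul])
  refine ⟨t ^ 2 * π * (t ^ 2)⁻¹, min_conj (pow_mem (min_mem ht) 2) hπ, ?_, ?_,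
    t ^ 2 * g, mul_mem (pow_mem (min_mem ht) 2) hg, by rw [act_mul, ← key_conj g δ, ← key_conj]⟩
  · have := opp_act (t ^ 2) hgood.1
    rw [← key_conj, ← key_conj] at this
    convert this using 2
    rw [show t ^ 2 * (t ^ (p - 2) * s * (t ^ (p - 2))⁻¹) * (t ^ 2)⁻¹
        = t ^ (2 + (p - 2)) * s * (t ^ (2 + (p - 2)))⁻¹ by rw [pow_add]; group,
      show 2 + (p - 2) = p by omega, htp]
    simp
  · have := opp_act (t ^ 2) hgood.2
    rw [← key_conj, ← key_conj] at this
    convert this using 2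
    rw [show t ^ 2 * (t ^ (p - 1) * s * (t ^ (p - 1))⁻¹) * (t ^ 2)⁻¹
        = t ^ (2 + (p - 1)) * s * (t ^ (2 + (p - 1)))⁻¹ by rw [pow_add]; group,
      show 2 + (p - 1) = p + 1 by omega, pow_succ, htp, one_mul]

end Partner

end Cfsg.Agent.EquiQuad
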