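import Cfsg.Agent.Lib.EquiQuad.Classes

/-!
A unipotent map of degree at most three that carries a bilinear form to itself plus a nonzero form fixed by it is
incompatible with a stable complement of the radical of that fixed form, in characteristic at least five.
-/

set_option autoImplicit false
set_option linter.unusedSimpArgs false

namespace Cfsg.Agent.EquiQuad

variable {p : ℕ} [hp : Fact p.Prime] {M : Type} [AddCommGroup M] [Module (ZMod p) M]

local notation "F" => ZMod p

section
variable (h5 : 5 ≤ p) {N : M →ₗ[ZMod p] M} {B C : M →ₗ[ZMod p] M →ₗ[ZMod p] ZMod p}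
  (hB : ∀ u v, B (N u) v + B u (N v) + B (N u) (N v) = C u v)
  (hC : ∀ u v, C (N u) v + C u (N v) + C (N u) (N v) = 0)

include h5 hB hC

theorem form_cubic {u v : M} (hu : N (N (N u)) = 0) (hv : N (N (N v)) = 0) : C (N (N u)) v = 0 := by
  set u1 := N u; set u2 := N u1; set v1 := N v; set v2 := N v1
  have e22 := hB u2 v2; have e21 := hB u2 v1; have e12 := hB u1 v2
  have e20 := hB u2 v; have e02 := hB u v2; have e11 := hB u1 v1
  have f11 := hC u1 v1; have f10 := hC u1 v; have f01 := hC u v1
  simp only [u2, v2, u1, v1, hu, hv, map_zero, LinearMap.zero_apply, add_zero, zero_add] at *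
  have h2 : (2 : ZMod p) ≠ 0 := two_ne h5
  have h3 : (3 : ZMod p) ≠ 0 := by simpa using natCast_ne (p := p) (n := 3) (by norm_num) (by omega)
  have b22 : B (N (N u)) (N (N v)) = 0 := by
    have : (2 : ZMod p) * B (N (N u)) (N (N v)) = 0 := by linear_combination f11 + e21 + e12 + e22
    exact (mul_eq_zero.1 this).resolve_left h2
  have i1 : (2 : ZMod p) * B (N (N u)) (N v) + B (N u) (N (N v)) = 0 := by
    linear_combination f10 + e20 + e11 + e21 - 2 * b22
  have i2 : B (N (N u)) (N v) + (2 : ZMod p) * B (N u) (N (N v)) = 0 := by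
    linear_combination f01 + e02 + e11 + e12 - 2 * b22
  have : (3 : ZMod p) * B (N (N u)) (N v) = 0 := by linear_combination 2 * i1 - i2
  have b21 := (mul_eq_zero.1 this).resolve_left h3
  linear_combination b21 - e20

theorem form_quad {u v : M} (hu : N (N u) = 0) (hv : N (N v) = 0) : C (N u) v = 0 := by
  have e10 := hB (N u) v; have e01 := hB u (N v); have e11 := hB (N u) (N v)
  have f00 := hC u v
  simp only [hu, hv, map_zero, LinearMap.zero_apply, add_zero, zero_add] at *
  have h2 : (2 : ZMod p) ≠ 0 := two_ne h5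
  have : (2 : ZMod p) * B (N u) (N v) = 0 := by linear_combination f00 + e10 + e01 + e11
  linear_combination (mul_eq_zero.1 this).resolve_left h2 - e10

theorem form_zero (hcomp : ∃ U : Submodule (ZMod p) M, (∀ u ∈ U, N u ∈ U) ∧ IsCompl U (LinearMap.ker C))
    (hanti : ∀ u v, C u v = -C v u) (h3 : ∀ u, N (N (N u)) = 0) : C = 0 := by
  obtain ⟨U, hU, hc⟩ := hcomp
  have hker : ∀ w ∈ U, (∀ u ∈ U, C w u = 0) → w = 0 := by
    intro w hw h
    refine (Submodule.disjoint_def.1 hc.disjoint) w hw (LinearMap.mem_ker.2 (LinearMap.ext fun v => ?_))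
    obtain ⟨a, ha, b, hb, rfl⟩ := Submodule.mem_sup.1 (show v ∈ U ⊔ LinearMap.ker C by rw [hc.sup_eq_top]; trivial)
    rw [map_add, h a ha, zero_add, hanti, LinearMap.mem_ker.1 hb, LinearMap.zero_apply, neg_zero]
    rfl
  have q2 : ∀ w ∈ U, N (N w) = 0 := fun w hw =>
    hker _ (hU _ (hU _ hw)) fun u hu => form_cubic h5 hB hC (h3 w) (h3 u)
  have q1 : ∀ w ∈ U, N w = 0 := fun w hw =>
    hker _ (hU _ hw) fun u hu => form_quad h5 hB hC (q2 w hw) (q2 u hu)
  have q0 : ∀ w ∈ U, w = 0 := fun w hw => hker _ hw fun u hu => by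
    have := hB w u
    simp only [q1 w hw, q1 u hu, map_zero, LinearMap.zero_apply, add_zero] at this
    exact this.symm
  have : LinearMap.ker C = ⊤ := by
    rw [← hc.sup_eq_top, show U = ⊥ from (Submodule.eq_bot_iff U).2 q0, bot_sup_eq]
  exact LinearMap.ker_eq_top.1 this

end

/-- Complete reducibility descends to every subgroup above a normal subgroup with quotient of prime power order. -/
theorem cr_comap [FiniteDimensional (ZMod p) M] {Pg : Type*} [Group Pg] [Finite Pg] {Γ : Type*} [Group Γ]
    (ρ : Γ →* LinearMap.GeneralLinearGroup (ZMod p) M) (f : Γ →* Pg) (hPg : IsPGroup p Pg)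
    (h : CR ρ.range) (J : Subgroup Pg) : CR ((J.comap f).map ρ) := by
  haveI := hPg.isNilpotent
  induction J using (wellFounded_gt (α := Subgroup Pg)).induction with
  | h J ih =>
    by_cases hJ : J = ⊤
    · rw [hJ, Subgroup.comap_top, ← MonoidHom.range_eq_map]; exact h
    · have hlt : J < Subgroup.normalizer (J : Set Pg) := normalizerCondition_of_isNilpotent J (lt_top_iff_ne_top.2 hJ)
      refine clifford (Subgroup.map_mono (Subgroup.comap_mono hlt.le)) ?_ (ih _ hlt)
      rintro _ ⟨g, hg, rfl⟩ _ ⟨n, hn, rfl⟩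
      refine ⟨g * n * g⁻¹, ?_, by simp⟩
      show f (g * n * g⁻¹) ∈ J
      rw [map_mul, map_mul, map_inv]
      exact (Subgroup.mem_normalizer_iff.1 hg (f n)).1 hn

end Cfsg.Agent.EquiQuad
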