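import Cfsg.Agent.Lib.EquiQuad.Sylow
import Cfsg.Agent.Lib.FiniteGroup.FittingPow
import Mathlib.GroupTheory.Nilpotent

/-!
Groups whose `p'`-elements are central or fixed by an operator.
-/

set_option autoImplicit false
set_option linter.unusedSectionVars false
set_option linter.style.haveILetI false

namespace Cfsg.Agent.EquiQuad

universe u

variable {X : Type u} [Group X] [Finite X] {p : ℕ} [hp : Fact p.Prime]

theorem exists_pp (p : ℕ) [Fact p.Prime] (y : X) : ∃ a b : X, y = a * b ∧ a ∈ Subgroup.zpowers y ∧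
    b ∈ Subgroup.zpowers y ∧ (∃ e, a ^ p ^ e = 1) ∧ (orderOf b).Coprime p := by
  obtain ⟨e, m, hm, he⟩ := Nat.exists_eq_pow_mul_and_not_dvd (orderOf_pos y).ne' p (Fact.out : p.Prime).ne_one
  have hcm : m.Coprime p := ((Fact.out : p.Prime).coprime_iff_not_dvd.2 hm).symm
  have hb := Nat.gcd_eq_gcd_ab (p ^ e) m
  rw [Nat.Coprime.gcd_eq_one (hcm.symm.pow_left e), Nat.cast_one] at hb
  set u := Nat.gcdA (p ^ e) m
  set v := Nat.gcdB (p ^ e) m
  refine ⟨y ^ ((m : ℤ) * v), y ^ (((p ^ e : ℕ) : ℤ) * u), ?_, Subgroup.zpow_mem_zpowers _ _,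
    Subgroup.zpow_mem_zpowers _ _, ⟨e, ?_⟩, ?_⟩
  · rw [← zpow_add, add_comm, ← hb, zpow_one]
  · rw [← zpow_natCast, ← zpow_mul, ← orderOf_dvd_iff_zpow_eq_one, he]
    exact ⟨v, by push_cast; ring⟩
  · refine Nat.Coprime.coprime_dvd_left (orderOf_dvd_of_pow_eq_one ?_) hcm
    rw [← zpow_natCast, ← zpow_mul, ← orderOf_dvd_iff_zpow_eq_one, he]
    exact ⟨u, by push_cast; ring⟩

/-- If the `p'`-elements are central then the `p`-elements lie in the core. -/
theorem mem_core_of_central {D : Subgroup X}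
    (hc : ∀ k ∈ D, (orderOf k).Coprime p → ∀ h ∈ D, h * k = k * h) {y : X} (hy : y ∈ D)
    (hpy : ∃ e, y ^ p ^ e = 1) : y ∈ core p D := by
  haveI : Group.IsNilpotent D := by
    apply Group.of_quotient_center_nilpotent
    refine IsPGroup.isNilpotent (p := p) ?_
    intro q
    induction q using QuotientGroup.induction_on with
    | H d =>
      obtain ⟨e, m, hm, he⟩ := Nat.exists_eq_pow_mul_and_not_dvd (orderOf_pos (d : X)).ne' p hp.out.ne_one
      have ho : orderOf ((d : X) ^ p ^ e) = m := by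
        rw [orderOf_pow_of_dvd (pow_ne_zero _ hp.out.ne_zero) (he ▸ dvd_mul_right _ _), he,
          Nat.mul_div_cancel_left _ (pow_pos hp.out.pos _)]
      refine ⟨e, ?_⟩
      rw [← QuotientGroup.mk_pow, QuotientGroup.eq_one_iff]
      refine Subgroup.mem_center_iff.2 fun g => Subtype.ext ?_
      exact hc _ (pow_mem d.2 _) (by rw [ho]; exact (hp.out.coprime_iff_not_dvd.2 hm).symm) g g.2
  haveI : Group.IsNilpotent (⊤ : Subgroup D) := Group.nilpotent_of_mulEquiv Subgroup.topEquiv.symm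
  obtain ⟨e, he⟩ := hpy
  refine ⟨⟨y, hy⟩, FiniteGroup.mem_pCore_of_mem_normal_nilpotent (⊤ : Subgroup D) (Subgroup.mem_top _) ?_, rfl⟩
  rw [Subgroup.orderOf_mk]
  obtain ⟨k, -, hk⟩ := (Nat.dvd_prime_pow hp.out).1 (orderOf_dvd_of_pow_eq_one he)
  exact ⟨k, hk⟩

theorem coprime_pow_eq_one {x : X} {a b : ℕ} (ha : x ^ a = 1) (hb : x ^ b = 1) (h : a.Coprime b) : x = 1 := by
  have := pow_gcd_eq_one.2 ⟨ha, hb⟩
  rwa [h.gcd_eq_one, pow_one] at this

/-- An operator fixing the `p'`-elements, all central, twists elements by the core only. -/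
theorem twist_mem_core {A : Subgroup X} (hc : ∀ k ∈ A, (orderOf k).Coprime p → ∀ h ∈ A, h * k = k * h)
    {r : X} (hfix : ∀ k ∈ A, (orderOf k).Coprime p → r * k = k * r) (hA : ∀ y ∈ A, r * y * r⁻¹ ∈ A)
    {h c : X} (hh : r * h * r⁻¹ = h * c) (hcA : c ∈ A) (hcop : (orderOf r).Coprime (orderOf c)) :
    c ∈ core p A := by
  have hr : r ∈ Subgroup.normalizer (A : Set X) := Subgroup.mem_normalizer_fintype hA
  have hrA : ∀ y ∈ A, ∃ q ∈ core p A, r * y * r⁻¹ = y * q := by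
    intro y hy
    obtain ⟨a, b, rfl, ha, hb, hpa, hpb⟩ := exists_pp p y
    have haA : a ∈ A := (Subgroup.zpowers_le.2 hy) ha
    have hbA : b ∈ A := (Subgroup.zpowers_le.2 hy) hb
    have hac : a ∈ core p A := mem_core_of_central hc haA hpa
    refine ⟨b⁻¹ * (a⁻¹ * (r * a * r⁻¹)) * b, ?_, ?_⟩
    · have := core_conj_self (inv_mem hbA) (mul_mem (inv_mem hac) (core_conj hr hac))
      rwa [inv_inv] at this
    · rw [show r * (a * b) * r⁻¹ = (r * a * r⁻¹) * (r * b * r⁻¹) by group,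
        show r * b * r⁻¹ = b by rw [hfix b hbA hpb]; group]
      group
  have key : ∀ n : ℕ, ∃ q ∈ core p A, r ^ n * h * (r ^ n)⁻¹ = h * c ^ n * q := by
    intro n
    induction n with
    | zero => exact ⟨1, one_mem _, by simp⟩
    | succ n ih =>
      obtain ⟨q, hq, e⟩ := ih
      obtain ⟨q', hq', e'⟩ := hrA (c ^ n) (pow_mem hcA n)
      refine ⟨q' * (r * q * r⁻¹), mul_mem hq' (core_conj hr hq), ?_⟩
      rw [pow_succ' r, show r * r ^ n * h * (r * r ^ n)⁻¹ = r * (r ^ n * h * (r ^ n)⁻¹) * r⁻¹ by group, e,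
        show r * (h * c ^ n * q) * r⁻¹ = (r * h * r⁻¹) * (r * c ^ n * r⁻¹) * (r * q * r⁻¹) by group, hh, e',
        pow_succ' c]
      group
  obtain ⟨q, hq, e⟩ := key (orderOf r)
  rw [pow_orderOf_eq_one, one_mul, inv_one, mul_one, mul_assoc] at e
  have e1 : c ^ orderOf r * q = 1 := by
    have := congrArg (h⁻¹ * ·) e
    simpa using this.symm
  obtain ⟨m, hm⟩ := exists_pow_eq_self_of_coprime hcop
  rw [← hm]
  refine pow_mem ?_ m
  rw [eq_inv_of_mul_eq_one_left e1]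
  exact inv_mem hq

/-- An operator fixing all `p'`-elements of a subgroup acts on it trivially modulo the core. -/
theorem comm_mem_core {H : Subgroup X} {r : X} (hr : r ∈ Subgroup.normalizer (H : Set X))
    (hfix : ∀ k ∈ H, (orderOf k).Coprime p → r * k = k * r) (hcop : (orderOf r).Coprime (Nat.card H))
    {h : X} (hh : h ∈ H) : h⁻¹ * (r * h * r⁻¹) ∈ core p H := by
  set c := h⁻¹ * (r * h * r⁻¹) with hc
  have hrc : ∀ y ∈ H, r * y * r⁻¹ ∈ H := fun y hy => (Subgroup.mem_normalizer_iff.1 hr y).1 hy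
  have hcH : c ∈ H := mul_mem (inv_mem hh) (hrc h hh)
  set S : Set X := {k | k ∈ H ∧ (orderOf k).Coprime p}
  set CK := H ⊓ Subgroup.centralizer S
  have hSn : ∀ g ∈ H, ∀ k ∈ S, g * k * g⁻¹ ∈ S := fun g hg k hk =>
    ⟨mul_mem (mul_mem hg hk.1) (inv_mem hg), by
      rw [show g * k * g⁻¹ = MulAut.conj g k from rfl, MulEquiv.orderOf_eq]; exact hk.2⟩
  have hcK : c ∈ CK := by
    refine ⟨hcH, Subgroup.mem_centralizer_iff.2 fun k hk => ?_⟩
    have h1 := hSn h hh k hk
    have e1 := hfix _ h1.1 h1.2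
    have e2 := hfix k hk.1 hk.2
    have e3 : r * h * r⁻¹ * k * (r * h * r⁻¹)⁻¹ = h * k * h⁻¹ := by
      have f1 : r⁻¹ * k * r = k := by rw [mul_assoc, ← e2]; group
      have f2 : r * (h * k * h⁻¹) * r⁻¹ = h * k * h⁻¹ := by rw [e1]; group
      calc r * h * r⁻¹ * k * (r * h * r⁻¹)⁻¹ = r * (h * (r⁻¹ * k * r) * h⁻¹) * r⁻¹ := by group
        _ = _ := by rw [f1, f2]
    have e4 : c * k * c⁻¹ = k := by
      calc c * k * c⁻¹ = h⁻¹ * (r * h * r⁻¹ * k * (r * h * r⁻¹)⁻¹) * h := by rw [hc]; group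
        _ = k := by rw [e3]; group
    exact (mul_inv_eq_iff_eq_mul.1 e4).symm
  have hle : core p CK ≤ core p H := by
    refine le_core (G := H) ((core_le p CK).trans inf_le_left) (fun g hg y hy => core_conj ?_ hy) (core_isPGroup CK)
    refine Subgroup.mem_normalizer_fintype fun y (hy : y ∈ CK) =>
      Subgroup.mem_inf.2 ⟨mul_mem (mul_mem hg hy.1) (inv_mem hg), ?_⟩
    refine Subgroup.mem_centralizer_iff.2 fun k hk => ?_
    have h1 := hSn _ (inv_mem hg) k hk
    have := Subgroup.mem_centralizer_iff.1 hy.2 _ h1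
    calc k * (g * y * g⁻¹) = g * ((g⁻¹ * k * g⁻¹⁻¹) * y) * g⁻¹ := by group
      _ = g * (y * (g⁻¹ * k * g⁻¹⁻¹)) * g⁻¹ := by rw [this]
      _ = _ := by group
  refine hle (twist_mem_core (A := CK) (fun k hk hko x hx => ?_) (fun k hk hko => hfix k hk.1 hko) (fun y hy => ?_)
    (h := h) (by rw [hc]; group) hcK (hcop.coprime_dvd_right (Subgroup.orderOf_dvd_natCard _ hcH)))
  · exact (Subgroup.mem_centralizer_iff.1 hx.2 k ⟨hk.1, hko⟩).symm
  · refine ⟨hrc y hy.1, Subgroup.mem_centralizer_iff.2 fun k hk => ?_⟩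
    have e : r * k = k * r := hfix k hk.1 hk.2
    have e' : r⁻¹ * k = k * r⁻¹ := (show Commute r k from e).inv_left.eq
    calc k * (r * y * r⁻¹) = (k * r) * y * r⁻¹ := by group
      _ = r * (k * y) * r⁻¹ := by rw [← e]; group
      _ = r * (y * k) * r⁻¹ := by rw [Subgroup.mem_centralizer_iff.1 hy.2 k hk]
      _ = r * y * (k * r⁻¹) := by group
      _ = _ := by rw [← e']; group

end Cfsg.Agent.EquiQuad
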