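import Cfsg.Agent.Lib.EquiQuad.Basic
import Mathlib.LinearAlgebra.Dimension.Finrank
import Mathlib.LinearAlgebra.FreeModule.Finite.Basic
import Mathlib.GroupTheory.Commutator.Basic

/-!
The linear representation of a group on an elementary abelian normal section.
-/

set_option autoImplicit false
set_option maxHeartbeats 1000000
set_option synthInstance.maxHeartbeats 200000

namespace Cfsg.Agent.EquiQuad

open UniFamily
open scoped commutatorElement

universe u

variable {X : Type u} [Group X] [Finite X] {p : ℕ} [hp : Fact p.Prime]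

/-- A representation on a normal section `A / Z`. -/
structure SecRep (p : ℕ) [Fact p.Prime] (A Z : Subgroup X) where
  n : ℕ
  ψ : A → Fin n → ZMod p
  surj : Function.Surjective ψ
  map_mul' : ∀ x y : A, ψ (x * y) = ψ x + ψ y
  ker' : ∀ x : A, ψ x = 0 ↔ (x : X) ∈ Z
  ρ : X →* LinearMap.GeneralLinearGroup (ZMod p) (Fin n → ZMod p)
  equiv' : ∀ (g : X) (x : A) (h : g * x * g⁻¹ ∈ A),
    (ρ g : (Fin n → ZMod p) →ₗ[ZMod p] (Fin n → ZMod p)) (ψ x) = ψ ⟨g * x * g⁻¹, h⟩

theorem exists_linear {A Z : Subgroup X} (hA : A.Normal) {V : Type u} [AddCommGroup V] [Finite V]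
    [Module (ZMod p) V] (π : A → V) (hπ : Function.Surjective π) (hadd : ∀ x y, π (x * y) = π x + π y)
    (hker : ∀ x : A, π x = 0 ↔ (x : X) ∈ Z) (c : X → V →+ V)
    (hc : ∀ g x, c g (π x) = π (MulAut.conjNormal (H := A) g x)) :
    Nonempty (SecRep p A Z) := by
  haveI := hA
  have h1 : ∀ v, c 1 v = v := fun v => by
    obtain ⟨x, rfl⟩ := hπ v
    rw [hc, map_one]; rfl
  have hm : ∀ g h v, c (g * h) v = c g (c h v) := fun g h v => by
    obtain ⟨x, rfl⟩ := hπ v
    rw [hc, hc, hc, map_mul]; rfl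
  haveI : Module.Finite (ZMod p) V := Module.Finite.of_finite
  let e := (Module.finBasis (ZMod p) V).equivFun
  let L : X → Module.End (ZMod p) (Fin (Module.finrank (ZMod p) V) → ZMod p) := fun g =>
    e.toLinearMap.comp (((c g).toZModLinearMap p).comp e.symm.toLinearMap)
  have hL : ∀ g v, L g (e v) = e (c g v) := fun g v => by
    show e (c g (e.symm (e v))) = _
    rw [e.symm_apply_apply]
  let r' : X →* Module.End (ZMod p) (Fin (Module.finrank (ZMod p) V) → ZMod p) :=
    { toFun := L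
      map_one' := by
        apply LinearMap.ext; intro w
        obtain ⟨v, rfl⟩ := e.surjective w
        rw [hL, h1]; rfl
      map_mul' := fun g h => by
        apply LinearMap.ext; intro w
        obtain ⟨v, rfl⟩ := e.surjective w
        rw [Module.End.mul_apply, hL, hL, hL, hm] }
  exact ⟨{
    n := _
    ψ := fun x => e (π x)
    surj := e.surjective.comp hπ
    map_mul' := fun x y => by rw [hadd, map_add]
    ker' := fun x => by rw [LinearEquiv.map_eq_zero_iff, hker]
    ρ := r'.toHomUnits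
    equiv' := fun g x h => by
      show L g (e (π x)) = _
      rw [hL, hc]
      rfl }⟩

theorem exists_secRep {A Z : Subgroup X} (hA : A.Normal) (hZ : Z.Normal)
    (hcomm : ⁅A, A⁆ ≤ Z) (hpow : ∀ x ∈ A, x ^ p ∈ Z) : Nonempty (SecRep p A Z) := by
  classical
  haveI := hA
  haveI hZA : (Z.subgroupOf A).Normal := hZ.subgroupOf A
  have hc : ∀ a b : A ⧸ Z.subgroupOf A, a * b = b * a := by
    intro a b
    induction a using QuotientGroup.induction_on with
    | H a =>
      induction b using QuotientGroup.induction_on with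
      | H b =>
        refine (QuotientGroup.eq (s := Z.subgroupOf A)).2 ?_
        show ((a : X) * b)⁻¹ * (b * a) ∈ Z
        have := hcomm (Subgroup.commutator_mem_commutator (inv_mem b.2) (inv_mem a.2))
        rw [commutatorElement_def] at this
        convert this using 1
        group
  letI : CommGroup (A ⧸ Z.subgroupOf A) := CommGroup.mk hc
  have hexp : ∀ x : Additive (A ⧸ Z.subgroupOf A), p • x = 0 := by
    intro x
    obtain ⟨a, ha⟩ := QuotientGroup.mk_surjective (Additive.toMul x)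
    apply Additive.toMul.injective
    rw [toMul_nsmul, toMul_zero, ← ha, ← QuotientGroup.mk_pow, QuotientGroup.eq_one_iff]
    exact hpow a a.2
  letI : Module (ZMod p) (Additive (A ⧸ Z.subgroupOf A)) := AddCommGroup.zmodModule hexp
  let cj : X → Additive (A ⧸ Z.subgroupOf A) →+ Additive (A ⧸ Z.subgroupOf A) := fun g =>
    MonoidHom.toAdditive (QuotientGroup.map _ _ ((MulAut.conjNormal (H := A) g).toMonoidHom) (fun x hx => by
        show g * (x : X) * g⁻¹ ∈ Z
        exact hZ.conj_mem _ hx g))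
  refine exists_linear hA (fun x : A => Additive.ofMul (QuotientGroup.mk (s := Z.subgroupOf A) x)) ?_
    (fun x y => by rw [QuotientGroup.mk_mul, ofMul_mul]) (fun x => ?_) cj (fun g x => rfl)
  · intro v
    obtain ⟨a, ha⟩ := QuotientGroup.mk_surjective (Additive.toMul v)
    exact ⟨a, by show Additive.ofMul _ = v; rw [ha, ofMul_toMul]⟩
  · rw [ofMul_eq_zero, QuotientGroup.eq_one_iff, Subgroup.mem_subgroupOf]

namespace SecRep

variable {A Z : Subgroup X} (S : SecRep p A Z)

theorem map_one : S.ψ 1 = 0 := (S.ker' 1).2 (one_mem Z)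

theorem map_inv (x : A) : S.ψ x⁻¹ = -S.ψ x := by
  have := S.map_mul' x⁻¹ x
  rw [inv_mul_cancel, S.map_one] at this
  exact eq_neg_of_add_eq_zero_left this.symm

theorem eq_iff (x y : A) : S.ψ x = S.ψ y ↔ (x : X)⁻¹ * y ∈ Z := by
  have := S.ker' (x⁻¹ * y)
  rw [S.map_mul', S.map_inv, neg_add_eq_zero] at this
  exact this

theorem dev_apply_psi (hA : A.Normal) (g : X) (x : A) :
    dev (S.ρ g) (S.ψ x) =
      S.ψ ⟨⁅g, (x : X)⁆, Subgroup.mul_mem A (hA.conj_mem x x.2 g) (A.inv_mem x.2)⟩ := by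
  rw [QuadPair.dev_apply, S.equiv' g x (hA.conj_mem x x.2 g), sub_eq_add_neg, ← S.map_inv, ← S.map_mul']
  rfl

theorem dev_eq (hA : A.Normal) {g : X} : dev (S.ρ g) = 0 ↔ ∀ x ∈ A, ⁅g, x⁆ ∈ Z := by
  refine ⟨fun h x hx => ?_, fun h => LinearMap.ext fun v => ?_⟩
  · have := S.dev_apply_psi hA g ⟨x, hx⟩
    rw [h, LinearMap.zero_apply, eq_comm, S.ker'] at this
    exact this
  · obtain ⟨x, rfl⟩ := S.surj v
    rw [S.dev_apply_psi hA, LinearMap.zero_apply, S.ker']
    exact h x x.2

theorem dev_sq_eq (hA : A.Normal) {g : X} :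
    dev (S.ρ g) * dev (S.ρ g) = 0 ↔ ∀ x ∈ A, ⁅g, ⁅g, x⁆⁆ ∈ Z := by
  refine ⟨fun h x hx => ?_, fun h => LinearMap.ext fun v => ?_⟩
  · have := LinearMap.congr_fun h (S.ψ ⟨x, hx⟩)
    rw [Module.End.mul_apply, S.dev_apply_psi hA, S.dev_apply_psi hA, LinearMap.zero_apply, S.ker'] at this
    exact this
  · obtain ⟨x, rfl⟩ := S.surj v
    rw [Module.End.mul_apply, S.dev_apply_psi hA, S.dev_apply_psi hA, LinearMap.zero_apply, S.ker']
    exact h x x.2

/-- The full inverse image of a stable subspace. -/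
def pre (W : Submodule (ZMod p) (Fin S.n → ZMod p)) : Subgroup X :=
  Subgroup.map A.subtype
    { carrier := {x | S.ψ x ∈ W}
      one_mem' := by show S.ψ 1 ∈ W; rw [S.map_one]; exact zero_mem _
      mul_mem' := fun {a b} ha hb => by show S.ψ (a * b) ∈ W; rw [S.map_mul']; exact add_mem ha hb
      inv_mem' := fun {a} ha => by show S.ψ a⁻¹ ∈ W; rw [S.map_inv]; exact neg_mem ha }

theorem pre_le (W : Submodule (ZMod p) (Fin S.n → ZMod p)) : S.pre W ≤ A := Subgroup.map_subtype_le _

theorem mem_pre {W : Submodule (ZMod p) (Fin S.n → ZMod p)} (x : A) : (x : X) ∈ S.pre W ↔ S.ψ x ∈ W := by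
  constructor
  · rintro ⟨y, hy, e⟩
    rwa [← Subtype.ext (show (y : X) = x from e)]
  · exact fun h => ⟨x, h, rfl⟩

end SecRep

end Cfsg.Agent.EquiQuad
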