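import Cfsg.Agent.Lib.EquiQuad.Key
import Cfsg.Agent.Lib.EquiQuad.FormAlg
import Cfsg.Agent.Lib.EquiQuad.SectionRep
import Cfsg.Agent.Lib.EquiQuad.PCentral

/-!
Minimal noncentral sections of the p-core and the elements of invariant Sylow subgroups acting on them.
-/

set_option autoImplicit false
set_option linter.unusedSectionVars false
set_option linter.style.haveILetI false

namespace Cfsg.Agent.EquiQuad

open UniFamily QuadPair
open scoped commutatorElement

universe u

variable {X : Type u} [Group X] [Finite X] {p : ℕ} [hp : Fact p.Prime] {G R P Q : Subgroup X}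

/-- The standing hypotheses. -/
structure Setting (p : ℕ) (G R P Q : Subgroup X) : Prop where
  normal : G.Normal
  gen : G ⊔ R = ⊤
  cop : (Nat.card R).Coprime (Nat.card G)
  solv : Group.IsSolvable R
  all : ∀ x ∈ P, InAllSyl p G R x
  le : P ≤ G
  qle : Q ≤ P
  qnormal : Q.Normal
  qpgroup : IsPGroup p Q
  qmax : ∀ N : Subgroup X, N.Normal → N ≤ G → IsPGroup p N → N ≤ Q
  cent : ∀ k ∈ G, (orderOf k).Coprime p → (∀ q ∈ Q, q * k = k * q) → ∀ x ∈ P, x * k = k * x
  ppow : ∀ x ∈ P, ∃ e, x ^ p ^ e = 1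

/-- A minimal noncentral section of the core. -/
structure Block (p : ℕ) (Q A Z : Subgroup X) : Prop where
  anormal : A.Normal
  znormal : Z.Normal
  le : A ≤ Q
  lt : Z < A
  irr : ∀ Y : Subgroup X, Y.Normal → Y < A → Y ≤ Z
  central : ⁅A, Z⁆ = ⊥
  qcomm : ⁅Q, A⁆ ≤ Z
  pow : ∀ x ∈ A, x ^ p ∈ Z

theorem Block.comm {A Z : Subgroup X} (b : Block p Q A Z) : ⁅A, A⁆ ≤ Z :=
  (Subgroup.commutator_mono b.le le_rfl).trans b.qcomm

theorem Block.commute {A Z : Subgroup X} (b : Block p Q A Z) {x z : X} (hx : x ∈ A) (hz : z ∈ Z) :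
    x * z = z * x :=
  (Subgroup.mem_centralizer_iff.1 (Subgroup.commutator_eq_bot_iff_le_centralizer.1 b.central hx) z hz).symm

theorem Block.qquad {A Z : Subgroup X} (b : Block p Q A Z) : ⁅A, ⁅Q, A⁆⁆ = ⊥ :=
  eq_bot_iff.2 ((Subgroup.commutator_mono le_rfl b.qcomm).trans b.central.le)

/-- An element of a p-group fixed modulo the centraliser of a p'-element is fixed. -/
theorem comm_eq_one {k c x : X} {m : ℕ} (hk : k ^ m = 1) (hc : Commute k c) (hcx : k * x * k⁻¹ = c * x)
    {e : ℕ} (he : c ^ e = 1) (hme : Nat.Coprime m e) : c = 1 := by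
  have key : ∀ n : ℕ, k ^ n * x * (k ^ n)⁻¹ = c ^ n * x := by
    intro n
    induction n with
    | zero => simp
    | succ n ih =>
      rw [pow_succ' k, show k * k ^ n * x * (k * k ^ n)⁻¹ = k * (k ^ n * x * (k ^ n)⁻¹) * k⁻¹ by group, ih,
        show k * (c ^ n * x) * k⁻¹ = (k * c ^ n) * x * k⁻¹ by group, (hc.pow_right n).eq,
        show c ^ n * k * x * k⁻¹ = c ^ n * (k * x * k⁻¹) by group, hcx, ← mul_assoc, ← pow_succ]
  have h := key m
  rw [hk, inv_one, one_mul, mul_one] at h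
  have hm : c ^ m = 1 := by
    have := congrArg (· * x⁻¹) h
    simpa using this.symm
  have := pow_gcd_eq_one.2 ⟨hm, he⟩
  rwa [Nat.Coprime.gcd_eq_one hme, pow_one] at this

theorem commutator_lt (hQp : IsPGroup p Q) {Y : Subgroup X} (hYn : Y.Normal) (hY : Y ≤ Q) (hne : Y ≠ ⊥) :
    ⁅Q, Y⁆ < Y := by
  haveI := hYn
  refine lt_of_le_of_ne (Subgroup.commutator_le_right Q Y) fun h => hne ?_
  have hnil := hQp.isNilpotent
  obtain ⟨n, hn⟩ := (Subgroup.nilpotent_iff_lowerCentralSeries (G := Q)).1 hnil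
  have : ∀ n, Y ≤ ((⊤ : Subgroup Q).lowerCentralSeries n).map Q.subtype := by
    intro n
    induction n with
    | zero =>
      rw [Subgroup.lowerCentralSeries_zero, ← MonoidHom.range_eq_map, Subgroup.range_subtype]
      exact hY
    | succ n ih =>
      rw [Subgroup.lowerCentralSeries_succ, Subgroup.map_commutator, ← MonoidHom.range_eq_map,
        Subgroup.range_subtype]
      calc Y = ⁅Q, Y⁆ := h.symm
        _ = ⁅Y, Q⁆ := Subgroup.commutator_comm Q Y
        _ ≤ _ := Subgroup.commutator_mono ih le_rfl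
  have := this n
  rw [hn, Subgroup.map_bot] at this
  exact le_bot_iff.1 this

theorem exists_block (h : Setting p G R P Q) {y : X} (hy : y ∈ P) (hyQ : y ∉ Q) :
    ∃ A Z, Block p Q A Z ∧ ¬ ∀ x ∈ A, ⁅y, x⁆ ∈ Z := by
  classical
  haveI := h.normal
  haveI := h.qnormal
  set H := Subgroup.normalClosure ({y} : Set X) with hH
  have hHG : H ≤ G := Subgroup.normalClosure_le_normal (by simpa using h.le hy)
  set S : Set X := {k | k ∈ H ∧ (orderOf k).Coprime p}
  set K := Subgroup.closure S with hK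
  have hKH : K ≤ H := (Subgroup.closure_le _).2 fun k hk => hk.1
  have hKn : K.Normal := by
    refine ⟨fun k hk g => ?_⟩
    refine Subgroup.closure_induction (fun a ha => Subgroup.subset_closure ⟨Subgroup.normalClosure_normal.conj_mem a ha.1 g, ?_⟩)
      (by simp) (fun a b _ _ ha hb => ?_) (fun a _ ha => ?_) hk
    · rw [show g * a * g⁻¹ = MulAut.conj g a from rfl, MulEquiv.orderOf_eq]; exact ha.2
    · rw [show g * (a * b) * g⁻¹ = (g * a * g⁻¹) * (g * b * g⁻¹) by group]; exact mul_mem ha hb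
    · rw [show g * a⁻¹ * g⁻¹ = (g * a * g⁻¹)⁻¹ by group]; exact inv_mem ha
  haveI := hKn
  have hQK : ⁅Q, K⁆ ≠ ⊥ := by
    intro hb
    have hcy : ∀ k ∈ S, y * k = k * y := fun k hk => h.cent k (hHG hk.1) hk.2
      (fun q hq => Subgroup.mem_centralizer_iff.1 (Subgroup.commutator_eq_bot_iff_le_centralizer.1
        (by rwa [Subgroup.commutator_comm]) (Subgroup.subset_closure hk)) q hq) y hy
    have hHK : H ≤ Subgroup.centralizer (K : Set X) := by
      refine Subgroup.normalClosure_le_normal ?_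
      rintro _ rfl
      rw [hK, Subgroup.centralizer_closure]
      exact Subgroup.mem_centralizer_iff.2 fun k hk => (hcy k hk).symm
    have hyH : y ∈ H := Subgroup.subset_normalClosure rfl
    have hycore : y ∈ core p H := mem_core_of_central (fun k hk hko x hx =>
      (Subgroup.mem_centralizer_iff.1 (hHK hx) k (Subgroup.subset_closure ⟨hk, hko⟩)).symm)
      hyH (h.ppow y hy)
    refine hyQ (h.qmax (core p H) ⟨fun x hx g => core_conj ?_ hx⟩ ((core_le p H).trans hHG)
      (core_isPGroup H) hycore)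
    haveI : H.Normal := Subgroup.normalClosure_normal
    rw [Subgroup.normalizer_eq_top]; trivial
  obtain ⟨A, ⟨hAn, hAQ, hAK⟩, hmin⟩ := Set.Finite.exists_minimal
    (Set.toFinite {A : Subgroup X | A.Normal ∧ A ≤ Q ∧ ⁅A, K⁆ ≠ ⊥}) ⟨Q, h.qnormal, le_rfl, hQK⟩
  haveI := hAn
  set Z := A ⊓ Subgroup.centralizer (K : Set X) with hZ
  have hbot : ∀ Y : Subgroup X, ⁅Y, K⁆ = ⊥ ↔ Y ≤ Subgroup.centralizer (K : Set X) := fun Y =>
    Subgroup.commutator_eq_bot_iff_le_centralizer
  have hirr : ∀ Y : Subgroup X, Y.Normal → Y < A → Y ≤ Z := by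
    intro Y hY hlt
    refine le_inf hlt.le ((hbot Y).1 ?_)
    by_contra hne
    exact absurd (hmin ⟨hY, hlt.le.trans hAQ, hne⟩ hlt.le) (not_le_of_gt hlt)
  have hlt : Z < A := lt_of_le_of_ne inf_le_left fun e => hAK ((hbot A).2 (e ▸ inf_le_right))
  have hZn : Z.Normal := inferInstanceAs (A ⊓ Subgroup.centralizer (K : Set X)).Normal
  haveI := hZn
  have hfull : ⁅A, K⁆ = A := by
    refine le_antisymm (Subgroup.commutator_le_left A K) ?_
    by_contra hnle
    have hle : ⁅A, K⁆ ≤ Z := hirr _ inferInstance (lt_of_le_of_ne (Subgroup.commutator_le_left A K)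
      fun e => hnle e.ge)
    refine hAK ((hbot A).2 fun x hx => Subgroup.mem_centralizer_iff.2 ?_)
    intro k hk
    refine Subgroup.closure_induction (p := fun k _ => k * x = x * k) (fun a ha => ?_) (by simp)
      (fun a b _ _ ha hb => by rw [mul_assoc, hb, ← mul_assoc, ha, mul_assoc])
      (fun a _ ha => (show Commute a x from ha).inv_left.eq) hk
    have hc : ⁅a, x⁆ ∈ Z := hle (by
      rw [Subgroup.commutator_comm]
      exact Subgroup.commutator_mem_commutator (Subgroup.subset_closure ha) hx)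
    obtain ⟨b, hb⟩ := h.qpgroup ⟨_, hAQ hc.1⟩
    have := comm_eq_one (k := a) (c := ⁅a, x⁆) (x := x) (pow_orderOf_eq_one a)
      (Subgroup.mem_centralizer_iff.1 hc.2 a (Subgroup.subset_closure ha))
      (by rw [commutatorElement_def]; group) (congrArg Subtype.val hb) (ha.2.pow_right b)
    rw [commutatorElement_eq_one_iff_mul_comm] at this
    exact this
  have hZK : ⁅Z, K⁆ = ⊥ := (hbot Z).2 inf_le_right
  have hAne : A ≠ ⊥ := fun e => hAK (by rw [e, Subgroup.commutator_bot_left])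
  have hcen : ⁅A, Z⁆ = ⊥ := by
    have h1 : ⁅⁅K, Z⁆, A⁆ = ⊥ := by rw [Subgroup.commutator_comm K Z, hZK, Subgroup.commutator_bot_left]
    have h2 : ⁅⁅Z, A⁆, K⁆ = ⊥ := (hbot _).2 ((Subgroup.commutator_le_left Z A).trans inf_le_right)
    have := Subgroup.commutator_commutator_eq_bot_of_rotate (H₁ := A) (H₂ := K) (H₃ := Z) h1 h2
    rwa [hfull] at this
  have hq : ⁅Q, A⁆ ≤ Z := hirr _ inferInstance (commutator_lt h.qpgroup hAn hAQ hAne)
  have hcl : ⁅A, A⁆ ≤ Z := (Subgroup.commutator_mono hAQ le_rfl).trans hq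
  refine ⟨A, Z, ⟨hAn, hZn, hAQ, hlt, hirr, hcen, hq, ?_⟩, ?_⟩
  · -- the power map of the section is trivial
    set Y := Z ⊔ Subgroup.closure ((fun x => x ^ p) '' (A : Set X)) with hY
    have hYA : Y ≤ A := sup_le inf_le_left ((Subgroup.closure_le _).2 (by
      rintro _ ⟨x, hx, rfl⟩; exact pow_mem hx p))
    have hYn : Y.Normal := by
      suffices hcl' : (Subgroup.closure ((fun x => x ^ p) '' (A : Set X))).Normal from
        Subgroup.sup_normal Z _
      refine ⟨fun k hk g => ?_⟩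
      have : (Subgroup.closure ((fun x => x ^ p) '' (A : Set X))).map (MulAut.conj g).toMonoidHom ≤
          Subgroup.closure ((fun x => x ^ p) '' (A : Set X)) := by
        rw [MonoidHom.map_closure]
        refine Subgroup.closure_mono ?_
        rintro _ ⟨_, ⟨x, hx, rfl⟩, rfl⟩
        exact ⟨g * x * g⁻¹, hAn.conj_mem x hx g, by simp [conj_pow]⟩
      exact this ⟨k, hk, rfl⟩
    rcases eq_or_lt_of_le hYA with e | e
    · exfalso
      haveI : (Z.subgroupOf A).Normal := hZn.subgroupOf A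
      have hc : ∀ a b : A ⧸ Z.subgroupOf A, a * b = b * a := by
        intro a b
        induction a using QuotientGroup.induction_on with
        | H a =>
          induction b using QuotientGroup.induction_on with
          | H b =>
            refine (QuotientGroup.eq (s := Z.subgroupOf A)).2 ?_
            show ((a : X) * b)⁻¹ * (b * a) ∈ Z
            have := hcl (Subgroup.commutator_mem_commutator (inv_mem b.2) (inv_mem a.2))
            rw [commutatorElement_def] at this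
            convert this using 1
            group
      letI : CommGroup (A ⧸ Z.subgroupOf A) := CommGroup.mk hc
      set f : A ⧸ Z.subgroupOf A →* A ⧸ Z.subgroupOf A := powMonoidHom p
      have htop : f.range = ⊤ := by
        have : (⊤ : Subgroup A) ≤ f.range.comap (QuotientGroup.mk' _) := by
          have hle : Y.subgroupOf A ≤ f.range.comap (QuotientGroup.mk' _) := by
            have hle' : Y ≤ (f.range.comap (QuotientGroup.mk' _)).map A.subtype := by
              refine sup_le (fun z hz => ⟨⟨z, hz.1⟩, ?_, rfl⟩) ((Subgroup.closure_le _).2 ?_)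
              · show (QuotientGroup.mk _ : A ⧸ Z.subgroupOf A) ∈ f.range
                rw [(QuotientGroup.eq_one_iff _).2 (show (⟨z, hz.1⟩ : A) ∈ Z.subgroupOf A from hz)]
                exact one_mem _
              · rintro _ ⟨x, hx, rfl⟩
                exact ⟨⟨x, hx⟩ ^ p, ⟨QuotientGroup.mk ⟨x, hx⟩, rfl⟩, rfl⟩
            intro a ha
            obtain ⟨b, hb, hba⟩ := hle' ha
            rwa [← Subtype.ext (show (b : X) = a from hba)]
          rwa [e, Subgroup.subgroupOf_self] at hle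
        rw [eq_top_iff]
        intro q _
        obtain ⟨a, rfl⟩ := QuotientGroup.mk_surjective q
        exact this (Subgroup.mem_top a)
      have hinj : Function.Injective f := Finite.injective_iff_surjective.2 (MonoidHom.range_eq_top.1 htop)
      obtain ⟨a, ha, haZ⟩ := SetLike.exists_of_lt hlt
      obtain ⟨b, hb⟩ := (h.qpgroup.to_le hAQ) ⟨a, ha⟩
      have h0 : ∀ n, (f^[n]) (QuotientGroup.mk ⟨a, ha⟩) = QuotientGroup.mk (⟨a, ha⟩ ^ p ^ n) := fun n => by
        induction n with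
        | zero => simp
        | succ n ih => rw [Function.iterate_succ_apply', ih, pow_succ, pow_mul]; rfl
      have h1 := h0 b
      rw [hb] at h1
      have := (hinj.iterate b) (h1.trans (Function.iterate_fixed (map_one f) b).symm)
      exact haZ (Subgroup.mem_subgroupOf.1 ((QuotientGroup.eq_one_iff (⟨a, ha⟩ : A)).1 this))
    · intro x hx
      exact hirr Y hYn e (le_sup_right (a := Z) (Subgroup.subset_closure ⟨x, hx, rfl⟩))
  · intro hyA
    have hC : H ≤ (Subgroup.centralizer ((A.map (QuotientGroup.mk' Z) : Subgroup (X ⧸ Z)) : Set (X ⧸ Z))).comap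
        (QuotientGroup.mk' Z) := by
      haveI : (A.map (QuotientGroup.mk' Z)).Normal := hAn.map _ (QuotientGroup.mk'_surjective Z)
      refine Subgroup.normalClosure_le_normal ?_
      rintro _ rfl
      refine Subgroup.mem_centralizer_iff.2 ?_
      rintro _ ⟨x, hx, rfl⟩
      have := (QuotientGroup.eq_one_iff (N := Z) _).2 (hyA x hx)
      rw [← QuotientGroup.mk'_apply, map_commutatorElement, commutatorElement_eq_one_iff_mul_comm] at this
      exact this.symm
    refine hlt.ne (le_antisymm hlt.le ?_)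
    calc A = ⁅A, K⁆ := hfull.symm
      _ ≤ Z := by
        refine Subgroup.commutator_le.2 fun x hx k hk => ?_
        have := Subgroup.mem_centralizer_iff.1 (hC (hKH hk)) _ ⟨x, hx, rfl⟩
        rw [← QuotientGroup.eq_one_iff (N := Z), ← QuotientGroup.mk'_apply, map_commutatorElement,
          commutatorElement_eq_one_iff_mul_comm]
        exact this

theorem cr_range {A Z : Subgroup X} (b : Block p Q A Z) (S : SecRep p A Z) : CR S.ρ.range := by
  intro W hW
  have hbot : Stable S.ρ.range (⊥ : Submodule (ZMod p) (Fin S.n → ZMod p)) := fun g _ v hv => by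
    rw [(Submodule.mem_bot (ZMod p)).1 hv, map_zero]; exact zero_mem _
  have hn : (S.pre W).Normal := by
    refine ⟨fun x hx g => ?_⟩
    obtain ⟨x, rfl⟩ : ∃ a : A, (a : X) = x := ⟨⟨x, S.pre_le W hx⟩, rfl⟩
    have hg := b.anormal.conj_mem x x.2 g
    refine (S.mem_pre (W := W) ⟨_, hg⟩).2 ?_
    rw [← S.equiv' g x hg]
    exact hW _ ⟨g, rfl⟩ _ ((S.mem_pre x).1 hx)
  rcases eq_or_lt_of_le (S.pre_le W) with e | e
  · refine ⟨⊥, hbot, ?_⟩
    have : W = ⊤ := eq_top_iff.2 fun v _ => by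
      obtain ⟨x, rfl⟩ := S.surj v
      exact (S.mem_pre x).1 (e.ge x.2)
    exact this ▸ isCompl_top_bot
  · refine ⟨⊤, fun _ _ _ _ => trivial, ?_⟩
    have : W = ⊥ := (Submodule.eq_bot_iff W).2 fun v hv => by
      obtain ⟨x, rfl⟩ := S.surj v
      exact (S.ker' x).2 (b.irr _ hn e ((S.mem_pre x).2 hv))
    exact this ▸ isCompl_bot_top

theorem core_of_quad (h : Setting p G R P Q) (h5 : 5 ≤ p) {A Z : Subgroup X} (S : SecRep p A Z) {b : X}
    (hb : b ∈ P) (hq : dev (S.ρ b) * dev (S.ρ b) = 0) : S.ρ b ∈ core p (G.map S.ρ) := by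
  haveI := h.normal
  have hnorm : R ≤ Subgroup.normalizer (G : Set X) := by rw [Subgroup.normalizer_eq_top]; exact le_top
  have hnorm' : R.map S.ρ ≤ Subgroup.normalizer ((G.map S.ρ : Subgroup _) : Set _) :=
    (Subgroup.map_mono hnorm).trans (Subgroup.le_normalizer_map S.ρ)
  haveI := h.solv
  exact mem_core h5 _ (Fin S.n → ZMod p) rfl _ (R.map S.ρ) hnorm'
    ((h.cop.coprime_dvd_left (Subgroup.card_map_dvd R S.ρ)).coprime_dvd_right (Subgroup.card_map_dvd G S.ρ))
    (Or.inl (Group.isSolvable_of_surjective (f := S.ρ.subgroupMap R) (S.ρ.subgroupMap_surjective R)))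
    _ ⟨b, h.le hb, rfl⟩ hq (inAll_map S.ρ hnorm h.cop (Or.inl h.solv) (h.all b hb))

theorem range_le_normalizer (h : Setting p G R P Q) {Y : Type*} [Group Y] (f : X →* Y) :
    f.range ≤ Subgroup.normalizer ((G.map f : Subgroup Y) : Set Y) := by
  haveI := h.normal
  refine le_trans ?_ (Subgroup.le_normalizer_map f)
  rw [Subgroup.normalizer_eq_top, ← MonoidHom.range_eq_map]

theorem quad_trivial (h : Setting p G R P Q) (h5 : 5 ≤ p) {A Z : Subgroup X} (b : Block p Q A Z) {y : X}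
    (hy : y ∈ P) (hq : ∀ x ∈ A, ⁅y, ⁅y, x⁆⁆ ∈ Z) : ∀ x ∈ A, ⁅y, x⁆ ∈ Z := by
  obtain ⟨S⟩ := exists_secRep (p := p) b.anormal b.znormal b.comm b.pow
  have hc := core_of_quad h h5 S hy ((S.dev_sq_eq b.anormal).2 hq)
  have := noUni_of_CR (cr_range b S) (core p (G.map S.ρ))
    ((core_le p _).trans (Subgroup.map_le_range _ _)) (unipotent_of_pgroup (core_isPGroup _))
    fun g hg n hn => core_conj (range_le_normalizer h S.ρ hg) hn
  rw [this, Subgroup.mem_bot] at hc
  refine (S.dev_eq b.anormal).1 ?_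
  rw [hc, dev_one]

theorem crit (h : Setting p G R P Q) (h5 : 5 ≤ p) {B : Subgroup X} (hB : B ≤ P)
    (hq : ∀ A Z, Block p Q A Z → ∀ y ∈ B, ∀ x ∈ A, ⁅y, ⁅y, x⁆⁆ ∈ Z) : B ≤ Q := by
  intro y hy
  by_contra hn
  obtain ⟨A, Z, b, hne⟩ := exists_block h (hB hy) hn
  exact hne (quad_trivial h h5 b (hB hy) (hq A Z b y hy))

/-- A class two subgroup acting quadratically on the derived group of a section centralises it. -/
theorem cubic (h : Setting p G R P Q) (h5 : 5 ≤ p) {A Z : Subgroup X} (b : Block p Q A Z) {M : Subgroup X}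
    (hM : M ≤ P) (hMA : ⁅M, A⁆ ≤ M) (hcl : ⁅⁅M, M⁆, M⁆ = ⊥) (hq : ⁅M, ⁅M, ⁅A, A⁆⁆⁆ = ⊥) :
    ⁅⁅A, A⁆, M⁆ = ⊥ := by
  classical
  haveI := b.anormal
  haveI := b.znormal
  set D := ⁅A, A⁆ with hD
  have hDn : D.Normal := inferInstanceAs (⁅A, A⁆).Normal
  have hDA : D ≤ A := Subgroup.commutator_le_left A A
  have hDcen : ∀ d ∈ D, ∀ x ∈ A, x * d = d * x := fun d hd x hx => b.commute hx (b.comm hd)
  have hDD : ⁅D, D⁆ ≤ (⊥ : Subgroup X) :=
    (Subgroup.commutator_mono hDA b.comm).trans b.central.le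
  have hDp : ∀ d ∈ D, d ^ p = 1 := by
    intro d hd
    have : ∀ d ∈ D, d ^ p = 1 ∧ d ∈ D := by
      intro d hd
      refine Subgroup.closure_induction (p := fun d _ => d ^ p = 1 ∧ d ∈ D) ?_ ⟨one_pow p, one_mem _⟩
        (fun a c _ _ ha hc => ?_) (fun a _ ha => ⟨by rw [inv_pow, ha.1, inv_one], inv_mem ha.2⟩)
        (show d ∈ Subgroup.closure {g | ∃ x ∈ A, ∃ y ∈ A, ⁅x, y⁆ = g} from hd)
      · rintro _ ⟨x, hx, y, hy, rfl⟩
        refine ⟨?_, Subgroup.commutator_mem_commutator hx hy⟩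
        have hc : ⁅x, y⁆ ∈ D := Subgroup.commutator_mem_commutator hx hy
        have key : ∀ n : ℕ, x ^ n * y * (x ^ n)⁻¹ = ⁅x, y⁆ ^ n * y := by
          intro n
          induction n with
          | zero => simp
          | succ n ih =>
            rw [pow_succ' x, show x * x ^ n * y * (x * x ^ n)⁻¹ = x * (x ^ n * y * (x ^ n)⁻¹) * x⁻¹ by group, ih,
              show x * (⁅x, y⁆ ^ n * y) * x⁻¹ = (x * ⁅x, y⁆ ^ n) * y * x⁻¹ by group,
              hDcen _ (pow_mem hc n) x hx, pow_succ, commutatorElement_def]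
            group
        have := key p
        rw [← b.commute hy (b.pow x hx), mul_inv_cancel_right] at this
        simpa using this.symm
      · refine ⟨?_, mul_mem ha.2 hc.2⟩
        rw [(show Commute a c from hDcen c hc.2 a (hDA ha.2)).mul_pow, ha.1, hc.1, mul_one]
    exact (this d hd).1
  obtain ⟨SU⟩ := exists_secRep (p := p) b.anormal b.znormal b.comm b.pow
  obtain ⟨SD⟩ := exists_secRep (p := p) hDn (inferInstance : (⊥ : Subgroup X).Normal) hDD
    (fun d hd => Subgroup.mem_bot.2 (hDp d hd))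
  suffices hmain : ∀ a ∈ M, dev (SD.ρ a) = 0 by
    rw [Subgroup.commutator_comm]
    refine eq_bot_iff.2 (Subgroup.commutator_le.2 fun a ha d hd => ?_)
    exact (SD.dev_eq hDn).1 (hmain a ha) d hd
  intro a ha
  by_contra hne
  set N := dev (SU.ρ a) with hN
  have hN3 : ∀ u, N (N (N u)) = 0 := by
    intro u
    obtain ⟨x, rfl⟩ := SU.surj u
    rw [hN, SU.dev_apply_psi b.anormal, SU.dev_apply_psi b.anormal, SU.dev_apply_psi b.anormal, SU.ker']
    have h1 : ⁅a, (x : X)⁆ ∈ M := hMA (Subgroup.commutator_mem_commutator ha x.2)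
    have h2 := Subgroup.commutator_mem_commutator ha (Subgroup.commutator_mem_commutator ha h1)
    rw [Subgroup.commutator_comm M ⁅M, M⁆, hcl, Subgroup.mem_bot] at h2
    show ⁅a, ⁅a, ⁅a, (x : X)⁆⁆⁆ ∈ Z
    rw [h2]; exact one_mem Z
  set ND := dev (SD.ρ a) with hND
  have hND2 : ND * ND = 0 := (SD.dev_sq_eq hDn).2 fun d hd => by
    rw [← hq]
    exact Subgroup.commutator_mem_commutator ha (Subgroup.commutator_mem_commutator ha hd)
  obtain ⟨w, hw⟩ := not_forall.1 fun hall => hne (LinearMap.ext hall)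
  obtain ⟨φ1, hφ1⟩ : ∃ φ : Module.Dual (ZMod p) (Fin SD.n → ZMod p), φ (ND w) ≠ 0 := by
    by_contra hall
    simp only [not_exists, not_not] at hall
    exact hw ((Module.forall_dual_apply_eq_zero_iff (ZMod p) _).1 hall)
  set φ0 : Module.Dual (ZMod p) (Fin SD.n → ZMod p) := φ1 ∘ₗ ND with hφ0
  let σ := Function.surjInv SU.surj
  let c : (Fin SU.n → ZMod p) → (Fin SU.n → ZMod p) → (Fin SD.n → ZMod p) := fun u v =>
    SD.ψ ⟨⁅(σ u : X), (σ v : X)⁆, Subgroup.commutator_mem_commutator (σ u).2 (σ v).2⟩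
  have mulL : ∀ x ∈ A, ∀ x' ∈ A, ∀ y ∈ A, ⁅x * x', y⁆ = ⁅x', y⁆ * ⁅x, y⁆ := by
    intro x hx x' hx' y hy
    have e := hDcen _ (Subgroup.commutator_mem_commutator hx' hy) x hx
    calc ⁅x * x', y⁆ = (x * ⁅x', y⁆) * x⁻¹ * ⁅x, y⁆ := by simp only [commutatorElement_def]; group
      _ = _ := by rw [e]; group
  have hzero : ∀ z ∈ Z, ∀ y ∈ A, ⁅z, y⁆ = 1 := fun z hz y hy => by
    rw [commutatorElement_eq_one_iff_mul_comm, b.commute hy hz]
  have hcw : ∀ x y : A, c (SU.ψ x) (SU.ψ y) =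
      SD.ψ ⟨⁅(x : X), (y : X)⁆, Subgroup.commutator_mem_commutator x.2 y.2⟩ := by
    intro x y
    have hx := (SU.eq_iff x (σ (SU.ψ x))).1 (Function.surjInv_eq SU.surj _).symm
    have hy := (SU.eq_iff y (σ (SU.ψ y))).1 (Function.surjInv_eq SU.surj _).symm
    refine congrArg SD.ψ (Subtype.ext ?_)
    show ⁅(σ (SU.ψ x) : X), (σ (SU.ψ y) : X)⁆ = ⁅(x : X), (y : X)⁆
    have e1 : ∀ x0 ∈ A, ∀ z ∈ Z, ∀ y0 ∈ A, ⁅x0 * z, y0⁆ = ⁅x0, y0⁆ := fun x0 h0 z hz y0 hy0 => by
      rw [mulL x0 h0 z (b.lt.le hz) y0 hy0, hzero z hz y0 hy0, one_mul]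
    calc ⁅(σ (SU.ψ x) : X), (σ (SU.ψ y) : X)⁆
        = ⁅(x : X) * ((x : X)⁻¹ * σ (SU.ψ x)), (σ (SU.ψ y) : X)⁆ := by rw [mul_inv_cancel_left]
      _ = ⁅(x : X), (σ (SU.ψ y) : X)⁆ := e1 _ x.2 _ hx _ (σ _).2
      _ = (⁅(σ (SU.ψ y) : X), (x : X)⁆)⁻¹ := (commutatorElement_inv _ _).symm
      _ = (⁅(y : X) * ((y : X)⁻¹ * σ (SU.ψ y)), (x : X)⁆)⁻¹ := by rw [mul_inv_cancel_left]
      _ = (⁅(y : X), (x : X)⁆)⁻¹ := by rw [e1 _ y.2 _ hy _ x.2]
      _ = _ := commutatorElement_inv _ _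
  have canti : ∀ u v, c u v = -c v u := by
    intro u v
    show SD.ψ _ = -SD.ψ _
    rw [← SD.map_inv]
    exact congrArg SD.ψ (Subtype.ext (commutatorElement_inv _ _).symm)
  have caddL : ∀ u u' v, c (u + u') v = c u v + c u' v := by
    intro u u' v
    obtain ⟨x, rfl⟩ := SU.surj u
    obtain ⟨x', rfl⟩ := SU.surj u'
    obtain ⟨y, rfl⟩ := SU.surj v
    rw [← SU.map_mul', hcw, hcw, hcw, add_comm, ← SD.map_mul']
    exact congrArg SD.ψ (Subtype.ext (mulL x x.2 x' x'.2 y y.2))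
  have caddR : ∀ u v v', c u (v + v') = c u v + c u v' := fun u v v' => by
    rw [canti, caddL, neg_add, ← canti, ← canti]
  have cequiv : ∀ g : X, ∀ u v, c ((SU.ρ g : _ →ₗ[ZMod p] _) u) ((SU.ρ g : _ →ₗ[ZMod p] _) v) =
      (SD.ρ g : _ →ₗ[ZMod p] _) (c u v) := by
    intro g u v
    obtain ⟨x, rfl⟩ := SU.surj u
    obtain ⟨y, rfl⟩ := SU.surj v
    rw [SU.equiv' g x (b.anormal.conj_mem x x.2 g), SU.equiv' g y (b.anormal.conj_mem y y.2 g), hcw, hcw,
      SD.equiv' g _ (hDn.conj_mem _ (Subgroup.commutator_mem_commutator x.2 y.2) g)]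
    exact congrArg SD.ψ (Subtype.ext (map_commutatorElement (MulAut.conj g).toMonoidHom (x : X) (y : X)).symm)
  let form : Module.Dual (ZMod p) (Fin SD.n → ZMod p) →
      ((Fin SU.n → ZMod p) →ₗ[ZMod p] (Fin SU.n → ZMod p) →ₗ[ZMod p] ZMod p) := fun φ =>
    (AddMonoidHom.mk' (fun u => (AddMonoidHom.mk' (fun v => φ (c u v))
        (fun v v' => by rw [caddR, map_add])).toZModLinearMap p)
      (fun u u' => LinearMap.ext fun v => by
        show φ (c (u + u') v) = φ (c u v) + φ (c u' v)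
        rw [caddL, map_add])).toZModLinearMap p
  have form_apply : ∀ φ u v, form φ u v = φ (c u v) := fun φ u v => rfl
  set B := form φ1
  set C := form φ0
  have hgN : ∀ u, (SU.ρ a : _ →ₗ[ZMod p] _) u = u + N u := fun u => by
    rw [hN, dev_apply]; abel
  have hshift : ∀ φ u v, form φ (N u) v + form φ u (N v) + form φ (N u) (N v) = φ (ND (c u v)) := by
    intro φ u v
    rw [show φ (ND (c u v)) = φ (c (u + N u) (v + N v)) - φ (c u v) by
        rw [hND, dev_apply, map_sub, ← cequiv, hgN, hgN], ← form_apply φ u v, ← form_apply φ (u + N u) (v + N v)]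
    simp only [map_add, LinearMap.add_apply]
    abel
  have hφ0ND : ∀ d, φ0 (ND d) = 0 := fun d => by
    show φ1 (ND (ND d)) = 0
    rw [← Module.End.mul_apply, hND2, LinearMap.zero_apply, map_zero]
  -- complete reducibility for the elements fixing the form
  set Pc := core p (G.map SD.ρ) with hPc
  have haPc : SD.ρ a ∈ Pc := core_of_quad h h5 SD (hM ha) hND2
  set N0 := G ⊓ Pc.comap SD.ρ with hN0
  have hN0n : ∀ g : X, ∀ k ∈ N0, g * k * g⁻¹ ∈ N0 := fun g k hk => by
    refine ⟨h.normal.conj_mem k hk.1 g, ?_⟩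
    show SD.ρ (g * k * g⁻¹) ∈ Pc
    rw [map_mul, map_mul, map_inv]
    exact core_conj (range_le_normalizer h SD.ρ ⟨g, rfl⟩) hk.2
  have hCR0 : CR (SU.ρ.comp N0.subtype).range := by
    refine clifford (X := SU.ρ.range) ?_ ?_ (cr_range b SU)
    · rintro _ ⟨k, rfl⟩; exact ⟨k, rfl⟩
    · rintro _ ⟨g, rfl⟩ _ ⟨k, rfl⟩
      exact ⟨⟨g * k * g⁻¹, hN0n g k k.2⟩, by simp⟩
  let f : N0 →* Pc := (SD.ρ.comp N0.subtype).codRestrict Pc fun k => k.2.2
  have hCR := cr_comap (SU.ρ.comp N0.subtype) f (core_isPGroup _) hCR0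
    (Subgroup.zpowers (⟨SD.ρ a, haPc⟩ : Pc))
  set aN : N0 := ⟨a, h.le (hM ha), haPc⟩
  set J := ((Subgroup.zpowers (⟨SD.ρ a, haPc⟩ : Pc)).comap f).map (SU.ρ.comp N0.subtype) with hJ
  have hfix : ∀ g ∈ J, ∀ u v, C ((g : _ →ₗ[ZMod p] _) u) ((g : _ →ₗ[ZMod p] _) v) = C u v := by
    rintro _ ⟨k, ⟨m, hm⟩, rfl⟩ u v
    have hfa : ∀ d, φ0 ((SD.ρ a : _ →ₗ[ZMod p] _) d) = φ0 d := fun d => by
      rw [← sub_eq_zero, ← map_sub, ← dev_apply]; exact hφ0ND d
    let St : Subgroup (LinearMap.GeneralLinearGroup (ZMod p) (Fin SD.n → ZMod p)) :=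
      { carrier := {g | ∀ d, φ0 ((g : _ →ₗ[ZMod p] _) d) = φ0 d}
        one_mem' := fun d => rfl
        mul_mem' := fun {g g'} hg hg' d => by rw [Units.val_mul, Module.End.mul_apply, hg, hg']
        inv_mem' := fun {g} hg d => by
          rw [← hg, ← Module.End.mul_apply, ← Units.val_mul, mul_inv_cancel]; rfl }
    have hk : SD.ρ (k : X) ∈ St := by
      have e : SD.ρ (k : X) = SD.ρ a ^ m := (congrArg Subtype.val hm).symm.trans (by simp)
      rw [e]; exact zpow_mem (show SD.ρ a ∈ St from hfa) m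
    show φ0 (c ((SU.ρ (k : X) : _ →ₗ[ZMod p] _) u) ((SU.ρ (k : X) : _ →ₗ[ZMod p] _) v)) = φ0 (c u v)
    rw [cequiv]; exact hk _
  have hker : Stable J (LinearMap.ker C) := by
    intro g hg u hu
    refine LinearMap.mem_ker.2 (LinearMap.ext fun v => ?_)
    rw [show v = (g : Module.End (ZMod p) _) (((g⁻¹ : LinearMap.GeneralLinearGroup (ZMod p) _) : Module.End (ZMod p) _) v) by
        rw [← Module.End.mul_apply, ← Units.val_mul, mul_inv_cancel]; rfl,
      hfix g hg, LinearMap.mem_ker.1 hu]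
    rfl
  obtain ⟨U, hU, hUc⟩ := hCR _ hker
  have haJ : SU.ρ a ∈ J := ⟨aN, Subgroup.mem_zpowers _, rfl⟩
  have hC0 : C = 0 := by
    refine form_zero h5 (B := B) (N := N) (fun u v => ?_) (fun u v => ?_) ⟨U, fun u hu => ?_, hUc.symm⟩
      (fun u v => ?_) hN3
    · rw [hshift]; rfl
    · rw [hshift]; exact hφ0ND _
    · rw [hN, dev_apply]; exact U.sub_mem (hU _ haJ u hu) hu
    · show φ0 (c u v) = -φ0 (c v u)
      rw [canti, map_neg]
  apply hφ1
  have hall : ∀ d : D, φ0 (SD.ψ d) = 0 := by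
    rintro ⟨d, hd⟩
    have hcl' : d ∈ Subgroup.closure {g | ∃ x ∈ A, ∃ y ∈ A, ⁅x, y⁆ = g} := hd
    have : ∀ hd' : d ∈ D, φ0 (SD.ψ ⟨d, hd'⟩) = 0 := by
      clear hd
      induction hcl' using Subgroup.closure_induction with
      | mem g hg =>
        obtain ⟨x, hx, y, hy, rfl⟩ := hg
        intro _
        have := LinearMap.congr_fun (LinearMap.congr_fun hC0 (SU.ψ ⟨x, hx⟩)) (SU.ψ ⟨y, hy⟩)
        rw [form_apply, hcw] at this
        exact this
      | one => intro _; rw [show (⟨1, _⟩ : D) = 1 from rfl, SD.map_one, map_zero]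
      | mul x y hx hy ihx ihy =>
        intro _
        rw [show (⟨x * y, _⟩ : D) = ⟨x, hx⟩ * ⟨y, hy⟩ from rfl, SD.map_mul', map_add, ihx hx, ihy hy, add_zero]
      | inv x hx ihx =>
        intro _
        rw [show (⟨x⁻¹, _⟩ : D) = (⟨x, hx⟩ : D)⁻¹ from rfl, SD.map_inv, map_neg, ihx hx, neg_zero]
    exact this hd
  obtain ⟨d, hd⟩ := SD.surj w
  have := hall d
  rwa [hd] at this

end Cfsg.Agent.EquiQuad
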