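import Cfsg.Agent.Lib.EquiQuad.Uniq

/-!
The orbits of the classes of members of least rank in a completely reducible group, the frames they carry, and the
fixed classes of its Sylow subgroups.
-/

set_option autoImplicit false
set_option linter.unusedSimpArgs false
set_option linter.unusedSectionVars false

namespace Cfsg.Agent.EquiQuad

open UniFamily QuadPair

variable {p : ℕ} [hp : Fact p.Prime] {M : Type} [AddCommGroup M] [Module (ZMod p) M] [FiniteDimensional (ZMod p) M]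

local notation "F" => ZMod p
local notation "GLM" => LinearMap.GeneralLinearGroup (ZMod p) M
local notation "EndM" => M →ₗ[ZMod p] M

/-- Stability of a subspace under a set of elements. -/
def Stable (X : Subgroup (LinearMap.GeneralLinearGroup (ZMod p) M)) (S : Submodule (ZMod p) M) : Prop :=
  ∀ g ∈ X, ∀ v ∈ S, (g : M →ₗ[ZMod p] M) v ∈ S

/-- Complete reducibility. -/
def CR (X : Subgroup (LinearMap.GeneralLinearGroup (ZMod p) M)) : Prop :=
  ∀ S, Stable X S → ∃ S', Stable X S' ∧ IsCompl S S'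

theorem stable_sup {X : Subgroup GLM} {S T : Submodule F M} (hS : Stable X S) (hT : Stable X T) :
    Stable X (S ⊔ T) := by
  intro g hg v hv
  obtain ⟨a, ha, b, hb, rfl⟩ := Submodule.mem_sup.1 hv
  rw [map_add]
  exact Submodule.add_mem_sup (hS g hg a ha) (hT g hg b hb)

theorem stable_inf {X : Subgroup GLM} {S T : Submodule F M} (hS : Stable X S) (hT : Stable X T) :
    Stable X (S ⊓ T) := fun g hg v hv => ⟨hS g hg v hv.1, hT g hg v hv.2⟩

/-- Clifford's theorem. -/
theorem clifford {X N : Subgroup GLM} (hle0 : N ≤ X) (hn : ∀ x ∈ X, ∀ n ∈ N, x * n * x⁻¹ ∈ N) (hX : CR X) :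
    CR N := by
  classical
  let simples : Set (Submodule F M) :=
    {T | Stable N T ∧ T ≠ ⊥ ∧ ∀ T', Stable N T' → T' ≤ T → T' = ⊥ ∨ T' = T}
  have hmin : ∀ S, Stable N S → S ≠ ⊥ → ∃ T ∈ simples, T ≤ S := by
    intro S
    induction h : Module.finrank F S using Nat.strong_induction_on generalizing S with
    | _ n ih =>
      intro hS hne
      by_cases hs : ∀ T', Stable N T' → T' ≤ S → T' = ⊥ ∨ T' = S
      · exact ⟨S, ⟨hS, hne, hs⟩, le_rfl⟩
      · push Not at hs
        obtain ⟨T', hT', hle, hb, ht⟩ := hs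
        obtain ⟨T, hT, hTle⟩ := ih _ (h ▸ Submodule.finrank_lt_finrank_of_lt (lt_of_le_of_ne hle ht)) T' rfl hT' hb
        exact ⟨T, hT, hTle.trans hle⟩
  have hmap : ∀ x ∈ X, ∀ T, Stable N T → Stable N (T.map (x : EndM)) := by
    intro x hx T hT n hn' v hv
    obtain ⟨w, hw, rfl⟩ := hv
    refine ⟨(((x⁻¹ * n * x⁻¹⁻¹) : GLM) : EndM) w, hT _ (hn _ (inv_mem hx) n hn') w hw, ?_⟩
    rw [← Module.End.mul_apply, ← Units.val_mul, ← Module.End.mul_apply, ← Units.val_mul]
    congr 2; group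
  set S0 : Submodule F M := sSup simples with hS0
  have hXS0 : Stable X S0 := by
    intro x hx
    show S0 ≤ S0.comap (x : EndM)
    refine sSup_le fun T hT => ?_
    rw [← Submodule.map_le_iff_le_comap]
    refine le_sSup ⟨hmap x hx T hT.1, fun h => hT.2.1 ?_, fun T' hT' hle => ?_⟩
    · exact Submodule.map_injective_of_injective (gl_injective x) (h.trans (Submodule.map_bot _).symm)
    · have hid : ∀ (S : Submodule F M) (y : GLM), (S.map ((y⁻¹ : GLM) : EndM)).map (y : EndM) = S := fun S y => by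
        rw [← Submodule.map_comp, ← Module.End.mul_eq_comp, Units.mul_inv, Module.End.one_eq_id, Submodule.map_id]
      have hle' : T'.map ((x⁻¹ : GLM) : EndM) ≤ T := by
        rintro _ ⟨v, hv, rfl⟩
        obtain ⟨w, hw, rfl⟩ := hle hv
        rw [← Module.End.mul_apply, Units.inv_mul]; exact hw
      rcases hT.2.2 _ (hmap _ (inv_mem hx) T' hT') hle' with h | h
      · left; rw [← hid T' x, h, Submodule.map_bot]
      · right; rw [← hid T' x, h]
  have htop : S0 = ⊤ := by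
    obtain ⟨C, hC, hc⟩ := hX S0 hXS0
    by_contra hne
    have hCne : C ≠ ⊥ := fun h => hne (by simpa [h] using hc.sup_eq_top)
    have hCN : Stable N C := fun n hn' v hv => hC n (hle0 hn') v hv
    obtain ⟨T, hT, hTC⟩ := hmin C hCN hCne
    exact hT.2.1 ((Submodule.eq_bot_iff T).2 fun v hv =>
      (Submodule.mem_bot F).1 (hc.inf_eq_bot ▸ ⟨le_sSup hT hv, hTC hv⟩))
  intro S hS
  have hex : ∃ k, ∃ C, Stable N C ∧ S ⊓ C = ⊥ ∧ Module.finrank F M - Module.finrank F C = k :=
    ⟨_, ⊥, fun g _ v hv => by rw [show v = 0 from (Submodule.mem_bot F).1 hv, map_zero]; exact zero_mem _,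
      inf_bot_eq _, rfl⟩
  obtain ⟨C, hC, hSC, hk⟩ := Nat.find_spec hex
  refine ⟨C, hC, IsCompl.of_eq hSC ?_⟩
  by_contra hne
  obtain ⟨T, hT, hTn⟩ : ∃ T ∈ simples, ¬ T ≤ S ⊔ C := by
    by_contra hall
    push Not at hall
    exact hne (top_le_iff.1 (htop ▸ sSup_le hall))
  have hdisj : T ⊓ (S ⊔ C) = ⊥ := by
    rcases hT.2.2 _ (stable_inf hT.1 (stable_sup hS hC)) inf_le_left with h | h
    · exact h
    · exact absurd (inf_eq_left.1 h) hTn
  have hlt : C < C ⊔ T := lt_of_le_of_ne le_sup_left fun h => hTn (le_trans (h ▸ le_sup_right) le_sup_right)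
  refine Nat.find_min hex (m := Module.finrank F M - Module.finrank F ↥(C ⊔ T)) ?_ ⟨C ⊔ T, stable_sup hC hT.1, ?_, rfl⟩
  · have h1 := Submodule.finrank_lt_finrank_of_lt hlt
    have h2 := Submodule.finrank_le (C ⊔ T)
    omega
  · refine (Submodule.eq_bot_iff _).2 fun v hv => ?_
    obtain ⟨c, hc, t, ht, e⟩ := Submodule.mem_sup.1 hv.2
    have htS : t ∈ S ⊔ C := by
      rw [show t = v - c by rw [← e]; abel]
      exact Submodule.sub_mem _ (Submodule.mem_sup_left hv.1) (Submodule.mem_sup_right hc)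
    have ht0 : t = 0 := (Submodule.mem_bot F).1 (hdisj ▸ ⟨ht, htS⟩)
    rw [ht0, add_zero] at e
    exact (Submodule.mem_bot F).1 (hSC ▸ ⟨hv.1, e ▸ hc⟩)

/-- A completely reducible group has no non-trivial unipotent normal subgroup. -/
theorem noUni_of_CR {X : Subgroup GLM} (h : CR X) : NoUni X := by
  intro U hUX hU hn
  set W := Cfsg.fixedSubmodule U with hW
  have memW : ∀ v, v ∈ W ↔ ∀ g ∈ U, dev g v = 0 := fun v => by
    simp [hW, Cfsg.fixedSubmodule, Submodule.mem_iInf, dev]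
  have hWX : Stable X W := by
    intro x hx v hv
    rw [memW] at hv ⊢
    intro u hu
    have h1 := hv _ (hn _ (inv_mem hx) u hu)
    rw [dev_conj, inv_inv, Module.End.mul_apply, Module.End.mul_apply] at h1
    exact (injective_iff_map_eq_zero _).1 (gl_injective x⁻¹) _ h1
  obtain ⟨C, hC, hc⟩ := h W hWX
  have hC0 : C = ⊥ := by
    by_contra hne
    obtain ⟨v, hv, hv0, hvf⟩ := exists_fixed hU (S := C) (fun g hg => hC g (hUX hg)) hne
    exact hv0 ((Submodule.mem_bot F).1 (hc.inf_eq_bot ▸ ⟨(memW v).2 hvf, hv⟩))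
  refine (Subgroup.eq_bot_iff_forall U).2 fun u hu => dev_eq_zero (LinearMap.ext fun v => ?_)
  have hv : v ∈ W := by
    have := hc.sup_eq_top
    rw [hC0, sup_bot_eq] at this
    rw [this]; trivial
  exact (memW v).1 hv u hu

/-- A central element of order `p` of a normal subgroup is trivial. -/
theorem noUni_central {G K : Subgroup GLM} (hG : NoUni G) (hKG : K ≤ G)
    (hn : ∀ g ∈ G, ∀ x ∈ K, g * x * g⁻¹ ∈ K) {x : GLM} (hx : x ∈ K) (hc : ∀ g ∈ K, x * g = g * x)
    (hxp : x ^ p = 1) : x = 1 := by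
  let Z : Subgroup GLM :=
    { carrier := {y | y ∈ K ∧ (∀ g ∈ K, y * g = g * y) ∧ y ^ p = 1}
      one_mem' := ⟨one_mem _, by simp, one_pow _⟩
      mul_mem' := fun {y z} hy hz => ⟨mul_mem hy.1 hz.1, fun g hg => by
          rw [mul_assoc, hz.2.1 g hg, ← mul_assoc, hy.2.1 g hg, mul_assoc],
        by rw [Commute.mul_pow (hy.2.1 z hz.1), hy.2.2, hz.2.2, one_mul]⟩
      inv_mem' := fun {y} hy => ⟨inv_mem hy.1, fun g hg => (Commute.inv_left (hy.2.1 g hg)),
        by rw [inv_pow, hy.2.2, inv_one]⟩ }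
  have hp' : IsPGroup p Z := fun y => ⟨1, Subtype.ext (by rw [pow_one]; exact y.2.2.2)⟩
  have := hG Z (fun y hy => hKG hy.1) (unipotent_of_pgroup hp') fun g hg y hy => by
    refine ⟨hn g hg y hy.1, fun k hk => ?_, by rw [conj_pow, hy.2.2]; group⟩
    have h := hy.2.1 _ (hn g⁻¹ (inv_mem hg) k hk)
    rw [inv_inv] at h
    calc g * y * g⁻¹ * k = g * (y * (g⁻¹ * k * g)) * g⁻¹ := by group
      _ = _ := by rw [h]; group
  exact (Subgroup.mem_bot).1 (this ▸ (⟨hx, hc, hxp⟩ : x ∈ Z))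

theorem pow_p_eq_one {G : Subgroup GLM} {s : GLM} (hs : s ∈ Min G) : s ^ p = 1 :=
  dev_eq_zero (by rw [dev_pow (sq_zero hs), ZMod.natCast_self, zero_smul])

theorem key_inv {g : GLM} (h : dev g * dev g = 0) : key g⁻¹ = key g := by
  refine Prod.ext ?_ ?_
  · show LinearMap.range (dev g⁻¹) = LinearMap.range (dev g)
    rw [exists_partner_mem.dev_inv_of_sq' h, LinearMap.range_neg]
  · show LinearMap.ker (dev g⁻¹) = LinearMap.ker (dev g)
    rw [exists_partner_mem.dev_inv_of_sq' h, LinearMap.ker_neg]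

theorem inv_min {G : Subgroup GLM} {s : GLM} (hs : s ∈ Min G) : s⁻¹ ∈ Min G := by
  have hd := exists_partner_mem.dev_inv_of_sq' (sq_zero hs)
  refine min_of_le hs (inv_mem (min_mem hs)) ?_ ?_ ?_
  · rw [hd, neg_mul_neg, sq_zero hs]
  · rw [hd, neg_ne_zero]; exact dev_ne_zero hs
  · rw [hd, LinearMap.range_neg]

/-- A subgroup holding all members of least rank has the same ones. -/
theorem min_eq {G X : Subgroup GLM} (hXG : X ≤ G) (hX : Min G ⊆ X) (hne : (Min G).Nonempty) :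
    Min X = Min G := by
  obtain ⟨s, hs⟩ := hne
  have hq : ∀ g ∈ Cfsg.quadraticElements X, g ∈ Cfsg.quadraticElements G := fun g hg =>
    quad_mem (hXG hg.1) hg.2.1.1 hg.2.1.2
  have hsX : s ∈ Min X :=
    ⟨quad_mem (hX hs) (sq_zero hs) (dev_ne_zero hs), fun t ht => hs.2 t (hq t ht)⟩
  ext g
  constructor
  · intro hg
    exact min_of_le hs (hXG (min_mem hg)) (sq_zero hg) (dev_ne_zero hg) (rank_eq hsX hg).ge
  · intro hg
    exact min_of_le hsX (hX hg) (sq_zero hg) (dev_ne_zero hg) (rank_eq hs hg).ge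

/-- The subgroup generated by the members of least rank. -/
def gen0 (G : Subgroup (LinearMap.GeneralLinearGroup (ZMod p) M)) :
    Subgroup (LinearMap.GeneralLinearGroup (ZMod p) M) :=
  Subgroup.closure (Min G)

theorem gen0_le (G : Subgroup GLM) : gen0 G ≤ G := (Subgroup.closure_le _).2 fun _ h => min_mem h

theorem subset_gen0 (G : Subgroup GLM) : Min G ⊆ gen0 G := Subgroup.subset_closure

theorem gen0_normal {G : Subgroup GLM} {g : GLM}
    (hg : ∀ s ∈ Min G, g * s * g⁻¹ ∈ Min G) {x : GLM} (hx : x ∈ gen0 G) : g * x * g⁻¹ ∈ gen0 G := by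
  have : gen0 G ≤ (gen0 G).comap (MulAut.conj g).toMonoidHom :=
    (Subgroup.closure_le _).2 fun s hs => subset_gen0 G (hg s hs)
  exact this hx

theorem gen0_normal_self {G : Subgroup GLM} {g : GLM} (hg : g ∈ G) {x : GLM} (hx : x ∈ gen0 G) :
    g * x * g⁻¹ ∈ gen0 G :=
  gen0_normal (fun _ hs => min_conj hg hs) hx

/-- Lying in one orbit of the group generated by the members of least rank. -/
def Same (G : Subgroup (LinearMap.GeneralLinearGroup (ZMod p) M))
    (C D : Submodule (ZMod p) M × Submodule (ZMod p) M) : Prop :=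
  ∃ g ∈ gen0 G, act g C = D

theorem same_refl (G : Subgroup GLM) (C : Submodule F M × Submodule F M) : Same G C C :=
  ⟨1, one_mem _, act_one C⟩

theorem same_symm {G : Subgroup GLM} {C D : Submodule F M × Submodule F M} (h : Same G C D) : Same G D C :=
  let ⟨g, hg, e⟩ := h
  ⟨g⁻¹, inv_mem hg, by rw [← e, act_inv_act]⟩

theorem same_trans {G : Subgroup GLM} {C D E : Submodule F M × Submodule F M} (h : Same G C D)
    (h' : Same G D E) : Same G C E :=
  let ⟨g, hg, e⟩ := h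
  let ⟨g', hg', e'⟩ := h'
  ⟨g' * g, mul_mem hg' hg, by rw [act_mul, e, e']⟩

theorem same_map {G : Subgroup GLM} {g : GLM} (hg : ∀ x ∈ gen0 G, g * x * g⁻¹ ∈ gen0 G)
    {C D : Submodule F M × Submodule F M} (h : Same G C D) : Same G (act g C) (act g D) :=
  let ⟨x, hx, e⟩ := h
  ⟨g * x * g⁻¹, hg x hx, by rw [← act_mul, inv_mul_cancel_right, act_mul, e]⟩

/-- The members of least rank with class in one orbit. -/
def orbSet (G : Subgroup (LinearMap.GeneralLinearGroup (ZMod p) M))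
    (C : Submodule (ZMod p) M × Submodule (ZMod p) M) : Set (LinearMap.GeneralLinearGroup (ZMod p) M) :=
  {x | x ∈ Min G ∧ Same G C (key x)}

/-- The subgroup of one orbit. -/
def kcls (G : Subgroup (LinearMap.GeneralLinearGroup (ZMod p) M))
    (C : Submodule (ZMod p) M × Submodule (ZMod p) M) : Subgroup (LinearMap.GeneralLinearGroup (ZMod p) M) :=
  Subgroup.closure (orbSet G C)

theorem mem_kcls {G : Subgroup GLM} {C : Submodule F M × Submodule F M} {x : GLM} (hx : x ∈ Min G)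
    (h : Same G C (key x)) : x ∈ kcls G C :=
  Subgroup.subset_closure ⟨hx, h⟩

theorem kcls_le (G : Subgroup GLM) (C : Submodule F M × Submodule F M) : kcls G C ≤ gen0 G :=
  Subgroup.closure_mono fun _ h => h.1

/-- The kernel of the action on the orbits. -/
def stab1 (G : Subgroup (LinearMap.GeneralLinearGroup (ZMod p) M)) :
    Subgroup (LinearMap.GeneralLinearGroup (ZMod p) M) where
  carrier := {g | g ∈ G ∧ ∀ x ∈ Min G, Same G (key x) (act g (key x))}
  one_mem' := ⟨one_mem _, fun x _ => by rw [act_one]; exact same_refl _ _⟩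
  mul_mem' := fun {g h} hg hh => ⟨mul_mem hg.1 hh.1, fun x hx => by
    rw [act_mul]
    exact same_trans (hg.2 x hx) (same_map (fun _ => gen0_normal_self hg.1) (hh.2 x hx))⟩
  inv_mem' := fun {g} hg => ⟨inv_mem hg.1, fun x hx => by
    have := same_map (g := g⁻¹) (fun _ => gen0_normal_self (inv_mem hg.1)) (hg.2 x hx)
    rw [act_inv_act] at this
    exact same_symm this⟩

theorem stab1_le (G : Subgroup GLM) : stab1 G ≤ G := fun _ h => h.1

theorem gen0_le_stab1 (G : Subgroup GLM) : gen0 G ≤ stab1 G :=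
  fun g hg => ⟨gen0_le G hg, fun _ _ => ⟨g, hg, rfl⟩⟩

theorem stab1_normal {G : Subgroup GLM} {g : GLM} (hg : g ∈ G) {x : GLM} (hx : x ∈ stab1 G) :
    g * x * g⁻¹ ∈ stab1 G := by
  refine ⟨mul_mem (mul_mem hg hx.1) (inv_mem hg), fun s hs => ?_⟩
  have h := hx.2 _ (min_conj (inv_mem hg) hs)
  rw [key_conj] at h
  have h' := same_map (g := g) (fun _ => gen0_normal_self hg) h
  rwa [act_act_inv, ← act_mul, ← act_mul] at h'

theorem kcls_normal {G : Subgroup GLM} {C : Submodule F M × Submodule F M} {s : GLM} (hs : s ∈ Min G)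
    (hC : key s = C) {g : GLM} (hg : g ∈ stab1 G) {x : GLM} (hx : x ∈ kcls G C) :
    g * x * g⁻¹ ∈ kcls G C := by
  subst hC
  have : kcls G (key s) ≤ (kcls G (key s)).comap (MulAut.conj g).toMonoidHom := by
    refine (Subgroup.closure_le _).2 fun y hy => ?_
    show g * y * g⁻¹ ∈ kcls G (key s)
    refine mem_kcls (min_conj hg.1 hy.1) ?_
    rw [key_conj]
    exact same_trans hy.2 (hg.2 y hy.1)
  exact this hx

section Ctx

variable (h5 : 5 ≤ p) {G : Subgroup (LinearMap.GeneralLinearGroup (ZMod p) M)} (hG : CR G)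
include h5

theorem min_gen0 {s : GLM} (hs : s ∈ Min G) : Min (gen0 G) = Min G :=
  min_eq (gen0_le G) (subset_gen0 G) ⟨s, hs⟩

theorem min_stab1 {s : GLM} (hs : s ∈ Min G) : Min (stab1 G) = Min G :=
  min_eq (stab1_le G) (fun _ h => gen0_le_stab1 G (subset_gen0 G h)) ⟨s, hs⟩

theorem same_of_opp {s t : GLM} (hs : s ∈ Min G) (ht : t ∈ Min G) (h : Opp (key s) (key t)) :
    Same G (key s) (key t) :=
  exists_conj_of_opp h5 (G := gen0 G) (by rwa [min_gen0 h5 hs]) (by rwa [min_gen0 h5 hs]) h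

theorem mem_min_of_stab1 {s : GLM} (hs : s ∈ Min (stab1 G)) : s ∈ Min G := by
  obtain ⟨m, hm⟩ := exists_min (G := G) (stab1_le G (min_mem hs)) (sq_zero hs) (dev_ne_zero hs)
  rwa [min_stab1 h5 hm] at hs

include hG

omit h5 in
theorem cr_gen0 : CR (gen0 G) := clifford (gen0_le G) (fun _ hg _ hx => gen0_normal_self hg hx) hG

omit h5 in
theorem cr_stab1 : CR (stab1 G) := clifford (stab1_le G) (fun _ hg _ hx => stab1_normal hg hx) hG

omit h5 in
theorem cr_kcls {s : GLM} (hs : s ∈ Min G) : CR (kcls G (key s)) :=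
  clifford ((kcls_le G _).trans (gen0_le_stab1 G)) (fun _ hg _ hx => kcls_normal hs rfl hg hx) (cr_stab1 hG)

/-- Members in different orbits commute. -/
theorem commute_of_diff {s t : GLM} (hs : s ∈ Min G) (ht : t ∈ Min G) (hd : ¬ Same G (key s) (key t)) :
    s * t = t * s := by
  by_contra hne
  have hno : ¬ Opp (key s) (key t) := fun h => hd (same_of_opp h5 hs ht h)
  have e := min_gen0 h5 hs
  have hs' : s ∈ Min (gen0 G) := by rwa [e]
  have ht' : t ∈ Min (gen0 G) := by rwa [e]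
  have h0 := noUni_of_CR (cr_gen0 hG)
  obtain ⟨π, hπ, o1, -, g, hg, hgk⟩ := exists_common_opp h5 h0 hs' ht' hno hne
  obtain ⟨π', hπ', o1', -, g', hg', hgk'⟩ :=
    exists_common_opp h5 h0 ht' hs' (fun h => hno (opp_symm h)) (Ne.symm hne)
  have h1 : Same G (key (s * t * s⁻¹ * t⁻¹)) (key s) :=
    same_trans ⟨g, hg, hgk⟩ (same_of_opp h5 (e ▸ hπ) hs o1)
  have h2 : Same G (key (t * s * t⁻¹ * s⁻¹)) (key t) :=
    same_trans ⟨g', hg', hgk'⟩ (same_of_opp h5 (e ▸ hπ') ht o1')
  have hn : IsNilpotent (zz (dev s) (dev t)) := by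
    by_contra hn; exact hno ((opp_iff h5 hs ht).2 hn)
  have hmin := (commutator_minimal (two_ne h5) hs ht hn (fun e => hne (commute_of_zc e))).1
  rw [show t * s * t⁻¹ * s⁻¹ = (s * t * s⁻¹ * t⁻¹)⁻¹ by group, key_inv (sq_zero hmin)] at h2
  exact hd (same_trans (same_symm h1) h2)

/-- The elements of one orbit's subgroup fix the classes of the other orbits. -/
theorem kcls_fix {C : Submodule F M × Submodule F M} {t : GLM} (ht : t ∈ Min G)
    (hd : ¬ Same G C (key t)) {g : GLM} (hg : g ∈ kcls G C) : g * t = t * g := by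
  have : kcls G C ≤ Subgroup.centralizer {t} := by
    refine (Subgroup.closure_le _).2 fun x hx => ?_
    show x ∈ Subgroup.centralizer {t}
    rw [Subgroup.mem_centralizer_iff]
    intro y hy
    rw [Set.mem_singleton_iff.1 hy]
    exact (commute_of_diff h5 hG hx.1 ht fun h => hd (same_trans hx.2 h)).symm
  exact (Subgroup.mem_centralizer_iff.1 (this hg) t rfl).symm

theorem orbit_of_mem {s y : GLM} (hs : s ∈ Min G) (hy : y ∈ Min G) (hyK : y ∈ kcls G (key s)) :
    Same G (key s) (key y) := by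
  by_contra hd
  exact mem_ne_one hy (noUni_central (noUni_of_CR (cr_stab1 hG))
    ((kcls_le G _).trans (gen0_le_stab1 G)) (fun _ hg _ hx => kcls_normal hs rfl hg hx) hyK
    (fun g hg => (kcls_fix h5 hG hy hd hg).symm) (pow_p_eq_one hy))

/-- A frame at two opposite classes inside the subgroup of their orbit. -/
theorem exists_frame {s t' : GLM} (hs : s ∈ Min G) (ht' : t' ∈ Min G) (ho : Opp (key s) (key t')) :
    ∃ fr : Frame (stab1 G) (kcls G (key s)), fr.s = s ∧ key fr.t = key t' := by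
  have e := min_stab1 h5 hs
  obtain ⟨t, ht, hk, h1, h2⟩ := exists_partner_mem h5 hs ht' ho
  exact ⟨{
    h5 := h5
    hKG := (kcls_le G _).trans (gen0_le_stab1 G)
    s := s
    t := t
    hs := e.symm ▸ hs
    ht := e.symm ▸ ht
    hsK := mem_kcls hs (same_refl _ _)
    htK := mem_kcls ht (by rw [hk]; exact same_of_opp h5 hs ht' ho)
    hmem := fun x hx y hy hyK hxy => mem_kcls (e ▸ hx) (by
      rw [hxy]; exact orbit_of_mem h5 hG hs (e ▸ hy) hyK)
    hnorm := fun g hg x hx => kcls_normal hs rfl hg hx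
    aba := h1
    bab := h2 }, rfl, hk⟩

theorem frame_at {s : GLM} (hs : s ∈ Min G) :
    ∃ fr : Frame (stab1 G) (kcls G (key s)), fr.s = s := by
  have hs' : s ∈ Min (gen0 G) := by rwa [min_gen0 h5 hs]
  obtain ⟨g, hg, ho⟩ := exists_opp h5 (noUni_of_CR (cr_gen0 hG)) hs'
  obtain ⟨fr, h, -⟩ := exists_frame h5 hG hs (min_conj (gen0_le G hg) hs) ho
  exact ⟨fr, h⟩

variable {s : LinearMap.GeneralLinearGroup (ZMod p) M}
  (fr : Frame (stab1 G) (kcls G (key s))) (hfs : fr.s = s)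
include hfs

theorem fr_hgen : fr.HGen := by
  have e := min_stab1 h5 (mem_min_of_stab1 h5 fr.hs)
  have hS : fr.s ∈ Min G := e ▸ fr.hs
  have hT : fr.t ∈ Min G := e ▸ fr.ht
  set N := Subgroup.closure (fr.upSet ∪ (fun g => fr.w * g * fr.w⁻¹) '' fr.upSet) with hN
  have hup : ∀ u ∈ fr.upSet, u ∈ N := fun u hu => Subgroup.subset_closure (Or.inl hu)
  have hsU : fr.s ∈ fr.upSet :=
    ⟨fr.hsK, 0, 0, fr.e, Frame.isA_zero, Frame.isB_zero, Frame.isC_e, by
      rw [Frame.up, coe_dev fr.s, zero_mul, mul_assoc fr.a, fr.haba, add_zero, add_zero]⟩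
  obtain ⟨hwv, hwc⟩ := exists_swap fr.aba fr.bab fr.haa fr.hbb
  have htN : fr.t ∈ N := by
    rw [← inv_inv fr.t, ← hwc]
    exact inv_mem (Subgroup.subset_closure (Or.inr ⟨fr.s, hsU, rfl⟩))
  have hwN : fr.w ∈ N := mul_mem (mul_mem (hup _ hsU) (inv_mem htN)) (hup _ hsU)
  have hwk : act fr.w (key fr.s) = key fr.t := by
    rw [← key_conj, show fr.w * fr.s * fr.w⁻¹ = fr.t⁻¹ from hwc, key_inv fr.hbb]
  have horb : ∀ x ∈ Min G, Same G (key s) (key x) → x ∈ kcls G (key s) := fun x hx h => mem_kcls hx h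
  let Nk : Set (Submodule F M × Submodule F M) := {C | ∃ n ∈ N, act n (key fr.s) = C}
  have hNK : N ≤ kcls G (key s) := by
    refine (Subgroup.closure_le _).2 ?_
    rintro g (hg | ⟨u, hu, rfl⟩)
    · exact hg.1
    · exact mul_mem (mul_mem fr.w_mem hu.1) (inv_mem fr.w_mem)
  have hsame : ∀ n ∈ N, Same G (key s) (act n (key fr.s)) := fun n hn =>
    ⟨n, kcls_le G _ (hNK hn), by rw [hfs]⟩
  have hopp : ∀ C ∈ Nk, ∀ y ∈ Min G, Opp C (key y) → key y ∈ Nk := by
    rintro _ ⟨n, hn, rfl⟩ y hy ho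
    have hy' : n⁻¹ * y * n⁻¹⁻¹ ∈ Min G := min_conj (inv_mem (gen0_le G (kcls_le G _ (hNK hn)))) hy
    have ho' : Opp (key fr.s) (key (n⁻¹ * y * n⁻¹⁻¹)) := by
      have := opp_act n⁻¹ ho
      rwa [act_inv_act, ← key_conj] at this
    have hsame' : Same G (key s) (key (n⁻¹ * y * n⁻¹⁻¹)) := by
      have := same_of_opp h5 hS hy' ho'
      rwa [hfs] at this
    obtain ⟨g, hg, α, β, γ, hA, hB, hC, hgv, hga⟩ :=
      fr.trans (e.symm ▸ hy') (horb _ hy' hsame') ho'
    refine ⟨n * g * fr.w, mul_mem (mul_mem hn (hup g ⟨hg, α, β, γ, hA, hB, hC, hgv⟩)) hwN, ?_⟩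
    rw [act_mul, act_mul, hwk, hga, key_conj, act_act_inv]
  have hgenN : ∀ m ∈ Min G, ∀ C ∈ Nk, act m C ∈ Nk := by
    rintro m hm _ ⟨n, hn, rfl⟩
    have hx : n * fr.s * n⁻¹ ∈ Min G := min_conj (gen0_le G (kcls_le G _ (hNK hn))) hS
    have hxk : key (n * fr.s * n⁻¹) = act n (key fr.s) := key_conj _ _
    set x := n * fr.s * n⁻¹
    rw [← hxk, ← key_conj]
    have hxN : key x ∈ Nk := ⟨n, hn, hxk.symm⟩
    by_cases ho : Opp (key x) (key m)
    · have hmN := hopp _ hxN m hm ho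
      refine hopp _ hmN _ (min_conj (min_mem hm) hx) ?_
      have := opp_act m (opp_symm ho)
      rwa [act_key_self (rfl : m * m = m * m), ← key_conj] at this
    · by_cases hc : x * m = m * x
      · rw [← hc, mul_inv_cancel_right]; exact hxN
      · have hx' : x ∈ Min (gen0 G) := by rwa [min_gen0 h5 hS]
        have hm' : m ∈ Min (gen0 G) := by rwa [min_gen0 h5 hS]
        obtain ⟨π, hπ, o1, o2, -⟩ := exists_common_opp h5 (noUni_of_CR (cr_gen0 hG)) hx' hm' ho hc
        rw [min_gen0 h5 hS] at hπ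
        exact hopp _ (hopp _ hxN π hπ (opp_symm o1)) _ (min_conj (min_mem hm) hx) o2
  have hall : ∀ g ∈ gen0 G, ∀ C ∈ Nk, act g C ∈ Nk ∧ act g⁻¹ C ∈ Nk := by
    intro g hg
    induction hg using Subgroup.closure_induction with
    | mem m hm => exact fun C hC => ⟨hgenN m hm C hC, hgenN _ (inv_min hm) C hC⟩
    | one => intro C hC; simp [act_one, hC]
    | mul a b _ _ ha hb =>
      intro C hC
      rw [mul_inv_rev, act_mul, act_mul]
      exact ⟨(ha _ (hb C hC).1).1, (hb _ (ha C hC).2).2⟩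
    | inv a _ ha => intro C hC; rw [inv_inv]; exact (ha C hC).symm
  refine (Subgroup.closure_le _).2 fun x hx => ?_
  obtain ⟨g, hg, hgk⟩ := hx.2
  obtain ⟨n, hn, hnk⟩ := (hall g hg _ ⟨1, one_mem _, act_one _⟩).1
  rw [hfs] at hnk
  rw [hgk] at hnk
  have hy : n⁻¹ * x * n⁻¹⁻¹ ∈ Min (stab1 G) :=
    e.symm ▸ min_conj (inv_mem (gen0_le G (kcls_le G _ (hNK hn)))) hx.1
  have hyk : key (n⁻¹ * x * n⁻¹⁻¹) = key fr.s := by rw [key_conj, ← hnk, act_inv_act, hfs]
  obtain ⟨⟨hC, u, hu, hue⟩, hd⟩ := fr.memA_class_s hy hyk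
  have : u = n⁻¹ * x * n⁻¹⁻¹ := by
    apply Units.ext
    rw [hue, Frame.up, zero_mul, add_zero, add_zero, hd, ← coe_dev (n⁻¹ * x * n⁻¹⁻¹)]
  have hmem := hup u ⟨hu, 0, 0, _, Frame.isA_zero, Frame.isB_zero, hC, hue⟩
  rw [this] at hmem
  have := mul_mem (mul_mem hn hmem) (inv_mem hn)
  rwa [show n * (n⁻¹ * x * n⁻¹⁻¹) * n⁻¹ = x by group] at this

theorem fr_semi : fr.Semi := by
  have hS : s ∈ Min G := hfs ▸ mem_min_of_stab1 h5 fr.hs
  exact fr.semi_of_stable (fr_hgen h5 hG fr hfs) (cr_kcls hG hS)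

end Ctx

end Cfsg.Agent.EquiQuad
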