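import Cfsg.Agent.Lib.EquiQuad.Block

/-!
A characteristic subgroup of the intersection of the invariant Sylow subgroups that is normal in the whole group:
the closure, under inner maps and automorphisms of the intersection, of the greatest admissible family of normal
subgroups of class at most two stays inside the core.
-/

set_option autoImplicit false
set_option linter.unusedSectionVars false

namespace Cfsg.Agent.EquiQuad

open scoped commutatorElement

universe u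

variable {X : Type u} [Group X] [Finite X] {p : ℕ} [hp : Fact p.Prime] {G R P Q : Subgroup X}

/-- The image of a subgroup under an automorphism of `P`. -/
def tr (P : Subgroup X) (φ : MulAut P) (A : Subgroup X) : Subgroup X :=
  ((A.subgroupOf P).map φ.toMonoidHom).map P.subtype

theorem tr_le (φ : MulAut P) (A : Subgroup X) : tr P φ A ≤ P := Subgroup.map_subtype_le _

theorem tr_mono (φ : MulAut P) {A B : Subgroup X} (h : A ≤ B) : tr P φ A ≤ tr P φ B :=
  Subgroup.map_mono (Subgroup.map_mono (Subgroup.comap_mono h))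

theorem mem_tr {φ : MulAut P} {A : Subgroup X} {x : X} :
    x ∈ tr P φ A ↔ ∃ a : P, (a : X) ∈ A ∧ ((φ a : P) : X) = x := by
  constructor
  · rintro ⟨_, ⟨a, ha, rfl⟩, rfl⟩; exact ⟨a, ha, rfl⟩
  · rintro ⟨a, ha, rfl⟩; exact ⟨φ a, ⟨a, ha, rfl⟩, rfl⟩

theorem tr_symm (φ : MulAut P) {A : Subgroup X} (hA : A ≤ P) : tr P φ.symm (tr P φ A) = A := by
  refine le_antisymm (fun x hx => ?_) fun x hx => ?_
  · obtain ⟨a, ha, rfl⟩ := mem_tr.1 hx
    obtain ⟨b, hb, e⟩ := mem_tr.1 ha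
    rw [← Subtype.ext e, MulEquiv.symm_apply_apply]
    exact hb
  · exact mem_tr.2 ⟨φ ⟨x, hA hx⟩, mem_tr.2 ⟨⟨x, hA hx⟩, hx, rfl⟩, by rw [MulEquiv.symm_apply_apply]⟩

theorem tr_bot (φ : MulAut P) : tr P φ (⊥ : Subgroup X) = ⊥ := by
  rw [tr, Subgroup.bot_subgroupOf, Subgroup.map_bot, Subgroup.map_bot]

theorem comm_le {B C : Subgroup X} (hB : B ≤ P) (hC : C ≤ P) : ⁅B, C⁆ ≤ P :=
  Subgroup.commutator_le.2 fun b hb c hc => by
    rw [commutatorElement_def]
    exact mul_mem (mul_mem (mul_mem (hB hb) (hC hc)) (inv_mem (hB hb))) (inv_mem (hC hc))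

theorem tr_comm (φ : MulAut P) {B C : Subgroup X} (hB : B ≤ P) (hC : C ≤ P) :
    tr P φ ⁅B, C⁆ = ⁅tr P φ B, tr P φ C⁆ := by
  have e : ⁅B, C⁆.subgroupOf P = ⁅B.subgroupOf P, C.subgroupOf P⁆ := by
    apply Subgroup.map_injective P.subtype_injective
    rw [Subgroup.map_commutator, Subgroup.map_subgroupOf_eq_of_le hB, Subgroup.map_subgroupOf_eq_of_le hC,
      Subgroup.map_subgroupOf_eq_of_le (comm_le hB hC)]
  rw [tr, e, Subgroup.map_commutator, Subgroup.map_commutator]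
  rfl

/-- The relations maintained along the closure. -/
def Rel (B C : Subgroup X) : Prop :=
  ⁅B, C⁆ ≤ B ∧ (⁅C, C⁆ = ⊥ → ⁅B, ⁅B, C⁆⁆ = ⊥) ∧ ⁅⁅B, B⁆, C⁆ = ⊥

theorem rel_tr (φ : MulAut P) {B C : Subgroup X} (hB : B ≤ P) (hC : C ≤ P) (h : Rel B C) :
    Rel (tr P φ B) (tr P φ C) := by
  refine ⟨?_, fun hab => ?_, ?_⟩
  · rw [← tr_comm φ hB hC]; exact tr_mono φ h.1
  · have hab' : ⁅C, C⁆ = ⊥ := by
      have := congrArg (tr P φ.symm) hab
      rwa [← tr_comm φ hC hC, tr_symm φ (comm_le hC hC), tr_bot] at this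
    rw [← tr_comm φ hB hC, ← tr_comm φ hB (comm_le hB hC), h.2.1 hab', tr_bot]
  · rw [← tr_comm φ hB hB, ← tr_comm φ (comm_le hB hB) hC, h.2.2, tr_bot]

theorem rel_map (g : MulAut X) {B C : Subgroup X} (h : Rel B C) :
    Rel (B.map g.toMonoidHom) (C.map g.toMonoidHom) := by
  refine ⟨?_, fun hab => ?_, ?_⟩
  · rw [← Subgroup.map_commutator]; exact Subgroup.map_mono h.1
  · rw [← Subgroup.map_commutator, Subgroup.map_eq_bot_iff_of_injective _ g.injective] at hab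
    rw [← Subgroup.map_commutator, ← Subgroup.map_commutator, h.2.1 hab, Subgroup.map_bot]
  · rw [← Subgroup.map_commutator, ← Subgroup.map_commutator, h.2.2, Subgroup.map_bot]

/-- An admissible family of normal subgroups of class at most two. -/
def Adm (P : Subgroup X) (F : Set (Subgroup X)) : Prop :=
  ∀ A ∈ F, A ≤ P ∧ ⁅A, P⁆ ≤ A ∧ ⁅⁅A, A⁆, A⁆ = ⊥ ∧
    (∀ V ≤ P, ⁅V, V⁆ = ⊥ → (∀ B ∈ F, ⁅V, B⁆ ≤ V) → ⁅A, ⁅A, V⁆⁆ = ⊥) ∧
    (∀ M ≤ P, ⁅⁅M, M⁆, M⁆ = ⊥ → (∀ B ∈ F, ⁅M, B⁆ ≤ M) →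
      (∀ B ∈ F, ⁅B, B⁆ = ⊥ → ⁅M, ⁅M, B⁆⁆ = ⊥) → ⁅⁅A, A⁆, M⁆ = ⊥)

/-- The greatest admissible family. -/
def Fam (P : Subgroup X) : Set (Subgroup X) := {A | ∃ F, Adm P F ∧ A ∈ F}

theorem adm_fam (P : Subgroup X) : Adm P (Fam P) := by
  rintro A ⟨F, hF, hA⟩
  obtain ⟨h1, h2, h3, h4, h5⟩ := hF A hA
  exact ⟨h1, h2, h3, fun V hV hab hn => h4 V hV hab fun B hB => hn B ⟨F, hF, hB⟩,
    fun M hM hcl hn hq => h5 M hM hcl (fun B hB => hn B ⟨F, hF, hB⟩) fun B hB => hq B ⟨F, hF, hB⟩⟩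

theorem fam_tr (φ : MulAut P) {A : Subgroup X} (hA : A ∈ Fam P) : tr P φ A ∈ Fam P := by
  obtain ⟨F, hF, hAF⟩ := hA
  refine ⟨tr P φ '' F, ?_, ⟨A, hAF, rfl⟩⟩
  rintro _ ⟨A, hA, rfl⟩
  obtain ⟨h1, h2, h3, h4, h5⟩ := hF A hA
  have hPP : tr P φ P = P := le_antisymm (tr_le φ P) fun x hx => mem_tr.2
    ⟨φ.symm ⟨x, hx⟩, (φ.symm ⟨x, hx⟩).2, by rw [MulEquiv.apply_symm_apply]⟩
  have hback : ∀ {V : Subgroup X}, V ≤ P → tr P φ (tr P φ.symm V) = V := fun hV => by
    simpa using tr_symm φ.symm hV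
  refine ⟨tr_le _ _, ?_, ?_, fun V hV hab hn => ?_, fun M hM hcl hn hq => ?_⟩
  · calc ⁅tr P φ A, P⁆ = ⁅tr P φ A, tr P φ P⁆ := by rw [hPP]
      _ = tr P φ ⁅A, P⁆ := (tr_comm φ h1 le_rfl).symm
      _ ≤ _ := tr_mono φ h2
  · rw [← tr_comm φ h1 h1, ← tr_comm φ (comm_le h1 h1) h1, h3, tr_bot]
  · have hV' := tr_le φ.symm V
    have := h4 (tr P φ.symm V) hV' (by rw [← tr_comm φ.symm hV hV, hab, tr_bot]) fun B hB => by
      have e := tr_mono φ.symm (hn _ ⟨B, hB, rfl⟩)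
      rwa [tr_comm φ.symm hV (tr_le _ _), tr_symm φ (hF B hB).1] at e
    rw [← hback hV, ← tr_comm φ h1 hV', ← tr_comm φ h1 (comm_le h1 hV'), this, tr_bot]
  · have hM' := tr_le φ.symm M
    have := h5 (tr P φ.symm M) hM'
      (by rw [← tr_comm φ.symm hM hM, ← tr_comm φ.symm (comm_le hM hM) hM, hcl, tr_bot])
      (fun B hB => by
        have e := tr_mono φ.symm (hn _ ⟨B, hB, rfl⟩)
        rwa [tr_comm φ.symm hM (tr_le _ _), tr_symm φ (hF B hB).1] at e)
      (fun B hB hab => by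
        have hB1 := (hF B hB).1
        have e := hq _ ⟨B, hB, rfl⟩ (by rw [← tr_comm φ hB1 hB1, hab, tr_bot])
        conv_lhs => rw [← tr_symm φ hB1]
        rw [← tr_comm φ.symm hM (tr_le _ _), ← tr_comm φ.symm hM (comm_le hM (tr_le _ _)), e, tr_bot])
    rw [← hback hM, ← tr_comm φ h1 h1, ← tr_comm φ (comm_le h1 h1) hM', this, tr_bot]

/-- The closure of the family under inner maps by a set and automorphisms of `P`. -/
inductive Mem (P : Subgroup X) (S : Set X) : ℕ → Subgroup X → Prop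
  | base {A : Subgroup X} (h : A ∈ Fam P) : Mem P S 0 A
  | conj {n : ℕ} {B : Subgroup X} (g : X) (hg : g ∈ S) (h : Mem P S n B) :
      Mem P S (n + 1) (B.map (MulAut.conj g).toMonoidHom)
  | auto {n : ℕ} {B : Subgroup X} (φ : MulAut P) (h : Mem P S n B) : Mem P S (n + 1) (tr P φ B)

variable {S : Set X}

theorem mem_zero {A : Subgroup X} (h : Mem P S 0 A) : A ∈ Fam P := by
  cases h with
  | base h => exact h

theorem mem_class {n : ℕ} (hle : ∀ m ≤ n, ∀ B, Mem P S m B → B ≤ P) :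
    ∀ {i : ℕ} {B : Subgroup X}, i ≤ n → Mem P S i B → ⁅⁅B, B⁆, B⁆ = ⊥ := by
  intro i B hi hB
  induction hB with
  | base h => exact (adm_fam P _ h).2.2.1
  | conj g hg h ih => rw [← Subgroup.map_commutator, ← Subgroup.map_commutator, ih (by omega), Subgroup.map_bot]
  | auto φ h ih =>
    have hP := hle _ (by omega) _ h
    rw [← tr_comm φ hP hP, ← tr_comm φ (comm_le hP hP) hP, ih (by omega), tr_bot]

theorem rel_shift (hS : ∀ g ∈ S, g⁻¹ ∈ S) {n : ℕ} (hle : ∀ m ≤ n, ∀ B, Mem P S m B → B ≤ P) (Φ : Subgroup X → Subgroup X → Prop)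
    (hmap : ∀ (g : MulAut X) {B C : Subgroup X}, Φ B C → Φ (B.map g.toMonoidHom) (C.map g.toMonoidHom))
    (htr : ∀ (φ : MulAut P) {B C : Subgroup X}, B ≤ P → C ≤ P → Φ B C → Φ (tr P φ B) (tr P φ C))
    (hbase : ∀ {j : ℕ} {A C : Subgroup X}, j ≤ n → A ∈ Fam P → Mem P S j C → Φ A C) :
    ∀ {i j : ℕ} {B C : Subgroup X}, i + j ≤ n → Mem P S i B → Mem P S j C → Φ B C := by
  intro i j B C hij hB hC
  induction hB generalizing j C with
  | base h => exact hbase (by omega) h hC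
  | @conj m B g hg h ih =>
    have := hmap (MulAut.conj g) (ih (j := j + 1) (by omega) (Mem.conj g⁻¹ (hS g hg) hC))
    rwa [Subgroup.map_map, show (MulAut.conj g).toMonoidHom.comp (MulAut.conj g⁻¹).toMonoidHom =
      MonoidHom.id X from MonoidHom.ext fun x => by simp [mul_assoc], Subgroup.map_id] at this
  | @auto m B φ h ih =>
    have hCP := hle j (by omega) C hC
    have := htr φ (hle m (by omega) B h) (tr_le _ _) (ih (j := j + 1) (by omega) (Mem.auto φ.symm hC))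
    rwa [show tr P φ (tr P φ.symm C) = C by simpa using tr_symm φ.symm hCP] at this

/-- All relations hold between members whose depths add up to at most the bound. -/
theorem rel_mem (hS : ∀ g ∈ S, g⁻¹ ∈ S) {n : ℕ} (hle : ∀ m ≤ n, ∀ B, Mem P S m B → B ≤ P) :
    ∀ {i j : ℕ} {B C : Subgroup X}, i + j ≤ n → Mem P S i B → Mem P S j C → Rel B C := by
  have r1 : ∀ {i j : ℕ} {B C : Subgroup X}, i + j ≤ n → Mem P S i B → Mem P S j C → ⁅B, C⁆ ≤ B :=
    rel_shift hS hle (fun B C => ⁅B, C⁆ ≤ B)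
      (fun g B C h => by rw [← Subgroup.map_commutator]; exact Subgroup.map_mono h)
      (fun φ B C hB hC h => by rw [← tr_comm φ hB hC]; exact tr_mono φ h)
      (fun {j A C} hj hA hC => (Subgroup.commutator_mono le_rfl (hle j hj C hC)).trans (adm_fam P A hA).2.1)
  have r2 : ∀ {i j : ℕ} {B C : Subgroup X}, i + j ≤ n → Mem P S i B → Mem P S j C →
      (⁅C, C⁆ = ⊥ → ⁅B, ⁅B, C⁆⁆ = ⊥) :=
    rel_shift hS hle (fun B C => ⁅C, C⁆ = ⊥ → ⁅B, ⁅B, C⁆⁆ = ⊥)
      (fun g B C h hab => by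
        rw [← Subgroup.map_commutator, Subgroup.map_eq_bot_iff_of_injective _ g.injective] at hab
        rw [← Subgroup.map_commutator, ← Subgroup.map_commutator, h hab, Subgroup.map_bot])
      (fun φ B C hB hC h hab => by
        have hab' : ⁅C, C⁆ = ⊥ := by
          have := congrArg (tr P φ.symm) hab
          rwa [← tr_comm φ hC hC, tr_symm φ (comm_le hC hC), tr_bot] at this
        rw [← tr_comm φ hB hC, ← tr_comm φ hB (comm_le hB hC), h hab', tr_bot])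
      (fun {j A C} hj hA hC hab =>
        (adm_fam P A hA).2.2.2.1 C (hle j hj C hC) hab fun F hF => r1 (by omega) hC (Mem.base hF))
  intro i j B C hij hB hC
  refine ⟨r1 hij hB hC, r2 hij hB hC, ?_⟩
  exact rel_shift hS hle (fun B C => ⁅⁅B, B⁆, C⁆ = ⊥)
    (fun g B C h => by rw [← Subgroup.map_commutator, ← Subgroup.map_commutator, h, Subgroup.map_bot])
    (fun φ B C hB hC h => by rw [← tr_comm φ hB hB, ← tr_comm φ (comm_le hB hB) hC, h, tr_bot])
    (fun {j A C} hj hA hC => (adm_fam P A hA).2.2.2.2 C (hle j hj C hC) (mem_class hle hj hC)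
      (fun F hF => r1 (by omega) hC (Mem.base hF)) (fun F hF => r2 (by omega) hC (Mem.base hF))) hij hB hC

theorem block_mem_fam (h : Setting p G R P Q) (h5 : 5 ≤ p) {A Z : Subgroup X} (b : Block p Q A Z) :
    A ∈ Fam P := by
  refine ⟨{A | (∃ Z, Block p Q A Z) ∨ (A.Normal ∧ A ≤ Q ∧ ⁅A, A⁆ = ⊥)}, ?_, Or.inl ⟨Z, b⟩⟩
  intro A hA
  have hAQ : A ≤ Q := hA.elim (fun ⟨_, b⟩ => b.le) fun h => h.2.1
  have hAn : A.Normal := hA.elim (fun ⟨_, b⟩ => b.anormal) fun h => h.1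
  haveI := hAn
  refine ⟨hAQ.trans h.qle, Subgroup.commutator_le_left A P, ?_, fun V hV hab hn => ?_, fun M hM hcl hn hq => ?_⟩
  · rcases hA with ⟨Z, b⟩ | ⟨_, _, hab⟩
    · exact eq_bot_iff.2 ((Subgroup.commutator_mono b.comm le_rfl).trans
        ((Subgroup.commutator_comm Z A).trans b.central).le)
    · rw [hab, Subgroup.commutator_bot_left]
  · rcases hA with ⟨Z, b⟩ | ⟨_, _, hAA⟩
    · have hVQ : V ≤ Q := crit h h5 hV fun A' Z' b' y hy x hx => by
        have h1 : ⁅y, x⁆ ∈ V := hn A' (Or.inl ⟨Z', b'⟩) (Subgroup.commutator_mem_commutator hy hx)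
        have h2 := Subgroup.commutator_mem_commutator hy h1
        rw [hab, Subgroup.mem_bot] at h2
        rw [h2]; exact one_mem _
      refine eq_bot_iff.2 ((Subgroup.commutator_mono le_rfl (Subgroup.commutator_mono le_rfl hVQ)).trans ?_)
      rw [Subgroup.commutator_comm A Q]
      exact b.qquad.le
    · exact eq_bot_iff.2 ((Subgroup.commutator_mono le_rfl (Subgroup.commutator_le_left A V)).trans hAA.le)
  · rcases hA with ⟨Z, b⟩ | ⟨_, _, hAA⟩
    · have hD : ⁅⁅A, A⁆, ⁅A, A⁆⁆ = ⊥ := eq_bot_iff.2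
        ((Subgroup.commutator_mono (Subgroup.commutator_le_left A A) b.comm).trans b.central.le)
      exact cubic h h5 b hM (hn A (Or.inl ⟨Z, b⟩)) hcl (hq _ (Or.inr ⟨inferInstance,
        (Subgroup.commutator_le_left A A).trans hAQ, hD⟩) hD)
    · rw [hAA, Subgroup.commutator_bot_left]

theorem le_of_rel (h : Setting p G R P Q) (h5 : 5 ≤ p) {B : Subgroup X} (hB : B ≤ P)
    (hrel : ∀ A Z, Block p Q A Z → Rel B A) : B ≤ Q := by
  refine crit h h5 hB fun A Z b y hy x hx => ?_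
  haveI := b.anormal
  obtain ⟨r1, r2, r3⟩ := hrel A Z b
  by_cases hab : ⁅A, A⁆ = ⊥
  · have := Subgroup.commutator_mem_commutator hy (Subgroup.commutator_mem_commutator hy hx)
    rw [r2 hab, Subgroup.mem_bot] at this
    rw [this]; exact one_mem _
  · have h1 : ⁅y, ⁅y, x⁆⁆ ∈ ⁅B, B⁆ :=
      Subgroup.commutator_mem_commutator hy (r1 (Subgroup.commutator_mem_commutator hy hx))
    have hA : ⁅y, ⁅y, x⁆⁆ ∈ A := Subgroup.commutator_le_right B A
      (Subgroup.commutator_mem_commutator hy (Subgroup.commutator_le_right B A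
        (Subgroup.commutator_mem_commutator hy hx)))
    refine b.irr (A ⊓ Subgroup.centralizer (A : Set X)) inferInstance (lt_of_le_of_ne inf_le_left fun e => hab
      (Subgroup.commutator_eq_bot_iff_le_centralizer.2 (e.ge.trans inf_le_right))) ⟨hA, ?_⟩
    exact Subgroup.commutator_eq_bot_iff_le_centralizer.1 r3 h1

/-- An abelian subgroup normalised by `P` lies in the family. -/
theorem ab_mem_fam {A : Subgroup X} (hA : A ≤ P) (hn : ⁅A, P⁆ ≤ A) (hab : ⁅A, A⁆ = ⊥) : A ∈ Fam P := by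
  refine ⟨{A}, ?_, rfl⟩
  rintro _ rfl
  refine ⟨hA, hn, by rw [hab, Subgroup.commutator_bot_left], fun V hV _ _ => ?_, fun M _ _ _ _ => ?_⟩
  · exact eq_bot_iff.2 ((Subgroup.commutator_mono le_rfl
      ((Subgroup.commutator_mono le_rfl hV).trans hn)).trans hab.le)
  · rw [hab, Subgroup.commutator_bot_left]

/-- A characteristic subgroup normalised by all the members of a family of overgroups which absorb. -/
theorem exists_universal {ι : Type*} (P : Subgroup X) (U Qs : ι → Subgroup X) (hQP : ∀ i, Qs i ≤ P)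
    (hconj : ∀ i, ∀ g ∈ U i, ∀ x ∈ Qs i, g * x * g⁻¹ ∈ Qs i)
    (habs : ∀ i, ∀ B ≤ P, (∀ A ∈ Fam P, Rel B A) → B ≤ Qs i) :
    ∃ C ≤ P, (∀ A ∈ Fam P, A ≤ C) ∧ (∀ i, ∀ g ∈ U i, ∀ x ∈ C, g * x * g⁻¹ ∈ C) ∧
      ∀ φ : MulAut P, tr P φ C ≤ C := by
  set S : Set X := {g | ∃ i, g ∈ U i}
  have hS : ∀ g ∈ S, g⁻¹ ∈ S := fun g ⟨i, hi⟩ => ⟨i, inv_mem hi⟩
  have key : ∀ n, ∀ B, Mem P S n B → B ≤ P ∧ ∀ i, B ≤ Qs i := by
    intro n
    induction n using Nat.strong_induction_on with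
    | _ n ih =>
      have hn : ∀ B, Mem P S n B → B ≤ P := by
        intro B hB
        cases hB with
        | base h => exact (adm_fam P B h).1
        | @conj m B g hg h =>
          obtain ⟨i, hi⟩ := hg
          rintro _ ⟨y, hy, rfl⟩
          exact hQP i (hconj i g hi y ((ih m (Nat.lt_succ_self m) B h).2 i hy))
        | auto φ h => exact tr_le _ _
      intro B hB
      have hle : ∀ k ≤ n, ∀ B, Mem P S k B → B ≤ P := fun k hk B' hB' => by
        rcases eq_or_lt_of_le hk with rfl | hk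
        · exact hn B' hB'
        · exact (ih k hk B' hB').1
      exact ⟨hn B hB, fun i => habs i B (hn B hB) fun A hA =>
        rel_mem hS hle (i := n) (j := 0) (by omega) hB (Mem.base hA)⟩
  set C := sSup {B : Subgroup X | ∃ n, Mem P S n B}
  have hle : ∀ {n B}, Mem P S n B → B ≤ C := fun {n B} hB => le_sSup ⟨n, hB⟩
  refine ⟨C, sSup_le fun B ⟨n, hB⟩ => (key n B hB).1, fun A hA => hle (Mem.base hA), ?_, fun φ => ?_⟩
  · intro i g hg x hx
    have : C ≤ C.comap (MulAut.conj g).toMonoidHom := sSup_le fun B ⟨n, hB⟩ =>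
      Subgroup.map_le_iff_le_comap.1 (hle (Mem.conj g ⟨i, hg⟩ hB))
    exact this hx
  · have hT : C ≤ ((C.subgroupOf P).comap φ.toMonoidHom).map P.subtype := sSup_le fun B ⟨n, hB⟩ x hx =>
      ⟨⟨x, (key n B hB).1 hx⟩, hle (Mem.auto φ hB) (mem_tr.2 ⟨_, hx, rfl⟩), rfl⟩
    rintro x hx
    obtain ⟨a, ha, rfl⟩ := mem_tr.1 hx
    obtain ⟨a', ha', e⟩ := hT ha
    rwa [← Subtype.ext (show (a' : X) = a from e)]

end Cfsg.Agent.EquiQuad
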