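import Cfsg.Agent.Lib.EquiQuad.Classes

/-!
The fixed classes of a Sylow subgroup of the group generated by the members of least rank, the families opposite
to them, and the groups fixing both.
-/

set_option autoImplicit false
set_option linter.unusedSimpArgs false
set_option linter.unusedSectionVars false

namespace Cfsg.Agent.EquiQuad

open UniFamily QuadPair

variable {p : ℕ} [hp : Fact p.Prime] {M : Type} [AddCommGroup M] [Module (ZMod p) M] [FiniteDimensional (ZMod p) M]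

local notation "F" => ZMod p
local notation "GLM" => LinearMap.GeneralLinearGroup (ZMod p) M
local notation "EndM" => M →ₗ[ZMod p] M

theorem act_fix_of_commute {g t : GLM} (h : g * t = t * g) : act g (key t) = key t := act_key_self h

namespace Frame

variable {G K : Subgroup (LinearMap.GeneralLinearGroup (ZMod p) M)} (fr : Frame G K)

/-- The elements of `K` trivial on the flag form a subgroup. -/
def upGroup : Subgroup (LinearMap.GeneralLinearGroup (ZMod p) M) where
  carrier := fr.upSet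
  one_mem' := ⟨one_mem _, 0, 0, 0, isA_zero, isB_zero, isC_zero, by rw [up_zero]; rfl⟩
  mul_mem' := by
    rintro g h ⟨hg, α, β, γ, hA, hB, hC, he⟩ ⟨hh, α', β', γ', hA', hB', hC', he'⟩
    exact ⟨mul_mem hg hh, _, _, _, hA.add hA', hB.add hB', (hC.add hC').add (isC_AB hA hB'),
      by rw [Units.val_mul, he, he', up_mul hA hB hC hA' hB' hC']⟩
  inv_mem' := by
    rintro g ⟨hg, α, β, γ, hA, hB, hC, he⟩
    exact ⟨inv_mem hg, _, _, _, hA.neg, hB.neg, (isC_AB hA hB).sub hC, up_inv hA hB hC he⟩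

theorem upGroup_isPGroup : IsPGroup p fr.upGroup := by
  rintro ⟨g, hg, α, β, γ, hA, hB, hC, he⟩
  exact ⟨1, Subtype.ext (by rw [pow_one]; exact fr.up_pow_p hA hB hC he)⟩

theorem upGroup_fix {g : GLM} (hg : g ∈ fr.upGroup) : act g (key fr.s) = key fr.s := by
  obtain ⟨-, α, β, γ, hA, hB, hC, he⟩ := hg
  exact act_key_self (fr.up_comm_s hA hB hC he)

variable [FiniteDimensional (ZMod p) M]

/-- The stabiliser of the class normalises the elements trivial on the flag. -/
theorem upGroup_normal {x : GLM} (hx : x ∈ G) (hfix : act x (key fr.s) = key fr.s) {g : GLM}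
    (hg : g ∈ fr.upGroup) : x * g * x⁻¹ ∈ fr.upGroup := by
  obtain ⟨hgK, α, β, γ, hA, hB, hC, he⟩ := hg
  have hr : (LinearMap.range fr.a).map (x : EndM) = LinearMap.range fr.a := congrArg Prod.fst hfix
  have hk : (LinearMap.ker fr.a).map (x : EndM) = LinearMap.ker fr.a := congrArg Prod.snd hfix
  have hxi : ∀ v, ((x⁻¹ : GLM) : EndM) ((x : EndM) v) = v := fun v => LinearMap.congr_fun x.inv_mul v
  have hd : ∀ v, dev (x * g * x⁻¹) v = (x : EndM) (dev g (((x⁻¹ : GLM) : EndM) v)) := fun v => by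
    rw [dev_conj]; rfl
  have hD := dev_up he
  have happ : ∀ v, dev g v = α v + β (fr.a v) + γ (fr.a v) := fun v => by rw [hD]; rfl
  have hz : ∀ {y z : EndM}, y * z = 0 → ∀ v, y (z v) = 0 := fun h v => LinearMap.congr_fun h v
  refine ⟨fr.hnorm x hx g hgK, fr.exists_up ?_ ?_ ?_⟩
  · refine LinearMap.ext fun v => ?_
    obtain ⟨_, ⟨w, rfl⟩, hw⟩ := hr.ge ⟨v, rfl⟩
    rw [Module.End.mul_apply, hd, ← hw, hxi, happ, hz hA.ra, hz fr.haa, map_zero, map_zero]
    simp
  · refine LinearMap.ext fun v => ?_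
    rw [Module.End.mul_apply, hd]
    refine hk.le ⟨dev g _, ?_, rfl⟩
    show fr.a (dev g _) = 0
    rw [happ, map_add, map_add, hz hA.la, hz hB.la, hz hC.la]
    simp
  · refine LinearMap.ext fun v => ?_
    rw [Module.End.mul_apply, Module.End.mul_apply, hd]
    have hu : (1 - fr.b * fr.a) v ∈ LinearMap.ker fr.a := by
      show fr.a _ = 0
      rw [← Module.End.mul_apply, mul_sub, mul_one, fr.haba, sub_self]; rfl
    obtain ⟨u, hu', hue⟩ := hk.ge hu
    rw [← hue, hxi, happ, show fr.a u = 0 from hu', map_zero, map_zero, add_zero, add_zero]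
    obtain ⟨q, hq⟩ := hr.le ⟨α u, ⟨fr.b (α u), LinearMap.congr_fun hA.left u⟩, rfl⟩
    rw [← hq, ← Module.End.mul_apply, sub_mul, one_mul, mul_assoc, fr.haba, sub_self]
    rfl

/-- The torus element at the scalar two is not centralised by any large power. -/
theorem torus : ∃ ℓ ∈ K, fr.Blk ℓ ∧ ∀ m : ℕ, (ℓ ^ p ^ m) * fr.s = fr.s * (ℓ ^ p ^ m) → False := by
  have h2 := two_ne fr.h5 (p := p)
  obtain ⟨ℓ, hℓ, hblk, he, hb, -⟩ := fr.op_delta (fr.memA_smul fr.memA_e 2) (fr.memA_smul fr.memA_e (half : F))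
    (by rw [smul_mul_smul_comm, e_mul isC_e, mul_inv_cancel₀ h2, one_smul])
    (by rw [smul_mul_smul_comm, e_mul isC_e, inv_mul_cancel₀ h2, one_smul])
  refine ⟨ℓ, hℓ, hblk, fun m hm => ?_⟩
  have hpa : ∀ n : ℕ, ((ℓ ^ n : GLM) : EndM) * fr.a = ((2 : F) ^ n) • fr.a ∧
      ((ℓ ^ n : GLM) : EndM) * fr.b = ((half : F) ^ n) • fr.b ∧ fr.Blk (ℓ ^ n) := by
    intro n
    induction n with
    | zero => exact ⟨by simp, by simp, by simp [Blk]⟩
    | succ n ih =>
      obtain ⟨i1, i2, i3⟩ := ih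
      have e1 : (ℓ : EndM) * fr.a = (2 : F) • fr.a := by
        calc (ℓ : EndM) * fr.a = (ℓ : EndM) * fr.e * fr.a := by rw [mul_assoc, mul_assoc fr.a, fr.haba]
          _ = _ := by rw [he, smul_mul_assoc, mul_assoc fr.a, fr.haba]
      have e2 : (ℓ : EndM) * fr.b = (half : F) • fr.b := by
        rw [hb, mul_smul_comm, ← mul_assoc, show fr.b * fr.a * fr.b = fr.b from fr.bab]
      refine ⟨?_, ?_, ?_⟩
      · rw [pow_succ, Units.val_mul, mul_assoc, e1, mul_smul_comm, i1, smul_smul, pow_succ' (2 : F)]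
      · rw [pow_succ, Units.val_mul, mul_assoc, e2, mul_smul_comm, i2, smul_smul, pow_succ' (half : F)]
      · rw [pow_succ]; exact fr.blk_mul i3 hblk
  obtain ⟨i1, i2, i3⟩ := hpa (p ^ m)
  have hcomm : ((ℓ ^ p ^ m : GLM) : EndM) * fr.a = fr.a * ((ℓ ^ p ^ m : GLM) : EndM) := by
    show ((ℓ ^ p ^ m : GLM) : EndM) * ((fr.s : EndM) - 1) = ((fr.s : EndM) - 1) * ((ℓ ^ p ^ m : GLM) : EndM)
    rw [mul_sub, sub_mul, ← Units.val_mul, hm, Units.val_mul, mul_one, one_mul]
  have h3 : fr.a * ((ℓ ^ p ^ m : GLM) : EndM) = ((half : F) ^ (p ^ m)) • fr.a := by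
    calc fr.a * ((ℓ ^ p ^ m : GLM) : EndM) = fr.a * (fr.b * fr.a * ((ℓ ^ p ^ m : GLM) : EndM)) := by
          rw [← mul_assoc fr.a, fr.haba]
      _ = fr.a * (((ℓ ^ p ^ m : GLM) : EndM) * fr.b * fr.a) := by rw [← i3.2]; simp only [mul_assoc]
      _ = _ := by rw [i2, smul_mul_assoc, mul_smul_comm, fr.haba]
  rw [i1, h3, ← sub_eq_zero, ← sub_smul, smul_eq_zero, or_iff_left (dev_ne_zero fr.hs), sub_eq_zero] at hcomm
  rw [ZMod.pow_card_pow, ZMod.pow_card_pow] at hcomm
  refine natCast_ne (p := p) (n := 3) (by omega) (by have := fr.h5; omega) ?_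
  have h4 : (2 : F) * half = 1 := mul_inv_cancel₀ h2
  linear_combination (2 : F) * hcomm + h4

end Frame

section Ctx

variable (h5 : 5 ≤ p) {G : Subgroup (LinearMap.GeneralLinearGroup (ZMod p) M)} (hG : CR G)

/-- The classes of members of least rank fixed by a subgroup. -/
def FixC (G T : Subgroup (LinearMap.GeneralLinearGroup (ZMod p) M)) :
    Set (Submodule (ZMod p) M × Submodule (ZMod p) M) :=
  {C | (∃ x ∈ Min G, key x = C) ∧ ∀ g ∈ T, act g C = C}

/-- A family of classes, one in each orbit, opposite to the given ones. -/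
structure OppFam (G : Subgroup (LinearMap.GeneralLinearGroup (ZMod p) M))
    (A B : Set (Submodule (ZMod p) M × Submodule (ZMod p) M)) : Prop where
  isKey : ∀ C ∈ B, ∃ x ∈ Min G, key x = C
  total : ∀ C ∈ A, ∃ D ∈ B, Opp C D
  opp : ∀ D ∈ B, ∃ C ∈ A, Opp C D
  inj : ∀ D ∈ B, ∀ D' ∈ B, Same G D D' → D = D'

/-- The stabiliser of a set of classes. -/
def setStab (G : Subgroup (LinearMap.GeneralLinearGroup (ZMod p) M))
    (A : Set (Submodule (ZMod p) M × Submodule (ZMod p) M)) :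
    Subgroup (LinearMap.GeneralLinearGroup (ZMod p) M) where
  carrier := {g | g ∈ G ∧ act g '' A = A}
  one_mem' := ⟨one_mem _, by simp [act_one]⟩
  mul_mem' := fun {g h} hg hh => ⟨mul_mem hg.1 hh.1, by
    rw [show act (g * h) = act g ∘ act h from funext (act_mul g h), Set.image_comp, hh.2, hg.2]⟩
  inv_mem' := fun {g} hg => ⟨inv_mem hg.1, by
    conv_lhs => rw [← hg.2]
    rw [← Set.image_comp, show act g⁻¹ ∘ act g = id from funext (act_inv_act g), Set.image_id]⟩

include h5 hG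

/-- Classes meet the fixed points of any p-group preserving their orbit. -/
theorem fixed_exists {P : Subgroup GLM} (hPp : IsPGroup p P) (hP1 : P ≤ stab1 G) {s : GLM} (hs : s ∈ Min G) :
    ∃ x ∈ Min G, Same G (key s) (key x) ∧ ∀ g ∈ P, act g (key x) = key x := by
  classical
  haveI : Finite M := Module.finite_of_finite F
  haveI : Finite (Submodule F M) := Finite.of_injective (fun S : Submodule F M => (S : Set M)) SetLike.coe_injective
  let O : Type := {C // Same G (key s) C}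
  obtain ⟨fr, hfs⟩ := frame_at h5 hG hs
  have hinv : ∀ X : Subgroup GLM, X ≤ stab1 G → ∀ g ∈ X, ∀ C, Same G (key s) C → Same G (key s) (act g C) := by
    intro X hX g hg C hC
    exact same_trans ((hX hg).2 s hs) (same_map (fun _ => gen0_normal_self (hX hg).1) hC)
  have hU1 : fr.upGroup ≤ stab1 G := fun g hg => fr.hKG hg.1
  letI actU : MulAction fr.upGroup O :=
    { smul := fun g C => ⟨act g.1 C.1, hinv _ hU1 g.1 g.2 C.1 C.2⟩
      one_smul := fun C => Subtype.ext (act_one C.1)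
      mul_smul := fun g h C => Subtype.ext (act_mul g.1 h.1 C.1) }
  have e := min_stab1 h5 hs
  have hfix : MulAction.fixedPoints fr.upGroup O = {⟨key s, same_refl _ _⟩} := by
    ext C
    constructor
    · intro hC
      obtain ⟨g, hg, hgC⟩ := C.2
      set c := g * s * g⁻¹ with hc
      have hck : key c = C.1 := by rw [hc, key_conj, hgC]
      have hcm : c ∈ Min G := min_conj (gen0_le G hg) hs
      have hu := fr.uniq (noUni_of_CR (cr_stab1 hG)) (fr_semi h5 hG fr hfs) (fr_hgen h5 hG fr hfs)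
        (c := c) (e.symm ▸ hcm) (mem_kcls hcm (by rw [hck]; exact C.2)) (fun u hu => by
          rw [hck]; exact congrArg Subtype.val (hC ⟨u, hu⟩))
      rw [hck, hfs] at hu
      exact Subtype.ext hu
    · rintro rfl u
      exact Subtype.ext (by
        show act u.1 (key s) = key s
        have := fr.upGroup_fix u.2
        rwa [hfs] at this)
  have hcard : ¬ p ∣ Nat.card O := by
    intro hd
    have h1 := fr.upGroup_isPGroup.card_modEq_card_fixedPoints O
    rw [hfix, Nat.card_coe_set_eq, Set.ncard_singleton] at h1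
    have h2 : 1 % p = 0 := by rw [← h1]; exact Nat.mod_eq_zero_of_dvd hd
    rw [Nat.mod_eq_of_lt hp.out.one_lt] at h2
    exact one_ne_zero h2
  letI actP : MulAction P O :=
    { smul := fun g C => ⟨act g.1 C.1, hinv _ hP1 g.1 g.2 C.1 C.2⟩
      one_smul := fun C => Subtype.ext (act_one C.1)
      mul_smul := fun g h C => Subtype.ext (act_mul g.1 h.1 C.1) }
  obtain ⟨C, hC⟩ := hPp.nonempty_fixed_point_of_prime_not_dvd_card O hcard
  obtain ⟨g, hg, hgC⟩ := C.2
  refine ⟨g * s * g⁻¹, min_conj (gen0_le G hg) hs, ?_, fun u hu => ?_⟩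
  · rw [key_conj, hgC]; exact C.2
  · rw [key_conj, hgC]; exact congrArg Subtype.val (hC ⟨u, hu⟩)

variable {T : Subgroup (LinearMap.GeneralLinearGroup (ZMod p) M)} (hTp : IsPGroup p T) (hT0 : T ≤ gen0 G)
  (hTmax : ∀ P : Subgroup (LinearMap.GeneralLinearGroup (ZMod p) M), IsPGroup p P → T ≤ P → P ≤ gen0 G → P = T)
include hTp hT0 hTmax

theorem upper_le {s : GLM} (hs : s ∈ Min G) (hfix : ∀ g ∈ T, act g (key s) = key s)
    (fr : Frame (stab1 G) (kcls G (key s))) (hfs : fr.s = s) : fr.upGroup ≤ T := by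
  have hn : T ≤ Subgroup.normalizer (fr.upGroup : Set GLM) := fun g hg => by
    rw [Subgroup.mem_normalizer_iff]
    intro u
    refine ⟨fun hu => fr.upGroup_normal (gen0_le_stab1 G (hT0 hg)) (by rw [hfs]; exact hfix g hg) hu, fun hu => ?_⟩
    have := fr.upGroup_normal (gen0_le_stab1 G (hT0 (inv_mem hg)))
      (by rw [hfs]; exact hfix _ (inv_mem hg)) hu
    rwa [show g⁻¹ * (g * u * g⁻¹) * g⁻¹⁻¹ = u by group] at this
  have := hTmax _ (hTp.to_sup_of_normal_right' fr.upGroup_isPGroup hn) le_sup_left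
    (sup_le hT0 fun g hg => kcls_le G _ hg.1)
  exact le_sup_right.trans this.le

theorem fixC_unique {C D : Submodule F M × Submodule F M} (hC : C ∈ FixC G T) (hD : D ∈ FixC G T)
    (h : Same G C D) : C = D := by
  obtain ⟨⟨s, hs, rfl⟩, hC'⟩ := hC
  obtain ⟨⟨y, hy, rfl⟩, hD'⟩ := hD
  obtain ⟨fr, hfs⟩ := frame_at h5 hG hs
  have e := min_stab1 h5 hs
  have hu := fr.uniq (noUni_of_CR (cr_stab1 hG)) (fr_semi h5 hG fr hfs) (fr_hgen h5 hG fr hfs)
    (c := y) (e.symm ▸ hy) (mem_kcls hy h)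
    (fun u hu => hD' u (upper_le h5 hG hTp hT0 hTmax hs hC' fr hfs hu))
  rw [hfs] at hu
  exact hu.symm

theorem fixC_total {x : GLM} (hx : x ∈ Min G) : ∃ C ∈ FixC G T, Same G (key x) C := by
  obtain ⟨y, hy, h1, h2⟩ := fixed_exists h5 hG hTp (hT0.trans (gen0_le_stab1 G)) hx
  exact ⟨key y, ⟨⟨y, hy, rfl⟩, h2⟩, h1⟩

omit hTp hT0 hTmax in
/-- Moving one class in each orbit independently. -/
theorem exists_move (B : Set (Submodule F M × Submodule F M))
    (f : Submodule F M × Submodule F M → Submodule F M × Submodule F M) (X : Subgroup GLM)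
    (hkey : ∀ C ∈ B, Same G C (f C))
    (hinj : ∀ C ∈ B, ∀ D ∈ B, Same G C D → C = D)
    (hstep : ∀ C ∈ B, ∃ u ∈ X, act u C = f C ∧ ∀ D ∈ B, ¬ Same G C D →
      act u D = D ∧ act u (f D) = f D) :
    ∃ u ∈ X, ∀ C ∈ B, act u C = f C := by
  classical
  haveI : Finite M := Module.finite_of_finite F
  haveI : Finite (Submodule F M) := Finite.of_injective (fun S : Submodule F M => (S : Set M)) SetLike.coe_injective
  suffices ∀ s : Finset (Submodule F M × Submodule F M), ↑s ⊆ B →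
      ∃ u ∈ X, ∀ C ∈ B, (C ∈ s → act u C = f C) ∧ (C ∉ s → act u C = C) by
    obtain ⟨u, hu, h⟩ := this B.toFinite.toFinset (by simp)
    exact ⟨u, hu, fun C hC => (h C hC).1 (by simpa using hC)⟩
  intro s
  induction s using Finset.induction_on with
  | empty => exact fun _ => ⟨1, one_mem _, fun C _ => ⟨by simp, fun _ => act_one C⟩⟩
  | insert A s hA ih =>
    intro hsub
    rw [Finset.coe_insert, Set.insert_subset_iff] at hsub
    obtain ⟨hAB, hsB⟩ := hsub
    obtain ⟨u, hu, hP⟩ := ih hsB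
    obtain ⟨v, hv, hvA, hvo⟩ := hstep A hAB
    refine ⟨v * u, mul_mem hv hu, fun C hC => ⟨fun hCs => ?_, fun hCs => ?_⟩⟩
    · rw [act_mul]
      rcases Finset.mem_insert.1 hCs with rfl | hCs
      · rw [(hP C hC).2 hA, hvA]
      · rw [(hP C hC).1 hCs]
        exact (hvo C hC fun h => hA (by rw [hinj A hAB C hC h]; exact hCs)).2
    · rw [Finset.mem_insert, not_or] at hCs
      rw [act_mul, (hP C hC).2 hCs.2]
      exact (hvo C hC fun h => hCs.1 (hinj A hAB C hC h).symm).1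

omit hTp hT0 hTmax in
theorem fix_other {C D : Submodule F M × Submodule F M} (hD : ∃ y ∈ Min G, key y = D) (hd : ¬ Same G C D)
    {u : GLM} (hu : u ∈ kcls G C) : act u D = D := by
  obtain ⟨y, hy, rfl⟩ := hD
  exact act_key_self (kcls_fix h5 hG hy hd hu)

theorem exists_oppFam : ∃ B, OppFam G (FixC G T) B := by
  classical
  have hch : ∀ C : FixC G T, ∃ D, (∃ x ∈ Min G, key x = D) ∧ Opp C.1 D := by
    rintro ⟨_, ⟨s, hs, rfl⟩, -⟩
    obtain ⟨fr, hfs⟩ := frame_at h5 hG hs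
    refine ⟨key fr.t, ⟨fr.t, mem_min_of_stab1 h5 fr.ht, rfl⟩, ?_⟩
    have := fr.opp_st
    rwa [hfs] at this
  choose f hf ho using hch
  refine ⟨Set.range f, fun D ⟨C, e⟩ => e ▸ hf C, fun C hC => ⟨f ⟨C, hC⟩, ⟨_, rfl⟩, ho ⟨C, hC⟩⟩,
    fun D ⟨C, e⟩ => ⟨C.1, C.2, e ▸ ho C⟩, ?_⟩
  rintro _ ⟨C, rfl⟩ _ ⟨C', rfl⟩ hsame
  obtain ⟨⟨s, hs, es⟩, -⟩ := C.2
  obtain ⟨⟨s', hs', es'⟩, -⟩ := C'.2
  obtain ⟨t, ht, et⟩ := hf C
  obtain ⟨t', ht', et'⟩ := hf C'
  have h1 : Same G C.1 (f C) := by rw [← es, ← et]; exact same_of_opp h5 hs ht (by rw [es, et]; exact ho C)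
  have h2 : Same G C'.1 (f C') := by rw [← es', ← et']; exact same_of_opp h5 hs' ht' (by rw [es', et']; exact ho C')
  rw [Subtype.ext (fixC_unique h5 hG hTp hT0 hTmax C.2 C'.2 (same_trans h1 (same_trans hsame (same_symm h2))))]

omit hTp hT0 hTmax in
theorem oppFam_same {A B : Set (Submodule F M × Submodule F M)} (hA : ∀ C ∈ A, ∃ x ∈ Min G, key x = C)
    (hB : OppFam G A B) {C D : Submodule F M × Submodule F M} (hC : C ∈ A) (hD : D ∈ B) (h : Opp C D) :
    Same G C D := by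
  obtain ⟨s, hs, rfl⟩ := hA C hC
  obtain ⟨t, ht, rfl⟩ := hB.isKey D hD
  exact same_of_opp h5 hs ht h

/-- The Sylow subgroup is transitive on the families opposite to its fixed classes. -/
theorem oppFam_trans {B B' : Set (Submodule F M × Submodule F M)} (hB : OppFam G (FixC G T) B)
    (hB' : OppFam G (FixC G T) B') : ∃ u ∈ T, act u '' B = B' := by
  classical
  have hA : ∀ C ∈ FixC G T, ∃ x ∈ Min G, key x = C := fun C hC => hC.1
  have hch : ∀ D : B, ∃ D' ∈ B', ∃ C ∈ FixC G T, Opp C D.1 ∧ Opp C D' := fun D => by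
    obtain ⟨C, hC, ho⟩ := hB.opp D.1 D.2
    obtain ⟨D', hD', ho'⟩ := hB'.total C hC
    exact ⟨D', hD', C, hC, ho, ho'⟩
  choose g hg c hc ho ho' using hch
  let f : Submodule F M × Submodule F M → Submodule F M × Submodule F M :=
    fun D => if h : D ∈ B then g ⟨D, h⟩ else D
  have hfB : ∀ D (h : D ∈ B), f D = g ⟨D, h⟩ := fun D h => dif_pos h
  have hkey : ∀ D ∈ B, Same G D (f D) := fun D hD => by
    rw [hfB D hD]
    exact same_trans (same_symm (oppFam_same h5 hG hA hB (hc ⟨D, hD⟩) hD (ho ⟨D, hD⟩)))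
      (oppFam_same h5 hG hA hB' (hc ⟨D, hD⟩) (hg _) (ho' ⟨D, hD⟩))
  obtain ⟨u, hu, hmove⟩ := exists_move h5 hG B f T hkey hB.inj (fun D hD => by
    obtain ⟨⟨s, hs, es⟩, hfix⟩ := hc ⟨D, hD⟩
    obtain ⟨t, ht, et⟩ := hB.isKey D hD
    obtain ⟨t', ht', et'⟩ := hB'.isKey _ (hg ⟨D, hD⟩)
    have o1 : Opp (key s) (key t) := by rw [es, et]; exact ho ⟨D, hD⟩
    have o2 : Opp (key s) (key t') := by rw [es, et']; exact ho' ⟨D, hD⟩
    obtain ⟨fr, hfs, hft⟩ := exists_frame h5 hG hs ht o1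
    have e := min_stab1 h5 hs
    obtain ⟨h, hh, α, β, γ, hA', hB'', hC', hhv, hact⟩ := fr.trans (e.symm ▸ ht')
      (mem_kcls ht' (same_of_opp h5 hs ht' o2)) (by rw [hfs]; exact o2)
    have hhT : h ∈ T := upper_le h5 hG hTp hT0 hTmax hs (fun x hx => by rw [es]; exact hfix x hx) fr hfs
      ⟨hh, α, β, γ, hA', hB'', hC', hhv⟩
    refine ⟨h, hhT, ?_, fun D' hD' hd => ?_⟩
    · rw [hfB D hD, ← et']
      have q := hact
      rw [hft, et] at q
      exact q
    · have hsD : Same G (key s) D := by rw [← et]; exact same_of_opp h5 hs ht o1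
      refine ⟨fix_other h5 hG (hB.isKey D' hD') (fun q => hd (same_trans (same_symm hsD) q)) hh, ?_⟩
      refine fix_other h5 hG ?_ (fun q => hd (same_trans (same_symm hsD)
        (same_trans q (same_symm (hkey D' hD'))))) hh
      rw [hfB D' hD']; exact hB'.isKey _ (hg _))
  refine ⟨u, hu, Set.Subset.antisymm ?_ fun D' hD' => ?_⟩
  · rintro _ ⟨D, hD, rfl⟩
    rw [hmove D hD, hfB D hD]; exact hg _
  · obtain ⟨C, hC, hoD⟩ := hB'.opp D' hD'
    obtain ⟨D, hD, hoC⟩ := hB.total C hC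
    refine ⟨D, hD, ?_⟩
    rw [hmove D hD]
    refine hB'.inj _ (by rw [hfB D hD]; exact hg _) _ hD' ?_
    exact same_trans (same_symm (hkey D hD)) (same_trans (same_symm (oppFam_same h5 hG hA hB hC hD hoC))
      (oppFam_same h5 hG hA hB' hC hD' hoD))

/-- An element carrying the fixed classes to an opposite family. -/
theorem oppFam_swap {B : Set (Submodule F M × Submodule F M)} (hB : OppFam G (FixC G T) B) :
    ∃ g ∈ gen0 G, act g '' FixC G T = B := by
  classical
  have hA : ∀ C ∈ FixC G T, ∃ x ∈ Min G, key x = C := fun C hC => hC.1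
  have hch : ∀ C : FixC G T, ∃ D ∈ B, Opp C.1 D := fun C => hB.total C.1 C.2
  choose g hg ho using hch
  let f : Submodule F M × Submodule F M → Submodule F M × Submodule F M :=
    fun C => if h : C ∈ FixC G T then g ⟨C, h⟩ else C
  have hfA : ∀ C (h : C ∈ FixC G T), f C = g ⟨C, h⟩ := fun C h => dif_pos h
  have hkey : ∀ C ∈ FixC G T, Same G C (f C) := fun C hC => by
    rw [hfA C hC]; exact oppFam_same h5 hG hA hB hC (hg _) (ho ⟨C, hC⟩)
  obtain ⟨u, hu, hmove⟩ := exists_move h5 hG (FixC G T) f (gen0 G) hkey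
    (fun C hC D hD h => fixC_unique h5 hG hTp hT0 hTmax hC hD h) (fun C hC => by
    obtain ⟨s, hs, es⟩ := hC.1
    obtain ⟨t, ht, et⟩ := hB.isKey _ (hg ⟨C, hC⟩)
    have o1 : Opp (key s) (key t) := by rw [es, et]; exact ho ⟨C, hC⟩
    obtain ⟨fr, hfs, hft⟩ := exists_frame h5 hG hs ht o1
    refine ⟨fr.w, kcls_le G _ fr.w_mem, ?_, fun D hD hd => ?_⟩
    · rw [hfA C hC]
      have q : act fr.w (key fr.s) = key fr.t := by
        rw [← key_conj, show fr.w * fr.s * fr.w⁻¹ = fr.t⁻¹ from (exists_swap fr.aba fr.bab fr.haa fr.hbb).2,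
          key_inv fr.hbb]
      rw [hft, et, hfs] at q
      exact (congrArg (act fr.w) es).symm.trans q
    · refine ⟨fix_other h5 hG hD.1 (by rw [es]; exact hd) fr.w_mem, ?_⟩
      refine fix_other h5 hG ?_ (fun q => hd (same_trans (es ▸ q) (same_symm (hkey D hD)))) fr.w_mem
      rw [hfA D hD]; exact hB.isKey _ (hg _))
  refine ⟨u, hu, Set.Subset.antisymm ?_ fun D hD => ?_⟩
  · rintro _ ⟨C, hC, rfl⟩
    rw [hmove C hC, hfA C hC]; exact hg _
  · obtain ⟨C, hC, hoD⟩ := hB.opp D hD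
    refine ⟨C, hC, ?_⟩
    rw [hmove C hC]
    refine hB.inj _ (by rw [hfA C hC]; exact hg _) _ hD ?_
    exact same_trans (same_symm (hkey C hC)) (oppFam_same h5 hG hA hB hC hD hoD)

/-- The stabiliser of a family is proper. -/
theorem setStab_ne {B : Set (Submodule F M × Submodule F M)} (hA : ∀ C ∈ B, ∃ x ∈ Min G, key x = C)
    (hinj : ∀ C ∈ B, ∀ D ∈ B, Same G C D → C = D) (hne : B.Nonempty) : setStab G B ≠ G := by
  intro h
  obtain ⟨C, hC⟩ := hne
  obtain ⟨s, hs, rfl⟩ := hA C hC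
  obtain ⟨fr, hfs⟩ := frame_at h5 hG hs
  have hwG : fr.w ∈ G := gen0_le G (kcls_le G _ fr.w_mem)
  have hw : act fr.w '' B = B := ((h.ge hwG : fr.w ∈ setStab G B)).2
  have h1 : act fr.w (key s) = key s :=
    (hinj _ hC _ (hw.subset ⟨_, hC, rfl⟩) ⟨fr.w, kcls_le G _ fr.w_mem, rfl⟩).symm
  have h2 := fr.opp_st
  replace h1 : act fr.w (key fr.s) = key fr.s := by rw [hfs]; exact h1
  rw [← key_conj, show fr.w * fr.s * fr.w⁻¹ = fr.t⁻¹ from (exists_swap fr.aba fr.bab fr.haa fr.hbb).2,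
    key_inv fr.hbb] at h1
  rw [h1] at h2
  refine dev_ne_zero fr.hs (LinearMap.range_eq_bot.1 (eq_bot_iff.2 fun v hv => ?_))
  rw [← h2.1]
  refine ⟨hv, ?_⟩
  obtain ⟨w, rfl⟩ := hv
  exact LinearMap.congr_fun fr.haa w

/-- A p-group normalised by the stabiliser of both families fixes every orbit, and its quadratic elements
centralise the group generated by the members of least rank. -/
theorem core_centralises {B : Set (Submodule F M × Submodule F M)} (hB : OppFam G (FixC G T) B)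
    {Q : Subgroup GLM} (hQp : IsPGroup p Q) (hQA : Q ≤ setStab G (FixC G T)) (hQB : Q ≤ setStab G B)
    (hQn : ∀ g ∈ setStab G (FixC G T) ⊓ setStab G B, ∀ q ∈ Q, g * q * g⁻¹ ∈ Q)
    {x : GLM} (hx : x ∈ Q) (hsq : dev x * dev x = 0) : ∀ g ∈ gen0 G, x * g = g * x := by
  classical
  have hA : ∀ C ∈ FixC G T, ∃ x ∈ Min G, key x = C := fun C hC => hC.1
  have hpair : ∀ C ∈ FixC G T, ∃ s ∈ Min G, key s = C ∧ ∃ D ∈ B, Opp C D ∧
      ∃ fr : Frame (stab1 G) (kcls G (key s)), fr.s = s ∧ key fr.t = D := by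
    intro C hC
    obtain ⟨s, hs, es⟩ := hC.1
    obtain ⟨D, hD, ho⟩ := hB.total C hC
    obtain ⟨t, ht, et⟩ := hB.isKey D hD
    obtain ⟨fr, h1, h2⟩ := exists_frame h5 hG hs ht (by rw [es, et]; exact ho)
    exact ⟨s, hs, es, D, hD, ho, fr, h1, h2.trans et⟩
  have hfixall : ∀ C ∈ FixC G T, ∀ D ∈ B, ∀ ℓ ∈ kcls G C, act ℓ C = C →
      Same G C D → act ℓ D = D → ℓ ∈ setStab G (FixC G T) ⊓ setStab G B := by
    intro C hC D hD ℓ hℓ h1 hs h2
    have hℓG : ℓ ∈ G := gen0_le G (kcls_le G _ hℓ)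
    refine ⟨⟨hℓG, ?_⟩, ⟨hℓG, ?_⟩⟩
    · refine (Set.image_congr (g := id) fun C' hC' => ?_).trans (Set.image_id _)
      by_cases h : Same G C C'
      · rw [← fixC_unique h5 hG hTp hT0 hTmax hC hC' h]; exact h1
      · exact fix_other h5 hG hC'.1 h hℓ
    · refine (Set.image_congr (g := id) fun D' hD' => ?_).trans (Set.image_id _)
      by_cases h : Same G C D'
      · rw [← hB.inj D hD D' hD' (same_trans (same_symm hs) h)]; exact h2
      · exact fix_other h5 hG (hB.isKey D' hD') h hℓ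
  have hblkmem : ∀ s : GLM, key s ∈ FixC G T → ∀ fr : Frame (stab1 G) (kcls G (key s)), fr.s = s → key fr.t ∈ B →
      ∀ ℓ ∈ kcls G (key s), fr.Blk ℓ → ℓ ∈ setStab G (FixC G T) ⊓ setStab G B := by
    intro s hC fr hfs ht ℓ hℓ hb
    obtain ⟨f1, f2⟩ := fr.blk_fix hb
    refine hfixall _ hC _ ht ℓ hℓ (by rw [← hfs]; exact f1) ?_ f2
    have := same_of_opp h5 (mem_min_of_stab1 h5 fr.hs) (mem_min_of_stab1 h5 fr.ht) fr.opp_st
    rwa [hfs] at this
  -- every element of `Q` fixes every fixed class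
  have hqfix : ∀ q ∈ Q, ∀ C ∈ FixC G T, act q C = C := by
    intro q hq C hC
    by_contra hne
    obtain ⟨s, hs, rfl, D, hD, ho, fr, hfs, hft⟩ := hpair C hC
    have hqC : act q (key s) ∈ FixC G T := (hQA hq).2.subset ⟨_, hC, rfl⟩
    have hd : ¬ Same G (key s) (act q (key s)) := fun h => hne (fixC_unique h5 hG hTp hT0 hTmax hC hqC h).symm
    obtain ⟨ℓ, hℓ, hb, htor⟩ := fr.torus
    have hℓm := hblkmem s hC fr hfs (by rw [hft]; exact hD) ℓ hℓ hb
    have hqG : q ∈ G := (hQA hq).1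
    have hℓ' : q * ℓ * q⁻¹ ∈ kcls G (act q (key s)) := by
      have : kcls G (key s) ≤ (kcls G (act q (key s))).comap (MulAut.conj q).toMonoidHom := by
        refine (Subgroup.closure_le _).2 fun y hy => ?_
        show q * y * q⁻¹ ∈ kcls G (act q (key s))
        refine mem_kcls (min_conj hqG hy.1) ?_
        rw [key_conj]; exact same_map (fun _ => gen0_normal_self hqG) hy.2
      exact this hℓ
    have hcent : ∀ y ∈ orbSet G (key s), q * ℓ * q⁻¹ * y = y * (q * ℓ * q⁻¹) := fun y hy =>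
      kcls_fix h5 hG hy.1 (fun h => hd (same_trans hy.2 (same_symm h))) hℓ'
    have hcK : ∀ y ∈ kcls G (key s), q * ℓ * q⁻¹ * y = y * (q * ℓ * q⁻¹) := by
      have : kcls G (key s) ≤ Subgroup.centralizer {q * ℓ * q⁻¹} := by
        refine (Subgroup.closure_le _).2 fun y hy => ?_
        show y ∈ Subgroup.centralizer {q * ℓ * q⁻¹}
        rw [Subgroup.mem_centralizer_iff]
        intro z hz
        rw [Set.mem_singleton_iff.1 hz]; exact hcent y hy
      exact fun y hy => Subgroup.mem_centralizer_iff.1 (this hy) _ rfl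
    have hc : q * ℓ * q⁻¹ * ℓ⁻¹ ∈ Q := by
      have := Q.mul_mem hq (hQn ℓ hℓm q⁻¹ (Q.inv_mem hq))
      simpa [mul_assoc] using this
    obtain ⟨m, hm⟩ := hQp ⟨_, hc⟩
    have hm' : (q * ℓ * q⁻¹ * ℓ⁻¹) ^ p ^ m = 1 := congrArg Subtype.val hm
    have hcom : Commute (q * ℓ * q⁻¹) ℓ := hcK ℓ hℓ
    rw [hcom.inv_right.mul_pow, inv_pow, mul_inv_eq_one] at hm'
    refine htor m ?_
    rw [← hm']
    exact ((show Commute (q * ℓ * q⁻¹) fr.s from hcK _ fr.hsK).pow_left _).eq
  have hQ1 : Q ≤ stab1 G := by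
    intro q hq
    refine ⟨(hQA hq).1, fun y hy => ?_⟩
    obtain ⟨C, hC, hsame⟩ := fixC_total h5 hG hTp hT0 hTmax hy
    have h1 := same_map (g := q) (fun _ => gen0_normal_self (hQA hq).1) hsame
    rw [hqfix q hq C hC] at h1
    exact same_trans hsame (same_symm h1)
  have hcen : ∀ C ∈ FixC G T, ∀ g ∈ kcls G C, x * g = g * x := by
    intro C hC
    obtain ⟨s, hs, rfl, D, hD, ho, fr, hfs, hft⟩ := hpair C hC
    have hQb : ∀ q ∈ Q, fr.Blk q := by
      intro q hq
      have h1 : act q (key s) = key s := hqfix q hq _ hC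
      refine fr.blk_of_fix (by rw [hfs]; exact h1) ?_
      rw [hft]
      obtain ⟨t, ht, et⟩ := hB.isKey D hD
      refine (hB.inj D hD _ ((hQB hq).2.subset ⟨_, hD, rfl⟩) ?_).symm
      rw [← et]; exact (hQ1 hq).2 t ht
    refine fr.qlemma (fr_semi h5 hG fr hfs) (fr_hgen h5 hG fr hfs) Q hQ1 (unipotent_of_pgroup hQp) hQb ?_ hx hsq
    intro ℓ hℓ hb q hq
    exact hQn ℓ (hblkmem s hC fr hfs (by rw [hft]; exact hD) ℓ hℓ hb) q hq
  intro g hg
  have : gen0 G ≤ Subgroup.centralizer {x} := by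
    refine (Subgroup.closure_le _).2 fun y hy => ?_
    show y ∈ Subgroup.centralizer {x}
    rw [Subgroup.mem_centralizer_iff]
    intro z hz
    rw [Set.mem_singleton_iff.1 hz]
    obtain ⟨C, hC, hsame⟩ := fixC_total h5 hG hTp hT0 hTmax hy
    exact hcen C hC y (mem_kcls hy (same_symm hsame))
  exact Subgroup.mem_centralizer_iff.1 (this hg) x rfl

end Ctx

end Cfsg.Agent.EquiQuad
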