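import Cfsg.Agent.Lib.EquiQuad.Basic

/-!
Coordinates attached to a normalised pair `a, b` of opposite deviations: with `e₁ = ab`, `e₂ = ba`, `e₀ = 1 - e₁ - e₂`
an element trivial on the flag of `a` is written `1 + α + βa + γa` with `α ∈ e₁Ee₀`, `β ∈ e₀Ee₁`, `γ ∈ e₁Ee₁`.
-/

set_option autoImplicit false

namespace Cfsg.Agent.EquiQuad

open UniFamily QuadPair

variable {p : ℕ} [hp : Fact p.Prime] {M : Type} [AddCommGroup M] [Module (ZMod p) M]

local notation "F" => ZMod p
local notation "GLM" => LinearMap.GeneralLinearGroup (ZMod p) M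
local notation "EndM" => M →ₗ[ZMod p] M

/-- A normalised pair of members of least rank inside a subgroup `K` of `G`. -/
structure Frame (G K : Subgroup (LinearMap.GeneralLinearGroup (ZMod p) M)) where
  h5 : 5 ≤ p
  hKG : K ≤ G
  s : LinearMap.GeneralLinearGroup (ZMod p) M
  t : LinearMap.GeneralLinearGroup (ZMod p) M
  hs : s ∈ Min G
  ht : t ∈ Min G
  hsK : s ∈ K
  htK : t ∈ K
  hmem : ∀ x ∈ Min G, ∀ y ∈ Min G, y ∈ K → key x = key y → x ∈ K
  hnorm : ∀ g ∈ G, ∀ x ∈ K, g * x * g⁻¹ ∈ K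
  aba : dev s * dev t * dev s = dev s
  bab : dev t * dev s * dev t = dev t

namespace Frame

variable {G K : Subgroup (LinearMap.GeneralLinearGroup (ZMod p) M)} (fr : Frame G K)

/-- The deviation `a`. -/
abbrev a : M →ₗ[ZMod p] M := dev fr.s

/-- The deviation `b`. -/
abbrev b : M →ₗ[ZMod p] M := dev fr.t

/-- The unit of the corner. -/
abbrev e : M →ₗ[ZMod p] M := fr.a * fr.b

/-- The type of `α`. -/
structure IsA (x : M →ₗ[ZMod p] M) : Prop where
  left : fr.a * (fr.b * x) = x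
  ra : x * fr.a = 0
  rb : x * fr.b = 0

/-- The type of `β`. -/
structure IsB (x : M →ₗ[ZMod p] M) : Prop where
  right : x * (fr.a * fr.b) = x
  la : fr.a * x = 0
  lb : fr.b * x = 0

/-- The type of `γ`. -/
structure IsC (x : M →ₗ[ZMod p] M) : Prop where
  left : fr.a * (fr.b * x) = x
  right : x * (fr.a * fr.b) = x

theorem haa : fr.a * fr.a = 0 := sq_zero fr.hs
theorem hbb : fr.b * fr.b = 0 := sq_zero fr.ht
theorem haba : fr.a * (fr.b * fr.a) = fr.a := by rw [← mul_assoc]; exact fr.aba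
theorem hbab : fr.b * (fr.a * fr.b) = fr.b := by rw [← mul_assoc]; exact fr.bab

variable {fr}

theorem IsA.la {x : EndM} (h : fr.IsA x) : fr.a * x = 0 := by
  rw [← h.left, tail_mul fr.haa, zero_mul]

theorem IsA.left' {x : EndM} (h : fr.IsA x) (w : EndM) : fr.a * (fr.b * (x * w)) = x * w := by
  rw [← mul_assoc fr.b, ← mul_assoc fr.a, h.left]

theorem IsC.left' {x : EndM} (h : fr.IsC x) (w : EndM) : fr.a * (fr.b * (x * w)) = x * w := by
  rw [← mul_assoc fr.b, ← mul_assoc fr.a, h.left]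

theorem IsB.right' {x : EndM} (h : fr.IsB x) (w : EndM) : x * (fr.a * (fr.b * w)) = x * w := by
  rw [← mul_assoc fr.a, ← mul_assoc x, h.right]

theorem IsC.right' {x : EndM} (h : fr.IsC x) (w : EndM) : x * (fr.a * (fr.b * w)) = x * w := by
  rw [← mul_assoc fr.a, ← mul_assoc x, h.right]

variable (fr) in
theorem haba' (w : EndM) : fr.a * (fr.b * (fr.a * w)) = fr.a * w := by
  rw [← mul_assoc fr.b, ← mul_assoc fr.a, fr.haba]

variable (fr) in
theorem hbab' (w : EndM) : fr.b * (fr.a * (fr.b * w)) = fr.b * w := by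
  rw [← mul_assoc fr.a, ← mul_assoc fr.b, fr.hbab]

theorem IsA.mul_A {x y : EndM} (h : fr.IsA x) (h' : fr.IsA y) : x * y = 0 := by
  rw [← h'.left, tail_mul h.ra, zero_mul]

theorem IsA.mul_C {x y : EndM} (h : fr.IsA x) (h' : fr.IsC y) : x * y = 0 := by
  rw [← h'.left, tail_mul h.ra, zero_mul]

theorem IsB.rb {x : EndM} (h : fr.IsB x) : x * fr.b = 0 := by
  rw [← h.right, mul_assoc, mul_assoc, fr.hbb, mul_zero, mul_zero]

theorem IsB.mul_B {x y : EndM} (h : fr.IsB x) (h' : fr.IsB y) : x * y = 0 := by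
  rw [← h.right, mul_assoc, mul_assoc, h'.lb, mul_zero, mul_zero]

theorem IsC.la {x : EndM} (h : fr.IsC x) : fr.a * x = 0 := by
  rw [← h.left, tail_mul fr.haa, zero_mul]

theorem IsC.rb {x : EndM} (h : fr.IsC x) : x * fr.b = 0 := by
  rw [← h.right, mul_assoc, mul_assoc, fr.hbb, mul_zero, mul_zero]

theorem IsC.mul_B {x y : EndM} (h : fr.IsC x) (h' : fr.IsB y) : x * y = 0 := by
  rw [← h.right, mul_assoc, mul_assoc, h'.lb, mul_zero, mul_zero]

theorem isC_AB {x y : EndM} (h : fr.IsA x) (h' : fr.IsB y) : fr.IsC (x * y) :=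
  ⟨by rw [← mul_assoc fr.b, ← mul_assoc fr.a, h.left], by rw [mul_assoc, h'.right]⟩

theorem isC_CC {x y : EndM} (h : fr.IsC x) (h' : fr.IsC y) : fr.IsC (x * y) :=
  ⟨by rw [← mul_assoc fr.b, ← mul_assoc fr.a, h.left], by rw [mul_assoc, h'.right]⟩

theorem isA_CA {x y : EndM} (h : fr.IsC x) (h' : fr.IsA y) : fr.IsA (x * y) :=
  ⟨by rw [← mul_assoc fr.b, ← mul_assoc fr.a, h.left], by rw [mul_assoc, h'.ra, mul_zero],
    by rw [mul_assoc, h'.rb, mul_zero]⟩

theorem isB_BC {x y : EndM} (h : fr.IsB x) (h' : fr.IsC y) : fr.IsB (x * y) :=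
  ⟨by rw [mul_assoc, h'.right], by rw [← mul_assoc, h.la, zero_mul],
    by rw [← mul_assoc, h.lb, zero_mul]⟩

theorem IsA.add {x y : EndM} (h : fr.IsA x) (h' : fr.IsA y) : fr.IsA (x + y) :=
  ⟨by rw [mul_add, mul_add, h.left, h'.left], by rw [add_mul, h.ra, h'.ra, add_zero],
    by rw [add_mul, h.rb, h'.rb, add_zero]⟩

theorem IsB.add {x y : EndM} (h : fr.IsB x) (h' : fr.IsB y) : fr.IsB (x + y) :=
  ⟨by rw [add_mul, h.right, h'.right], by rw [mul_add, h.la, h'.la, add_zero],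
    by rw [mul_add, h.lb, h'.lb, add_zero]⟩

theorem IsC.add {x y : EndM} (h : fr.IsC x) (h' : fr.IsC y) : fr.IsC (x + y) :=
  ⟨by rw [mul_add, mul_add, h.left, h'.left], by rw [add_mul, h.right, h'.right]⟩

theorem IsA.smul {x : EndM} (h : fr.IsA x) (c : F) : fr.IsA (c • x) :=
  ⟨by rw [mul_smul_comm, mul_smul_comm, h.left], by rw [smul_mul_assoc, h.ra, smul_zero],
    by rw [smul_mul_assoc, h.rb, smul_zero]⟩

theorem IsB.smul {x : EndM} (h : fr.IsB x) (c : F) : fr.IsB (c • x) :=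
  ⟨by rw [smul_mul_assoc, h.right], by rw [mul_smul_comm, h.la, smul_zero],
    by rw [mul_smul_comm, h.lb, smul_zero]⟩

theorem IsC.smul {x : EndM} (h : fr.IsC x) (c : F) : fr.IsC (c • x) :=
  ⟨by rw [mul_smul_comm, mul_smul_comm, h.left], by rw [smul_mul_assoc, h.right]⟩

theorem IsA.neg {x : EndM} (h : fr.IsA x) : fr.IsA (-x) := by simpa using h.smul (-1)
theorem IsB.neg {x : EndM} (h : fr.IsB x) : fr.IsB (-x) := by simpa using h.smul (-1)
theorem IsC.neg {x : EndM} (h : fr.IsC x) : fr.IsC (-x) := by simpa using h.smul (-1)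

theorem IsA.sub {x y : EndM} (h : fr.IsA x) (h' : fr.IsA y) : fr.IsA (x - y) := by
  rw [sub_eq_add_neg]; exact h.add h'.neg
theorem IsB.sub {x y : EndM} (h : fr.IsB x) (h' : fr.IsB y) : fr.IsB (x - y) := by
  rw [sub_eq_add_neg]; exact h.add h'.neg
theorem IsC.sub {x y : EndM} (h : fr.IsC x) (h' : fr.IsC y) : fr.IsC (x - y) := by
  rw [sub_eq_add_neg]; exact h.add h'.neg

theorem isA_zero : fr.IsA 0 := ⟨by simp, by simp, by simp⟩
theorem isB_zero : fr.IsB 0 := ⟨by simp, by simp, by simp⟩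
theorem isC_zero : fr.IsC 0 := ⟨by simp, by simp⟩

theorem isC_e : fr.IsC fr.e :=
  ⟨by rw [tail_mul rfl, ← mul_assoc, fr.aba], by rw [tail_mul (show fr.e * fr.a = fr.a by exact fr.aba)]⟩

theorem e_mul {x : EndM} (h : fr.IsC x) : fr.e * x = x := by rw [mul_assoc]; exact h.left
theorem mul_e {x : EndM} (h : fr.IsC x) : x * fr.e = x := h.right
theorem e_mul_A {x : EndM} (h : fr.IsA x) : fr.e * x = x := by rw [mul_assoc]; exact h.left
theorem B_mul_e {x : EndM} (h : fr.IsB x) : x * fr.e = x := h.right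

variable (fr)

/-- An element trivial on the flag. -/
def up (α β γ : M →ₗ[ZMod p] M) : M →ₗ[ZMod p] M := 1 + α + β * fr.a + γ * fr.a

variable {fr}

theorem up_mul {α β γ α' β' γ' : EndM} (h : fr.IsA α) (k : fr.IsB β) (l : fr.IsC γ) (h' : fr.IsA α')
    (k' : fr.IsB β') (l' : fr.IsC γ') :
    fr.up α β γ * fr.up α' β' γ' = fr.up (α + α') (β + β') (γ + γ' + α * β') := by
  simp only [up, mul_add, add_mul, one_mul, mul_one, mul_assoc, h.mul_A h', tail_mul (h.mul_C l'),
    h'.la, k'.la, l'.la, mul_zero, tail_mul k'.la, tail_mul l'.la, zero_mul]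
  abel

theorem up_zero : fr.up 0 0 0 = 1 := by simp [up]

theorem up_inv {g : GLM} {α β γ : EndM} (h : fr.IsA α) (k : fr.IsB β) (l : fr.IsC γ)
    (hg : (g : EndM) = fr.up α β γ) : ((g⁻¹ : GLM) : EndM) = fr.up (-α) (-β) (α * β - γ) := by
  have e1 : (g : EndM) * fr.up (-α) (-β) (α * β - γ) = 1 := by
    rw [hg, up_mul h k l h.neg k.neg ((isC_AB h k).sub l), ← up_zero (fr := fr)]
    congr 1 <;> (try simp only [mul_neg]) <;> abel
  calc ((g⁻¹ : GLM) : EndM) = ((g⁻¹ : GLM) : EndM) * ((g : EndM) * fr.up (-α) (-β) (α * β - γ)) := by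
        rw [e1, mul_one]
    _ = fr.up (-α) (-β) (α * β - γ) := by rw [← mul_assoc, Units.inv_mul, one_mul]

theorem up_ext {α β γ α' β' γ' : EndM} (h : fr.IsA α) (k : fr.IsB β) (l : fr.IsC γ) (h' : fr.IsA α')
    (k' : fr.IsB β') (l' : fr.IsC γ') (he : fr.up α β γ = fr.up α' β' γ') :
    α = α' ∧ β = β' ∧ γ = γ' := by
  simp only [up, add_assoc, add_right_inj] at he
  have e1 : ∀ x y z, fr.IsA x → fr.IsB y → fr.IsC z →
      fr.a * (fr.b * (x + (y * fr.a + z * fr.a)) * fr.b) = z := fun x y z hx hy hz => by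
    simp only [mul_add, add_mul, mul_assoc, hx.rb, tail_mul hy.lb, zero_mul, mul_zero, zero_add,
      hz.right]
    exact hz.left
  have e2 : ∀ x y z, fr.IsA x → fr.IsB y → fr.IsC z →
      (x + (y * fr.a + z * fr.a)) * fr.b = y + z := fun x y z hx hy hz => by
    simp only [add_mul, mul_assoc, hx.rb, hy.right, hz.right, zero_add]
  have hz : γ = γ' := by rw [← e1 α β γ h k l, he, e1 α' β' γ' h' k' l']
  have hy : β = β' := by
    have := congrArg (fun x => x * fr.b) he
    rw [e2 α β γ h k l, e2 α' β' γ' h' k' l', hz, add_left_inj] at this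
    exact this
  refine ⟨?_, hy, hz⟩
  rwa [hy, hz, add_left_inj] at he

theorem dev_up {g : GLM} {α β γ : EndM} (hg : (g : EndM) = fr.up α β γ) :
    dev g = α + β * fr.a + γ * fr.a := by
  rw [dev, hg, up]; abel

variable (fr)

/-- The element `s t⁻¹ s` exchanging the pair. -/
def w : LinearMap.GeneralLinearGroup (ZMod p) M := fr.s * fr.t⁻¹ * fr.s

/-- The involution of the pair. -/
def z : LinearMap.GeneralLinearGroup (ZMod p) M := fr.w * fr.w

theorem w_mem : fr.w ∈ K := mul_mem (mul_mem fr.hsK (inv_mem fr.htK)) fr.hsK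

theorem z_mem : fr.z ∈ K := mul_mem fr.w_mem fr.w_mem

theorem w_val : (fr.w : EndM) = 1 - fr.a * fr.b - fr.b * fr.a + fr.a - fr.b :=
  (exists_swap fr.aba fr.bab fr.haa fr.hbb).1

theorem z_val : (fr.z : EndM) = 1 - (2 : F) • (fr.a * fr.b + fr.b * fr.a) := by
  rw [z, Units.val_mul, w_val]
  simp only [mul_add, add_mul, mul_sub, sub_mul, one_mul, mul_one, mul_assoc, fr.haa, fr.hbb, fr.haba,
    fr.hbab, fr.haba', fr.hbab', tail_mul fr.haa, tail_mul fr.hbb, zero_mul, mul_zero, two_smul]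
  abel

theorem w_inv_val : ((fr.w⁻¹ : GLM) : EndM) = 1 - fr.a * fr.b - fr.b * fr.a - fr.a + fr.b := by
  have e1 : (fr.w : EndM) * (1 - fr.a * fr.b - fr.b * fr.a - fr.a + fr.b) = 1 := by
    rw [w_val]
    simp only [mul_add, add_mul, mul_sub, sub_mul, one_mul, mul_one, mul_assoc, fr.haa, fr.hbb, fr.haba,
      fr.hbab, fr.haba', fr.hbab', tail_mul fr.haa, tail_mul fr.hbb, zero_mul, mul_zero]
    abel
  calc ((fr.w⁻¹ : GLM) : EndM)
      = ((fr.w⁻¹ : GLM) : EndM) * ((fr.w : EndM) * (1 - fr.a * fr.b - fr.b * fr.a - fr.a + fr.b)) := by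
        rw [e1, mul_one]
    _ = _ := by rw [← mul_assoc, Units.inv_mul, one_mul]

theorem z_mul_z : (fr.z : EndM) * (fr.z : EndM) = 1 := by
  rw [z_val]
  simp only [two_smul, mul_add, add_mul, mul_sub, sub_mul, one_mul, mul_one, mul_assoc, fr.hbb, fr.haba,
    fr.hbab, fr.haba', fr.hbab', tail_mul fr.haa, tail_mul fr.hbb, zero_mul, mul_zero]
  abel

theorem z_inv : fr.z⁻¹ = fr.z :=
  inv_eq_of_mul_eq_one_right (Units.ext (by rw [Units.val_mul, fr.z_mul_z, Units.val_one]))

variable {fr}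

theorem z_conj {α β γ : EndM} (h : fr.IsA α) (k : fr.IsB β) (l : fr.IsC γ) :
    (fr.z : EndM) * fr.up α β γ * (fr.z : EndM) = fr.up (-α) (-β) γ := by
  rw [z_val]
  simp only [up, two_smul, mul_add, add_mul, mul_sub, sub_mul, one_mul, mul_one, mul_assoc, h.left, h.ra,
    h.rb, h.la, k.la, k.lb, l.la, l.left, fr.haa, fr.hbb, fr.haba, fr.hbab, k.right, l.right,
    tail_mul h.left, tail_mul h.la, tail_mul h.ra, tail_mul h.rb, tail_mul k.la, tail_mul k.lb,
    tail_mul l.la, l.left', h.left', k.right', l.right', fr.haba', fr.hbab', tail_mul fr.haa, tail_mul fr.hbb, zero_mul, mul_zero, neg_mul]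
  abel

/-- Conjugation by `w` takes the flag of `a` to that of `b`. -/
theorem w_conj {α β γ : EndM} (h : fr.IsA α) (k : fr.IsB β) (l : fr.IsC γ) :
    (fr.w : EndM) * fr.up α β γ * ((fr.w⁻¹ : GLM) : EndM) = 1 - fr.b * α + β - fr.b * γ := by
  rw [w_val, w_inv_val]
  simp only [up, mul_add, add_mul, mul_sub, sub_mul, one_mul, mul_one, mul_assoc, h.left, h.ra,
    h.rb, h.la, k.la, k.lb, l.la, l.left, fr.haa, fr.hbb, fr.haba, fr.hbab, k.right, l.right,
    tail_mul h.left, tail_mul h.la, tail_mul h.ra, tail_mul h.rb, tail_mul k.la, tail_mul k.lb,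
    tail_mul l.la, l.left', h.left', k.right', l.right', fr.haba', fr.hbab', tail_mul fr.haa, tail_mul fr.hbb, zero_mul, mul_zero, neg_mul]
  abel

variable (fr)

/-- One half. -/
abbrev half : ZMod p := (2 : ZMod p)⁻¹

/-- The coordinates of the elements of `K` trivial on the flag. -/
def MemV (α β : M →ₗ[ZMod p] M) : Prop :=
  fr.IsA α ∧ fr.IsB β ∧ ∃ g ∈ K, (g : M →ₗ[ZMod p] M) = fr.up α β ((2 : ZMod p)⁻¹ • (α * β))

/-- The central coordinates. -/
def MemA (γ : M →ₗ[ZMod p] M) : Prop :=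
  fr.IsC γ ∧ ∃ g ∈ K, (g : M →ₗ[ZMod p] M) = fr.up 0 0 γ

theorem half_add_half (h5 : 5 ≤ p) : (half : F) + half = 1 := by
  rw [← two_mul]; exact mul_inv_cancel₀ (two_ne h5)

theorem canon_pow {α β : EndM} (h : fr.IsA α) (k : fr.IsB β) {g : GLM}
    (hg : (g : EndM) = fr.up α β ((half : F) • (α * β))) (n : ℕ) :
    ((g ^ n : GLM) : EndM) = fr.up ((n : F) • α) ((n : F) • β) (((half : F) * n * n) • (α * β)) := by
  induction n with
  | zero => simp [up_zero]
  | succ n ih =>
    rw [pow_succ, Units.val_mul, ih, hg, up_mul (h.smul _) (k.smul _) ((isC_AB h k).smul _) h k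
      ((isC_AB h k).smul _), Nat.cast_succ, add_smul, add_smul, one_smul, one_smul, smul_mul_assoc,
      ← add_smul, ← add_smul]
    congr 2
    linear_combination -(n : F) * half_add_half (p := p) fr.h5

/-- Any element trivial on the flag has a canonical companion. -/
theorem memV_of_up {g : GLM} (hg : g ∈ K) {α β γ : EndM} (h : fr.IsA α) (k : fr.IsB β) (l : fr.IsC γ)
    (he : (g : EndM) = fr.up α β γ) : fr.MemV α β := by
  refine ⟨h, k, ?_⟩
  have hz : ((fr.z * g⁻¹ * fr.z : GLM) : EndM) = fr.up α β (α * β - γ) := by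
    rw [Units.val_mul, Units.val_mul, up_inv h k l he,
      z_conj h.neg k.neg ((isC_AB h k).sub l), neg_neg, neg_neg]
  have hd : ((g * (fr.z * g⁻¹ * fr.z) : GLM) : EndM)
      = fr.up ((2 : F) • α) ((2 : F) • β) ((half : F) • (((2 : F) • α) * ((2 : F) • β))) := by
    rw [Units.val_mul, hz, he, up_mul h k l h k ((isC_AB h k).sub l), smul_mul_smul_comm, smul_smul,
      show (half : F) * (2 * 2) = 2 by rw [← mul_assoc, inv_mul_cancel₀ (two_ne fr.h5), one_mul],
      two_smul, two_smul, two_smul]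
    congr 1
    abel
  refine ⟨_, pow_mem (mul_mem hg (mul_mem (mul_mem fr.z_mem (inv_mem hg)) fr.z_mem)) (half : F).val, ?_⟩
  rw [fr.canon_pow (h.smul _) (k.smul _) hd, ZMod.natCast_zmod_val, smul_smul, smul_smul,
    smul_mul_smul_comm, smul_smul, inv_mul_cancel₀ (two_ne fr.h5), one_smul, one_smul]
  congr 2
  have h2 := inv_mul_cancel₀ (two_ne fr.h5)
  linear_combination (half : F) * ((half : F) * 2 + 1) * h2

theorem memV_smul {α β : EndM} (h : fr.MemV α β) (c : F) : fr.MemV (c • α) (c • β) := by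
  obtain ⟨hA, hB, g, hg, he⟩ := h
  refine fr.memV_of_up (pow_mem hg c.val) (hA.smul _) (hB.smul _)
    ((isC_AB hA hB).smul ((half : F) * c * c)) ?_
  rw [fr.canon_pow hA hB he, ZMod.natCast_zmod_val]

theorem memV_add {α β α' β' : EndM} (h : fr.MemV α β) (h' : fr.MemV α' β') :
    fr.MemV (α + α') (β + β') := by
  obtain ⟨hA, hB, g, hg, he⟩ := h
  obtain ⟨hA', hB', g', hg', he'⟩ := h'
  refine fr.memV_of_up (γ := (half : F) • (α * β) + (half : F) • (α' * β') + α * β')
    (mul_mem hg hg') (hA.add hA') (hB.add hB')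
    ((((isC_AB hA hB).smul _).add ((isC_AB hA' hB').smul _)).add (isC_AB hA hB')) ?_
  rw [Units.val_mul, he, he', up_mul hA hB ((isC_AB hA hB).smul _) hA' hB' ((isC_AB hA' hB').smul _)]

theorem memV_zero : fr.MemV 0 0 :=
  ⟨isA_zero, isB_zero, 1, one_mem _, by simp [up_zero]⟩

theorem memV_neg {α β : EndM} (h : fr.MemV α β) : fr.MemV (-α) (-β) := by
  simpa using fr.memV_smul h (-1)

theorem memV_sub {α β α' β' : EndM} (h : fr.MemV α β) (h' : fr.MemV α' β') :
    fr.MemV (α - α') (β - β') := by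
  simpa [sub_eq_add_neg] using fr.memV_add h (fr.memV_neg h')

/-- The central part of an element trivial on the flag. -/
theorem memA_of_up {g : GLM} (hg : g ∈ K) {α β γ : EndM} (h : fr.IsA α) (k : fr.IsB β) (l : fr.IsC γ)
    (he : (g : EndM) = fr.up α β γ) : fr.MemA (γ - (half : F) • (α * β)) := by
  obtain ⟨-, -, c, hc, hce⟩ := fr.memV_of_up hg h k l he
  have hh := (isC_AB h k).smul (half : F)
  refine ⟨l.sub hh, g * c⁻¹, mul_mem hg (inv_mem hc), ?_⟩
  rw [Units.val_mul, he, up_inv h k hh hce, up_mul h k l h.neg k.neg ((isC_AB h k).sub hh)]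
  congr 1 <;> (try simp only [mul_neg]) <;> abel

theorem memA_add {γ γ' : EndM} (h : fr.MemA γ) (h' : fr.MemA γ') : fr.MemA (γ + γ') := by
  obtain ⟨hC, g, hg, he⟩ := h
  obtain ⟨hC', g', hg', he'⟩ := h'
  refine ⟨hC.add hC', g * g', mul_mem hg hg', ?_⟩
  rw [Units.val_mul, he, he', up_mul isA_zero isB_zero hC isA_zero isB_zero hC']
  simp

theorem memA_zero : fr.MemA 0 := ⟨isC_zero, 1, one_mem _, by simp [up_zero]⟩

theorem memA_smul {γ : EndM} (h : fr.MemA γ) (c : F) : fr.MemA (c • γ) := by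
  suffices ∀ n : ℕ, fr.MemA ((n : F) • γ) by simpa using this c.val
  intro n
  induction n with
  | zero => simpa using fr.memA_zero
  | succ n ih => rw [Nat.cast_succ, add_smul, one_smul]; exact fr.memA_add ih h

theorem memA_neg {γ : EndM} (h : fr.MemA γ) : fr.MemA (-γ) := by simpa using fr.memA_smul h (-1)

theorem memA_sub {γ γ' : EndM} (h : fr.MemA γ) (h' : fr.MemA γ') : fr.MemA (γ - γ') := by
  simpa [sub_eq_add_neg] using fr.memA_add h (fr.memA_neg h')

theorem memA_e : fr.MemA fr.e :=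
  ⟨isC_e, fr.s, fr.hsK, by rw [up, coe_dev fr.s, zero_mul, mul_assoc fr.a, fr.haba, add_zero, add_zero]⟩

/-- The alternating form takes central values. -/
theorem memA_anti {α β α' β' : EndM} (h : fr.MemV α β) (h' : fr.MemV α' β') :
    fr.MemA (α * β' - α' * β) := by
  obtain ⟨hA, hB, g, hg, he⟩ := h
  obtain ⟨hA', hB', g', hg', he'⟩ := h'
  have hh := (isC_AB hA hB).smul (half : F)
  have hh' := (isC_AB hA' hB').smul (half : F)
  refine ⟨(isC_AB hA hB').sub (isC_AB hA' hB), g * g' * (g' * g)⁻¹, mul_mem (mul_mem hg hg')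
    (inv_mem (mul_mem hg' hg)), ?_⟩
  have e1 : ((g' * g : GLM) : EndM) = fr.up (α' + α) (β' + β)
      ((half : F) • (α' * β') + (half : F) • (α * β) + α' * β) := by
    rw [Units.val_mul, he', he, up_mul hA' hB' hh' hA hB hh]
  rw [Units.val_mul, up_inv (hA'.add hA) (hB'.add hB) ((hh'.add hh).add (isC_AB hA' hB)) e1,
    Units.val_mul, he, he', up_mul hA hB hh hA' hB' hh',
    up_mul (hA.add hA') (hB.add hB') ((hh.add hh').add (isC_AB hA hB')) (hA'.add hA).neg
      (hB'.add hB).neg ((isC_AB (hA'.add hA) (hB'.add hB)).sub ((hh'.add hh).add (isC_AB hA' hB)))]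
  congr 1 <;> (try simp only [mul_neg, neg_add, add_mul, mul_add]) <;> abel

theorem key_of_memA {γ : EndM} (l : fr.IsC γ) {g : GLM} (hg : g ∈ K)
    (he : (g : EndM) = fr.up 0 0 γ) (h0 : γ ≠ 0) [FiniteDimensional (ZMod p) M] :
    g ∈ Min G ∧ key g = key fr.s := by
  have hd : dev g = γ * fr.a := by rw [dev_up he]; simp
  have hsq : dev g * dev g = 0 := by rw [hd, mul_assoc, tail_mul l.la, zero_mul, mul_zero]
  have hne : dev g ≠ 0 := fun h => h0 (by rw [← l.right, ← mul_assoc, ← hd, h, zero_mul])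
  have hle : LinearMap.range (dev g) ≤ LinearMap.range fr.a := by
    rw [hd, ← l.left, mul_assoc, Module.End.mul_eq_comp]; exact LinearMap.range_comp_le_range _ _
  have hle' : LinearMap.ker fr.a ≤ LinearMap.ker (dev g) := by
    rw [hd, Module.End.mul_eq_comp]; exact LinearMap.ker_le_ker_comp _ _
  have hmin : g ∈ Min G := min_of_le fr.hs (fr.hKG hg) hsq hne (Submodule.finrank_mono hle)
  refine ⟨hmin, Prod.ext (Submodule.eq_of_le_of_finrank_le hle (fr.hs.2 _ hmin.1))
    (Submodule.eq_of_le_of_finrank_le hle' ?_).symm⟩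
  · have a1 := (dev g).finrank_range_add_finrank_ker
    have a2 := fr.a.finrank_range_add_finrank_ker
    have a3 : Module.finrank F (LinearMap.range fr.a) = Module.finrank F (LinearMap.range (dev g)) :=
      rank_eq fr.hs hmin
    omega

/-- The nonzero central coordinates are invertible in the corner, with central inverse. -/
theorem memA_inv {γ : EndM} (h : fr.MemA γ) (h0 : γ ≠ 0) [FiniteDimensional (ZMod p) M] :
    ∃ δ, fr.MemA δ ∧ γ * δ = fr.e ∧ δ * γ = fr.e := by
  obtain ⟨l, g, hg, he⟩ := h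
  obtain ⟨hmin, hk⟩ := fr.key_of_memA l hg he h0
  have hopp : Opp (key g) (key fr.t) := by
    rw [hk, opp_iff fr.h5 fr.hs fr.ht]
    rintro ⟨n, hn⟩
    have e2 : ∀ j, zz fr.a fr.b ^ j * fr.a = fr.a := by
      intro j
      induction j with
      | zero => simp
      | succ j ih =>
        rw [pow_succ', mul_assoc, ih, zz, add_mul, mul_assoc, mul_assoc, fr.haba, fr.haa, mul_zero, add_zero]
    exact dev_ne_zero fr.hs ((e2 n).symm.trans (by rw [hn, zero_mul]))
  obtain ⟨r, hr, hrk, h1, h2⟩ := exists_partner_mem fr.h5 hmin fr.ht hopp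
  have hd : dev g = γ * fr.a := by rw [dev_up he]; simp
  have rl : fr.b * (fr.a * dev r) = dev r := by
    refine LinearMap.ext fun m => ?_
    obtain ⟨x, hx⟩ := (congrArg Prod.fst hrk).le ⟨m, rfl⟩
    simp only [Module.End.mul_apply]
    rw [← hx]
    exact LinearMap.congr_fun fr.hbab x
  have rr : dev r * (fr.a * fr.b) = dev r := by
    refine LinearMap.ext fun m => sub_eq_zero.1 ?_
    rw [Module.End.mul_apply, ← map_sub]
    refine (congrArg Prod.snd hrk).ge ?_
    show fr.b _ = 0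
    rw [map_sub, sub_eq_zero]
    exact LinearMap.congr_fun fr.hbab m
  set δ := fr.a * dev r with hδ
  have hC : fr.IsC δ := ⟨by rw [hδ, rl], by rw [hδ, mul_assoc, rr]⟩
  have hbδ : fr.b * δ = dev r := rl
  rw [hd, ← hbδ] at h1 h2
  have k1 : γ * δ * γ = γ := by
    have h := congrArg (· * fr.b) h1
    simp only [mul_assoc, l.right] at h
    rw [hC.left'] at h
    rw [mul_assoc]; exact h
  have g1 : γ * δ = fr.e := by
    have h3 : (γ * δ - fr.e) * fr.a = 0 := by
      refine LinearMap.ext fun m => ?_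
      obtain ⟨x, hx⟩ := (congrArg Prod.fst hk).ge ⟨m, rfl⟩
      rw [Module.End.mul_apply, show fr.a m = (γ * fr.a) x by rw [← hd]; exact hx.symm,
        ← Module.End.mul_apply, ← mul_assoc, sub_mul, k1, e_mul l, sub_self, zero_mul]
      simp
    have h4 := congrArg (· * fr.b) h3
    simp only [mul_assoc, zero_mul] at h4
    rw [show (γ * δ - fr.e) * (fr.a * fr.b) = γ * δ - fr.e from ((isC_CC l hC).sub isC_e).right,
      sub_eq_zero] at h4
    exact h4
  have g2 : δ * γ = fr.e := by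
    have h3 : fr.a * (fr.b * (δ * γ - fr.e)) = 0 := by
      refine LinearMap.ext fun m => ?_
      show fr.a ((fr.b * (δ * γ - fr.e)) m) = 0
      refine (congrArg Prod.snd hk).le ?_
      show dev g _ = 0
      rw [hd, ← Module.End.mul_apply, mul_assoc, ((isC_CC hC l).sub isC_e).left, mul_sub, ← mul_assoc,
        k1, mul_e l, sub_self, LinearMap.zero_apply]
    rw [((isC_CC hC l).sub isC_e).left, sub_eq_zero] at h3
    exact h3
  refine ⟨δ, ⟨hC, (fr.w * r * fr.w⁻¹)⁻¹, inv_mem (mul_mem (mul_mem fr.w_mem ?_) (inv_mem fr.w_mem)), ?_⟩,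
    g1, g2⟩
  · -- the partner lies in `K`
    exact fr.hmem r hr fr.t fr.ht fr.htK hrk
  · have hd2 : dev (fr.w * r * fr.w⁻¹) = -(δ * fr.a) := by
      rw [dev_conj, ← hbδ, w_val, w_inv_val]
      simp only [mul_add, add_mul, mul_sub, sub_mul, one_mul, mul_one, mul_assoc, fr.haa, fr.hbb, fr.haba,
        fr.hbab, hC.left, hC.la, hC.right, hC.rb, tail_mul hC.rb, tail_mul hC.la,
        fr.haba', fr.hbab', tail_mul fr.haa, tail_mul fr.hbb, zero_mul, mul_zero]
      abel
    rw [coe_inv_of_sq (by rw [hd2, neg_mul_neg, mul_assoc, tail_mul hC.la, zero_mul, mul_zero]), hd2, up]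
    simp

end Frame

end Cfsg.Agent.EquiQuad
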