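import Cfsg.Agent.Lib.EquiQuad.Closure

/-!
The intersection of the invariant Sylow subgroups and absorption into the cores of its overgroups.
-/

set_option autoImplicit false
set_option linter.unusedSectionVars false
set_option linter.style.haveILetI false

namespace Cfsg.Agent.EquiQuad

open CoprimeAct
open scoped commutatorElement

universe u

variable {X : Type u} [Group X] [Finite X] {p : ℕ} [hp : Fact p.Prime] {G R N W P : Subgroup X}

theorem fam_map {Y : Type u} [Group Y] (f : Y →* X) (hf : Function.Injective f) {P₀ A : Subgroup Y}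
    (hA : A ∈ Fam P₀) : A.map f ∈ Fam (P₀.map f) := by
  obtain ⟨F, hF, hAF⟩ := hA
  refine ⟨(fun A : Subgroup Y => A.map f) '' F, ?_, ⟨A, hAF, rfl⟩⟩
  rintro _ ⟨A, hA, rfl⟩
  obtain ⟨h1, h2, h3, h4, h5⟩ := hF A hA
  have hbot : ∀ {K : Subgroup Y}, K.map f = ⊥ ↔ K = ⊥ := fun {K} =>
    Subgroup.map_eq_bot_iff_of_injective K hf
  have hpre : ∀ {V : Subgroup X}, V ≤ P₀.map f → V.comap f ≤ P₀ ∧ (V.comap f).map f = V := fun {V} hV =>
    ⟨(Subgroup.comap_mono hV).trans (Subgroup.comap_map_eq_self_of_injective hf _).le,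
      Subgroup.map_comap_eq_self (hV.trans (Subgroup.map_le_range f P₀))⟩
  refine ⟨Subgroup.map_mono h1, ?_, ?_, fun V hV hab hn => ?_, fun M hM hcl hn hq => ?_⟩
  · rw [← Subgroup.map_commutator]; exact Subgroup.map_mono h2
  · rw [← Subgroup.map_commutator, ← Subgroup.map_commutator, h3, Subgroup.map_bot]
  · obtain ⟨hV', e⟩ := hpre hV
    rw [← e, ← Subgroup.map_commutator, hbot] at hab
    have := h4 _ hV' hab fun B hB => by
      have hh := hn _ ⟨B, hB, rfl⟩
      rwa [← e, ← Subgroup.map_commutator, e, Subgroup.map_le_iff_le_comap] at hh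
    rw [← e, ← Subgroup.map_commutator, ← Subgroup.map_commutator, this, Subgroup.map_bot]
  · obtain ⟨hM', e⟩ := hpre hM
    rw [← e, ← Subgroup.map_commutator, ← Subgroup.map_commutator, hbot] at hcl
    have := h5 _ hM' hcl (fun B hB => by
      have hh := hn _ ⟨B, hB, rfl⟩
      rwa [← e, ← Subgroup.map_commutator, e, Subgroup.map_le_iff_le_comap] at hh) (fun B hB hab => by
      have hh := hq _ ⟨B, hB, rfl⟩ (by rw [← Subgroup.map_commutator, hab, Subgroup.map_bot])
      rwa [← e, ← Subgroup.map_commutator, ← Subgroup.map_commutator, hbot] at hh)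
    rw [← e, ← Subgroup.map_commutator, ← Subgroup.map_commutator, this, Subgroup.map_bot]

theorem rel_of_map {Y : Type u} [Group Y] (f : Y →* X) (hf : Function.Injective f) {B C : Subgroup Y}
    (h : Rel (B.map f) (C.map f)) : Rel B C := by
  obtain ⟨r1, r2, r3⟩ := h
  refine ⟨?_, fun hab => ?_, ?_⟩
  · rw [← Subgroup.map_le_map_iff_of_injective hf, Subgroup.map_commutator]; exact r1
  · have := r2 (by rw [← Subgroup.map_commutator, hab, Subgroup.map_bot])
    rwa [← Subgroup.map_commutator, ← Subgroup.map_commutator, Subgroup.map_eq_bot_iff_of_injective _ hf] at this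
  · rwa [← Subgroup.map_commutator, ← Subgroup.map_commutator, Subgroup.map_eq_bot_iff_of_injective _ hf] at r3

/-- A subgroup of the intersection of the invariant Sylow subgroups related to the whole family of it lies in
the core, if the `p'`-elements centralising the core centralise it. -/
theorem absorb_core (h5 : 5 ≤ p) (hRN : R ≤ Subgroup.normalizer (N : Set X))
    (hcop : (Nat.card R).Coprime (Nat.card N)) (hsolv : Group.IsSolvable R) (hWN : W ≤ N)
    (hall : ∀ x ∈ W, InAllSyl p N R x) (hQW : core p N ≤ W)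
    (hcent : ∀ k ∈ N, (orderOf k).Coprime p → (∀ q ∈ core p N, q * k = k * q) → ∀ x ∈ W, x * k = k * x)
    {B : Subgroup X} (hB : B ≤ W) (hrel : ∀ A ∈ Fam W, Rel B A) : B ≤ core p N := by
  set H := N ⊔ R
  have hNH : N ≤ H := le_sup_left
  have hWH : W ≤ H := hWN.trans hNH
  have hcoreH : ∀ g ∈ H, ∀ y ∈ core p N, g * y * g⁻¹ ∈ core p N := fun g hg y hy =>
    core_conj (sup_le Subgroup.le_normalizer hRN hg) hy
  have hpW : ∀ x ∈ W, ∃ e, x ^ p ^ e = 1 := by
    intro x hx
    obtain ⟨T, hT⟩ := exists_invariant_sylow hRN hcop (Or.inl hsolv) p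
    obtain ⟨e, he⟩ := (T.2.map N.subtype) ⟨x, hall x hx T hT⟩
    exact ⟨e, congrArg Subtype.val he⟩
  have hset : Setting p (N.subgroupOf H) (R.subgroupOf H) (W.subgroupOf H) ((core p N).subgroupOf H) := by
    refine ⟨?_, ?_, ?_, ?_, ?_, Subgroup.comap_mono hWN, Subgroup.comap_mono hQW, ?_, ?_, ?_, ?_, ?_⟩
    · rw [Subgroup.normal_subgroupOf_iff_le_normalizer hNH]
      exact sup_le Subgroup.le_normalizer hRN
    · rw [← Subgroup.subgroupOf_sup hNH le_sup_right, Subgroup.subgroupOf_self]
    · rwa [Nat.card_congr (Subgroup.subgroupOfEquivOfLe (le_sup_right : R ≤ H)).toEquiv,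
        Nat.card_congr (Subgroup.subgroupOfEquivOfLe hNH).toEquiv]
    · haveI := hsolv
      exact Group.isSolvable_of_surjective (f := (Subgroup.subgroupOfEquivOfLe (le_sup_right : R ≤ H)).symm.toMonoidHom)
        (Subgroup.subgroupOfEquivOfLe (le_sup_right : R ≤ H)).symm.surjective
    · intro x hx T hT
      let T' : Sylow p N := T.mapSurjective (f := (Subgroup.subgroupOfEquivOfLe hNH).toMonoidHom)
        (Subgroup.subgroupOfEquivOfLe hNH).surjective
      have e : (T' : Subgroup N).map N.subtype =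
          ((T : Subgroup (N.subgroupOf H)).map (N.subgroupOf H).subtype).map H.subtype := by
        show ((T : Subgroup (N.subgroupOf H)).map _).map N.subtype = _
        rw [Subgroup.map_map, Subgroup.map_map]
        rfl
      have := hall x.1 hx T' (fun a ha => by
        rw [e]
        exact Subgroup.le_normalizer_map H.subtype
          ⟨⟨a, (le_sup_right : R ≤ H) ha⟩, hT (show (⟨a, _⟩ : H) ∈ R.subgroupOf H from ha), rfl⟩)
      rw [e] at this
      obtain ⟨y, hy, hyx⟩ := this
      rwa [← Subtype.ext (show (y : X) = x from hyx)]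
    · exact ⟨fun y hy g => hcoreH g.1 g.2 y.1 hy⟩
    · exact (core_isPGroup N).of_equiv (Subgroup.subgroupOfEquivOfLe ((core_le p N).trans hNH)).symm
    · intro K hK hKN hKp y hy
      refine le_core (N := K.map H.subtype) ?_ ?_ (hKp.map _) ⟨y, hy, rfl⟩
      · rintro _ ⟨z, hz, rfl⟩; exact hKN hz
      · rintro g hg _ ⟨z, hz, rfl⟩
        exact ⟨(⟨g, hNH hg⟩ : H) * z * (⟨g, hNH hg⟩ : H)⁻¹, hK.conj_mem z hz _, rfl⟩
    · intro k hk hko hq x hx
      refine Subtype.ext (hcent k hk (by rwa [Subgroup.orderOf_coe]) (fun q hq' => ?_) x hx)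
      exact congrArg Subtype.val (hq ⟨q, hNH (core_le p N hq')⟩ hq')
    · intro x hx
      obtain ⟨e, he⟩ := hpW x hx
      exact ⟨e, Subtype.ext he⟩
  have hB' : B.subgroupOf H ≤ W.subgroupOf H := Subgroup.comap_mono hB
  have := le_of_rel hset h5 hB' fun A Z b => by
    have hA := fam_map H.subtype H.subtype_injective (block_mem_fam hset h5 b)
    rw [Subgroup.map_subgroupOf_eq_of_le hWH] at hA
    refine rel_of_map H.subtype H.subtype_injective ?_
    rw [Subgroup.map_subgroupOf_eq_of_le (hB.trans hWH)]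
    exact hrel _ hA
  intro x hx
  exact this (show (⟨x, hWH (hB hx)⟩ : H) ∈ B.subgroupOf H from hx)

/-- The intersection of the invariant Sylow subgroups. -/
def inter (p : ℕ) (G R : Subgroup X) : Subgroup X :=
  ⨅ (T : Sylow p G) (_ : R ≤ Subgroup.normalizer (((T : Subgroup G).map G.subtype : Subgroup X) : Set X)),
    (T : Subgroup G).map G.subtype

theorem mem_inter {x : X} : x ∈ inter p G R ↔ InAllSyl p G R x := by
  simp only [inter, Subgroup.mem_iInf]
  rfl

theorem conj_mem_normalizer {S : Subgroup X} {g r : X} (h : g * r = r * g)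
    (hr : r ∈ Subgroup.normalizer (S : Set X)) :
    r ∈ Subgroup.normalizer ((S.map (MulAut.conj g).toMonoidHom : Subgroup X) : Set X) :=
  Subgroup.le_normalizer_map _ ⟨r, hr, by simp [h]⟩

theorem exists_sylow_map (T : Sylow p G) {g : X} (hg : g ∈ Subgroup.normalizer (G : Set X)) :
    ∃ T' : Sylow p G, (T' : Subgroup G).map G.subtype =
      ((T : Subgroup G).map G.subtype).map (MulAut.conj g).toMonoidHom := by
  let e : G →* G := ((MulAut.conj g).toMonoidHom.comp G.subtype).codRestrict G
    fun x => (Subgroup.mem_normalizer_iff.1 hg x).1 x.2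
  have hinj : Function.Injective e := fun x y h =>
    Subtype.ext ((MulAut.conj g).injective (congrArg Subtype.val h))
  refine ⟨T.mapSurjective (Finite.injective_iff_surjective.1 hinj), ?_⟩
  show ((T : Subgroup G).map e).map G.subtype = _
  rw [Subgroup.map_map, Subgroup.map_map]
  rfl

theorem inAll_conj {g x : X} (hg : g ∈ Subgroup.normalizer (G : Set X))
    (hgR : ∀ r ∈ R, g * r = r * g) (hx : InAllSyl p G R x) : InAllSyl p G R (g * x * g⁻¹) := by
  intro T hT
  obtain ⟨T', hT'⟩ := exists_sylow_map T (inv_mem hg)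
  have := hx T' (by
    rw [hT']
    exact fun r hr => conj_mem_normalizer ((show Commute g r from hgR r hr).inv_left.eq) (hT hr))
  rw [hT'] at this
  obtain ⟨t, ht, e⟩ := this
  rw [← e, show g * (MulAut.conj g⁻¹).toMonoidHom t * g⁻¹ = t by simp [mul_assoc]]
  exact ht

theorem inAll_conj_op {r x : X} (hr : r ∈ R) (hx : InAllSyl p G R x) : InAllSyl p G R (r * x * r⁻¹) :=
  fun T hT => (Subgroup.mem_normalizer_iff.1 (hT hr) x).1 (hx T hT)

variable (hRG : R ≤ Subgroup.normalizer (G : Set X)) (hcop : (Nat.card R).Coprime (Nat.card G))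
  (hsolv : Group.IsSolvable R)

include hRG hcop hsolv

theorem inter_le : inter p G R ≤ G := by
  obtain ⟨T, hT⟩ := exists_invariant_sylow hRG hcop (Or.inl hsolv) p
  exact fun x hx => Subgroup.map_subtype_le _ (mem_inter.1 hx T hT)

theorem inter_isPGroup : IsPGroup p (inter p G R) := by
  obtain ⟨T, hT⟩ := exists_invariant_sylow hRG hcop (Or.inl hsolv) p
  exact (T.2.map G.subtype).to_le fun x hx => mem_inter.1 hx T hT

/-- An invariant `p`-subgroup normalised by the fixed points lies in the intersection. -/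
theorem le_inter {U : Subgroup X} (hU : U ≤ G) (hUp : IsPGroup p U) (hUR : R ≤ Subgroup.normalizer (U : Set X))
    (hUC : ∀ c ∈ G, (∀ r ∈ R, c * r = r * c) → ∀ u ∈ U, c * u * c⁻¹ ∈ U) : U ≤ inter p G R := by
  intro u hu
  refine mem_inter.2 fun T hT => ?_
  obtain ⟨T0, hUT, hT0⟩ := exists_invariant_sylow_ge hRG hcop (Or.inl hsolv) hU hUp hUR
  obtain ⟨c, hc, rfl⟩ := invariant_sylow_conj hRG hcop (Or.inl hsolv) T0 T hT0 hT
  have := hUC _ (inv_mem c.2) (fun r hr => ((show Commute r (c : X) from
    Subgroup.mem_centralizer_iff.1 hc r hr).symm.inv_left).eq) u hu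
  obtain ⟨y, hy, e⟩ := hUT this
  refine ⟨MulAut.conj c y, ⟨y, hy, rfl⟩, ?_⟩
  simp only [Subgroup.coe_subtype] at e
  show (c : X) * y * (c : X)⁻¹ = u
  rw [e]; group

/-- The core lies in the intersection. -/
theorem core_le_inter : core p G ≤ inter p G R :=
  le_inter hRG hcop hsolv (core_le p G) (core_isPGroup G)
    (fun r hr => Subgroup.mem_normalizer_fintype fun _ hy => core_conj (hRG hr) hy)
    (fun _ hc _ _ hu => core_conj_self hc hu)

end Cfsg.Agent.EquiQuad
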