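import Cfsg.Agent.Lib.EquiQuad.Good
import Cfsg.Agent.Lib.Techniques.CharP

/-!
Subgroups in which the operators fix the `p'`-elements centralising the core.
-/

set_option autoImplicit false
set_option linter.unusedSectionVars false
set_option linter.style.haveILetI false

namespace Cfsg.Agent.EquiQuad

open CoprimeAct

universe u

variable {X : Type u} [Group X] [Finite X] {p : ℕ} [hp : Fact p.Prime] {G R N W P : Subgroup X}

/-- The operators fix every `p'`-element centralising the core. -/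
def Good (p : ℕ) (N R : Subgroup X) : Prop :=
  ∀ k ∈ N, (orderOf k).Coprime p → (∀ q ∈ core p N, q * k = k * q) → ∀ r ∈ R, r * k = k * r

theorem commute_of_comm {k x : X} (hk : (orderOf k).Coprime p) (hc : Commute k (k * x * k⁻¹ * x⁻¹))
    (he : ∃ e, (k * x * k⁻¹ * x⁻¹) ^ p ^ e = 1) : x * k = k * x := by
  obtain ⟨e, he⟩ := he
  have := comm_eq_one (x := x) (pow_orderOf_eq_one k) hc (by group) he (hk.pow_right e)
  rw [mul_inv_eq_one, mul_inv_eq_iff_eq_mul] at this
  exact this.symm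

theorem mem_pgroup_pow {U : Subgroup X} (hU : IsPGroup p U) {x : X} (hx : x ∈ U) : ∃ e, x ^ p ^ e = 1 := by
  obtain ⟨e, he⟩ := hU ⟨x, hx⟩
  exact ⟨e, congrArg Subtype.val he⟩

theorem mem_normalizer_of_conj {U : Subgroup X} {g : X} (h : ∀ y ∈ U, g * y * g⁻¹ ∈ U) :
    g ∈ Subgroup.normalizer (U : Set X) :=
  Subgroup.mem_normalizer_fintype h

theorem core_le_normalizer {g : X} (hg : g ∈ Subgroup.normalizer (N : Set X)) :
    g ∈ Subgroup.normalizer ((core p N : Subgroup X) : Set X) :=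
  mem_normalizer_of_conj fun _ hy => core_conj hg hy

theorem mem_normalizer_inf_centralizer {U : Subgroup X} {g : X} (hG : g ∈ Subgroup.normalizer (G : Set X))
    (hU : g ∈ Subgroup.normalizer (U : Set X)) :
    g ∈ Subgroup.normalizer ((G ⊓ Subgroup.centralizer (U : Set X) : Subgroup X) : Set X) := by
  refine mem_normalizer_of_conj fun y hy => Subgroup.mem_inf.2 ⟨(Subgroup.mem_normalizer_iff.1 hG y).1 hy.1,
    Subgroup.mem_centralizer_iff.2 fun u hu => ?_⟩
  have h1 : g⁻¹ * u * g ∈ U := by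
    have := (Subgroup.mem_normalizer_iff.1 (inv_mem hU) u).1 hu
    rwa [inv_inv] at this
  calc u * (g * y * g⁻¹) = g * ((g⁻¹ * u * g) * y) * g⁻¹ := by group
    _ = g * (y * (g⁻¹ * u * g)) * g⁻¹ := by rw [Subgroup.mem_centralizer_iff.1 hy.2 _ h1]
    _ = _ := by group

theorem mem_normalizer_inf_centralizer' {a g : X} (hG : g ∈ Subgroup.normalizer (G : Set X))
    (hga : g * a = a * g) :
    g ∈ Subgroup.normalizer ((G ⊓ Subgroup.centralizer ({a} : Set X) : Subgroup X) : Set X) :=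
  mem_normalizer_of_conj fun y hy => Subgroup.mem_inf.2
    ⟨(Subgroup.mem_normalizer_iff.1 hG y).1 hy.1, Subgroup.mem_centralizer_singleton_iff.2
      ((((show Commute g a from hga).mul_left
        (Subgroup.mem_centralizer_singleton_iff.1 hy.2)).mul_left
        (show Commute g a from hga).inv_left)).eq⟩

/-- In a good subgroup the `p'`-elements centralising the core centralise every `p`-subgroup normalised by the
fixed points. -/
theorem good_cent (hgood : Good p N R) (hWN : W ≤ N) (hWp : IsPGroup p W)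
    (hWC : ∀ g ∈ N, (∀ r ∈ R, g * r = r * g) → ∀ x ∈ W, g * x * g⁻¹ ∈ W) :
    ∀ k ∈ N, (orderOf k).Coprime p → (∀ q ∈ core p N, q * k = k * q) → ∀ x ∈ W, x * k = k * x := by
  intro k hk hko hkq x hx
  set S : Set X := {k | k ∈ N ∧ (orderOf k).Coprime p ∧ ∀ q ∈ core p N, q * k = k * q}
  set K := Subgroup.closure S
  have hKN : K ≤ N := (Subgroup.closure_le _).2 fun y hy => hy.1
  have hKR : K ≤ Subgroup.centralizer (R : Set X) := (Subgroup.closure_le _).2 fun y hy =>
    Subgroup.mem_centralizer_iff.2 fun r hr => hgood y hy.1 hy.2.1 hy.2.2 r hr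
  have hKQ : K ≤ Subgroup.centralizer ((core p N : Subgroup X) : Set X) := (Subgroup.closure_le _).2
    fun y hy => Subgroup.mem_centralizer_iff.2 hy.2.2
  have hSn : ∀ g ∈ N, ∀ y ∈ S, g * y * g⁻¹ ∈ S := by
    refine fun g hg y hy => ⟨mul_mem (mul_mem hg hy.1) (inv_mem hg), ?_, fun q hq => ?_⟩
    · rw [show g * y * g⁻¹ = MulAut.conj g y from rfl, MulEquiv.orderOf_eq]; exact hy.2.1
    · have h1 : g⁻¹ * q * g ∈ core p N := by
        have := core_conj_self (inv_mem hg) hq
        rwa [inv_inv] at this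
      calc q * (g * y * g⁻¹) = g * ((g⁻¹ * q * g) * y) * g⁻¹ := by group
        _ = g * (y * (g⁻¹ * q * g)) * g⁻¹ := by rw [hy.2.2 _ h1]
        _ = _ := by group
  have hKn : N ≤ Subgroup.normalizer (K : Set X) := fun g hg => mem_normalizer_of_conj fun y hy => by
    have hle : K.map (MulAut.conj g).toMonoidHom ≤ K := by
      rw [MonoidHom.map_closure]
      exact Subgroup.closure_mono (by rintro _ ⟨s, hs, rfl⟩; exact hSn g hg s hs)
    exact hle ⟨y, hy, rfl⟩
  have hkK : k ∈ K := Subgroup.subset_closure ⟨hk, hko, hkq⟩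
  have hcW : k * x * k⁻¹ * x⁻¹ ∈ W := mul_mem
    (hWC k hk (fun r hr => (hgood k hk hko hkq r hr).symm) x hx) (inv_mem hx)
  have hcK : k * x * k⁻¹ * x⁻¹ ∈ K := by
    rw [show k * x * k⁻¹ * x⁻¹ = k * (x * k⁻¹ * x⁻¹) by group]
    exact mul_mem hkK ((Subgroup.mem_normalizer_iff.1 (hKn (hWN hx)) _).1 (inv_mem hkK))
  have hU : W ⊓ K ≤ core p N := by
    refine le_trans (le_core (G := K) (N := W ⊓ K) inf_le_right (fun g hg y hy => ?_) (hWp.to_le inf_le_left)) ?_
    · exact Subgroup.mem_inf.2 ⟨hWC g (hKN hg) (fun r hr => (Subgroup.mem_centralizer_iff.1 (hKR hg) r hr).symm) y hy.1,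
        mul_mem (mul_mem hg hy.2) (inv_mem hg)⟩
    · exact le_core ((core_le p K).trans hKN) (fun g hg y hy => core_conj (hKn hg) hy) (core_isPGroup K)
  exact commute_of_comm hko (Subgroup.mem_centralizer_iff.1 (hKQ hkK) _ (hU ⟨hcW, hcK⟩)).symm
    (mem_pgroup_pow hWp hcW)

/-- The standing hypotheses. -/
structure Hyp (p : ℕ) (G R : Subgroup X) : Prop where
  norm : R ≤ Subgroup.normalizer (G : Set X)
  comm : ∀ a ∈ R, ∀ b ∈ R, a * b = b * a
  noncyc : ¬ IsCyclic R
  cop : (Nat.card R).Coprime (Nat.card G)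
  loc : ∀ a ∈ R, a ≠ 1 → Good p (G ⊓ Subgroup.centralizer {a}) R

theorem Hyp.solv (h : Hyp p G R) : Group.IsSolvable R :=
  Group.isSolvable_of_comm fun a b => Subtype.ext (h.comm a a.2 b b.2)

theorem Hyp.exists_ne_one (h : Hyp p G R) : ∃ a ∈ R, a ≠ 1 := by
  by_contra hc
  simp only [not_exists, not_and, not_not] at hc
  haveI : Subsingleton R := ⟨fun a b => Subtype.ext ((hc a a.2).trans (hc b b.2).symm)⟩
  exact h.noncyc inferInstance

theorem Hyp.mem_cent (h : Hyp p G R) {a c : X} (ha : a ∈ R) (hc : c ∈ G) (hcR : ∀ r ∈ R, c * r = r * c) :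
    c ∈ G ⊓ Subgroup.centralizer {a} :=
  ⟨hc, Subgroup.mem_centralizer_singleton_iff.2 (hcR a ha)⟩

theorem Hyp.cent_norm (h : Hyp p G R) {a : X} (ha : a ∈ R) :
    R ≤ Subgroup.normalizer ((G ⊓ Subgroup.centralizer {a} : Subgroup X) : Set X) := fun r hr =>
  mem_normalizer_of_conj fun y hy => Subgroup.mem_inf.2
    ⟨(Subgroup.mem_normalizer_iff.1 (h.norm hr) y).1 hy.1, Subgroup.mem_centralizer_singleton_iff.2
      ((((show Commute r a from h.comm r hr a ha).mul_left
        (Subgroup.mem_centralizer_singleton_iff.1 hy.2)).mul_left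
        (show Commute r a from h.comm r hr a ha).inv_left)).eq⟩

/-- The core of each centraliser lies in the intersection of the invariant Sylow subgroups. -/
theorem Hyp.core_cent_le (h : Hyp p G R) {a : X} (ha : a ∈ R) :
    core p (G ⊓ Subgroup.centralizer {a}) ≤ inter p G R :=
  le_inter h.norm h.cop h.solv ((core_le p _).trans inf_le_left) (core_isPGroup _)
    (fun r hr => core_le_normalizer (h.cent_norm ha hr))
    (fun c hc hcR _ hu => core_conj_self (h.mem_cent ha hc hcR) hu)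

/-- The hypotheses pass to subgroups meeting the cores suitably. -/
theorem Hyp.mono (h : Hyp p G R) {M : Subgroup X} (hM : M ≤ G) (hRM : R ≤ Subgroup.normalizer (M : Set X))
    (hloc : ∀ a ∈ R, a ≠ 1 → ∀ k ∈ M ⊓ Subgroup.centralizer {a}, (orderOf k).Coprime p →
      (∀ q ∈ core p (M ⊓ Subgroup.centralizer {a}), q * k = k * q) →
      ∀ q ∈ core p (G ⊓ Subgroup.centralizer {a}), q * k = k * q) : Hyp p M R :=
  ⟨hRM, h.comm, h.noncyc, h.cop.coprime_dvd_right (Subgroup.card_dvd_of_le hM), fun a ha ha1 k hk hko hkq =>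
    h.loc a ha ha1 k ⟨hM hk.1, hk.2⟩ hko (hloc a ha ha1 k hk hko hkq)⟩

/-- Passing to an invariant normal subgroup. -/
theorem Hyp.normal (h : Hyp p G R) {M : Subgroup X} (hM : M ≤ G) (hn : G ≤ Subgroup.normalizer (M : Set X))
    (hRM : R ≤ Subgroup.normalizer (M : Set X)) : Hyp p M R := by
  refine h.mono hM hRM fun a _ _ k hk hko hkq q hq => ?_
  set c := k * q * k⁻¹ * q⁻¹
  have hk' : k ∈ G ⊓ Subgroup.centralizer {a} := ⟨hM hk.1, hk.2⟩
  have hqG := core_le p _ hq
  have hcQ : c ∈ core p (G ⊓ Subgroup.centralizer {a}) := mul_mem (core_conj_self hk' hq) (inv_mem hq)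
  have hcM : c ∈ M := by
    rw [show c = k * (q * k⁻¹ * q⁻¹) by simp [c, mul_assoc]]
    exact mul_mem hk.1 ((Subgroup.mem_normalizer_iff.1 (hn hqG.1) _).1 (inv_mem hk.1))
  have hle : core p (G ⊓ Subgroup.centralizer {a}) ⊓ M ≤ core p (M ⊓ Subgroup.centralizer {a}) :=
    le_core (G := M ⊓ Subgroup.centralizer {a}) (N := core p (G ⊓ Subgroup.centralizer {a}) ⊓ M)
      (fun y hy => Subgroup.mem_inf.2 ⟨hy.2, (core_le p _ hy.1).2⟩)
      (fun g hg y hy => Subgroup.mem_inf.2 ⟨core_conj_self (Subgroup.mem_inf.2 ⟨hM hg.1, hg.2⟩) hy.1, mul_mem (mul_mem hg.1 hy.2) (inv_mem hg.1)⟩)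
      ((core_isPGroup _).to_le inf_le_left)
  exact commute_of_comm hko (hkq c (hle ⟨hcQ, hcM⟩)).symm (mem_pgroup_pow (core_isPGroup _) hcQ)

/-- Passing to an invariant subgroup containing the intersection of the invariant Sylow subgroups. -/
theorem Hyp.big (h : Hyp p G R) {M : Subgroup X} (hM : M ≤ G) (hP : inter p G R ≤ M)
    (hRM : R ≤ Subgroup.normalizer (M : Set X)) : Hyp p M R := by
  refine h.mono hM hRM fun a ha _ k _ _ hkq q hq => hkq q ?_
  exact le_core (G := M ⊓ Subgroup.centralizer {a}) (N := core p (G ⊓ Subgroup.centralizer {a}))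
    (fun y hy => Subgroup.mem_inf.2 ⟨hP (h.core_cent_le ha hy), (core_le p _ hy).2⟩)
    (fun g hg y hy => core_conj_self (Subgroup.mem_inf.2 ⟨hM hg.1, hg.2⟩) hy) (core_isPGroup _) hq

/-- The normaliser of a subgroup above the centre of the intersection is good. -/
theorem good_normalizer {V C M : Subgroup X} (hM : Good p M R) (hMG : M ≤ G)
    (hVM : G ⊓ Subgroup.centralizer (V : Set X) ≤ M) (hCG : C ≤ G) (hCp : IsPGroup p C) (hVC : V ≤ C)
    (hCM : C ≤ M) : Good p (G ⊓ Subgroup.normalizer (C : Set X)) R := by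
  set N := G ⊓ Subgroup.normalizer (C : Set X) with hN
  intro k hk hko hkq
  have hCN : C ≤ N := le_inf hCG Subgroup.le_normalizer
  have hCc : C ≤ core p N := le_core hCN (fun g hg y hy => (Subgroup.mem_normalizer_iff.1 hg.2 y).1 hy) hCp
  set J := N ⊓ Subgroup.centralizer ((core p N : Subgroup X) : Set X)
  have hJM : J ≤ M := fun y hy => hVM ⟨hy.1.1, Subgroup.mem_centralizer_iff.2 fun v hv =>
    Subgroup.mem_centralizer_iff.1 hy.2 v (hCc (hVC hv))⟩
  have hkJ : k ∈ J := ⟨hk, Subgroup.mem_centralizer_iff.2 hkq⟩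
  have hkM : k ∈ M := hJM hkJ
  have hNJ : N ≤ Subgroup.normalizer (J : Set X) := fun g hg =>
    mem_normalizer_inf_centralizer (Subgroup.le_normalizer hg) (core_le_normalizer (Subgroup.le_normalizer hg))
  have hU : core p M ⊓ J ≤ core p N :=
    le_trans (le_core (G := J) (N := core p M ⊓ J) inf_le_right (fun g hg y hy => Subgroup.mem_inf.2
      ⟨core_conj_self (hJM hg) hy.1, mul_mem (mul_mem hg hy.2) (inv_mem hg)⟩)
      ((core_isPGroup M).to_le inf_le_left))
      (le_core ((core_le p J).trans inf_le_left) (fun g hg y hy => core_conj (hNJ hg) hy) (core_isPGroup J))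
  refine hM k hkM hko fun q hq => (CharP.pxq (core_isPGroup M) hCp
    (fun c hc => core_le_normalizer (Subgroup.le_normalizer (hCM hc))) hko
    (core_le_normalizer (Subgroup.le_normalizer hkM)) (fun u hu => (hkq u (hCc hu)).symm)
    (fun x hx hxC => ?_) q hq).symm
  have hxN : x ∈ N := ⟨hMG (core_le p M hx), mem_normalizer_of_conj fun y hy => by
    rwa [hxC y hy, mul_inv_cancel_right]⟩
  have hcJ : k * x * k⁻¹ * x⁻¹ ∈ J := by
    rw [show k * x * k⁻¹ * x⁻¹ = k * (x * k⁻¹ * x⁻¹) by group]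
    exact mul_mem hkJ ((Subgroup.mem_normalizer_iff.1 (hNJ hxN) _).1 (inv_mem hkJ))
  have hcQ : k * x * k⁻¹ * x⁻¹ ∈ core p M := mul_mem (core_conj_self hkM hx) (inv_mem hx)
  exact (commute_of_comm hko (hkq _ (hU ⟨hcQ, hcJ⟩)).symm (mem_pgroup_pow (core_isPGroup M) hcQ)).symm

end Cfsg.Agent.EquiQuad
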