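import Cfsg.Agent.Lib.EquiQuad.GoodInduction
import Cfsg.Agent.Lib.Components.FStar
import Cfsg.Agent.Lib.Components.Fitting
import Mathlib.GroupTheory.IsPerfect

/-!
Goodness in terms of the `p'`-elements of the generalized Fitting subgroup.
-/

set_option autoImplicit false
set_option linter.unusedSectionVars false
set_option linter.style.haveILetI false

namespace Cfsg.Agent.EquiQuad

universe u

variable {X : Type u} [Group X] [Finite X] {p : ℕ} [hp : Fact p.Prime] {H R : Subgroup X}

theorem pCore_le_fitting {G : Type*} [Group G] [Finite G] (q : ℕ) [Fact q.Prime] :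
    Cfsg.pCore q G ≤ Cfsg.fittingSubgroup G := by
  haveI := (FiniteGroup.pCore_isPGroup (G := G) q).isNilpotent
  exact Components.le_fittingSubgroup (FiniteGroup.pCore_normal q) inferInstance

/-- A perfect group is generated by its `p'`-elements. -/
theorem pResidual_eq_top {K : Type*} [Group K] [Finite K] [Group.IsPerfect K] :
    Cfsg.pResidual p K = ⊤ := by
  haveI hn : (Cfsg.pResidual p K).Normal := ⟨fun y hy g => by
    have hle : (Cfsg.pResidual p K).map (MulAut.conj g).toMonoidHom ≤ Cfsg.pResidual p K := by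
      rw [Cfsg.pResidual, MonoidHom.map_closure]
      refine Subgroup.closure_mono ?_
      rintro _ ⟨s, hs, rfl⟩
      show (orderOf (MulAut.conj g s)).Coprime p
      rw [MulEquiv.orderOf_eq]; exact hs
    exact hle ⟨y, hy, rfl⟩⟩
  have hq : IsPGroup p (K ⧸ Cfsg.pResidual p K) := by
    intro q
    induction q using QuotientGroup.induction_on with
    | H d =>
      obtain ⟨a, b, rfl, -, -, ⟨e, he⟩, hb⟩ := exists_pp p d
      refine ⟨e, ?_⟩
      rw [QuotientGroup.mk_mul, show (QuotientGroup.mk b : K ⧸ Cfsg.pResidual p K) = 1 from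
        (QuotientGroup.eq_one_iff b).2 (Subgroup.subset_closure hb), mul_one, ← QuotientGroup.mk_pow, he]
      rfl
  haveI := hq.isNilpotent
  by_contra hne
  haveI : Nontrivial (K ⧸ Cfsg.pResidual p K) := by
    rw [← not_subsingleton_iff_nontrivial]
    intro hs
    exact hne (top_le_iff.1 fun x _ => (QuotientGroup.eq_one_iff x).1 (Subsingleton.elim _ _))
  exact Group.IsPerfect.not_isSolvable (K ⧸ Cfsg.pResidual p K) inferInstance

theorem fStar_le_closure {G : Type*} [Group G] [Finite G] :
    Cfsg.generalizedFittingSubgroup G ≤ Subgroup.closure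
      {m : G | m ∈ Cfsg.generalizedFittingSubgroup G ∧ ((orderOf m).Coprime p ∨ m ∈ Cfsg.pCore p G)} := by
  refine sup_le (sSup_le fun K hK => ?_)
    ((FiniteGroup.fittingSubgroup_le_sup_pCores).trans (Finset.sup_le fun q hq x hx => ?_))
  · have hKF : K ≤ Cfsg.generalizedFittingSubgroup G :=
      (Components.component_le_layer hK).trans Components.layer_le_generalizedFitting
    haveI : Group.IsPerfect K := hK.2.1
    calc K = (Cfsg.pResidual p K).map K.subtype := by
          rw [pResidual_eq_top, ← MonoidHom.range_eq_map, Subgroup.range_subtype]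
      _ ≤ _ := by
        rw [Cfsg.pResidual, MonoidHom.map_closure]
        refine Subgroup.closure_mono ?_
        rintro _ ⟨s, hs, rfl⟩
        exact ⟨hKF s.2, Or.inl (by rw [Subgroup.coe_subtype, Subgroup.orderOf_coe]; exact hs)⟩
  · haveI := Fact.mk (Nat.prime_of_mem_primeFactors hq)
    refine Subgroup.subset_closure ⟨Components.fitting_le_generalizedFitting (pCore_le_fitting q hx), ?_⟩
    by_cases hqp : q = p
    · exact Or.inr (hqp ▸ hx)
    · obtain ⟨e, he⟩ := FiniteGroup.pCore_isPGroup q ⟨x, hx⟩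
      refine Or.inl (Nat.Coprime.coprime_dvd_left (orderOf_dvd_of_pow_eq_one (congrArg Subtype.val he))
        (Nat.Coprime.pow_left e ((Nat.coprime_primes (Fact.out) hp.out).2 hqp)))

/-- A `p'`-element of the generalized Fitting subgroup centralises the core. -/
theorem fStar_cent {G : Type*} [Group G] [Finite G] {k : G} (hk : k ∈ Cfsg.generalizedFittingSubgroup G)
    (hko : (orderOf k).Coprime p) : k ∈ Subgroup.centralizer (Cfsg.pCore p G : Set G) := by
  haveI := FiniteGroup.pCore_normal (G := G) p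
  set C := Subgroup.centralizer (Cfsg.pCore p G : Set G)
  haveI : C.Normal := inferInstanceAs (Subgroup.centralizer (Cfsg.pCore p G : Set G)).Normal
  have hle : Cfsg.generalizedFittingSubgroup G ≤ Cfsg.pCore p G ⊔ C := by
    refine sup_le (le_trans ?_ le_sup_right)
      ((FiniteGroup.fittingSubgroup_le_sup_pCores).trans (Finset.sup_le fun q hq => ?_))
    · exact Components.layer_le_centralizer_fitting.trans (Subgroup.centralizer_le (pCore_le_fitting p))
    · by_cases hqp : q = p
      · rw [hqp]; exact le_sup_left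
      · exact le_trans (fun x hx => Subgroup.mem_centralizer_iff.2 fun y hy =>
          (FiniteGroup.commute_pCores hp.out (Nat.prime_of_mem_primeFactors hq) (Ne.symm hqp) hy hx).eq)
          le_sup_right
  obtain ⟨q, hq, z, hz, rfl⟩ := Subgroup.mem_sup_of_normal_left.1 (hle hk)
  obtain ⟨e, he⟩ := FiniteGroup.pCore_isPGroup p ⟨q, hq⟩
  have h1 : (QuotientGroup.mk (q * z) : G ⧸ C) ^ p ^ e = 1 := by
    rw [QuotientGroup.mk_mul, (QuotientGroup.eq_one_iff z).2 hz, mul_one, ← QuotientGroup.mk_pow,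
      show q ^ p ^ e = 1 from congrArg Subtype.val he]
    rfl
  have h2 : (QuotientGroup.mk (q * z) : G ⧸ C) ^ orderOf (q * z) = 1 := by
    rw [← QuotientGroup.mk_pow, pow_orderOf_eq_one]; rfl
  exact (QuotientGroup.eq_one_iff _).1 (coprime_pow_eq_one h1 h2 (hko.symm.pow_left e))

/-- Operators fixing the `p'`-elements of the generalized Fitting subgroup fix the `p'`-elements centralising the
core. -/
theorem good_of_fix (hRH : R ≤ Subgroup.normalizer (H : Set X)) (hcop : (Nat.card R).Coprime (Nat.card H))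
    (hfix : ∀ m : H, m ∈ Cfsg.generalizedFittingSubgroup H → (orderOf m).Coprime p →
      ∀ r ∈ R, r * (m : X) = m * r) : Good p H R := by
  intro k hk hko hkq r hr
  haveI hFn : (Cfsg.generalizedFittingSubgroup H).Normal := Components.generalizedFitting_normal
  set S : Set X := {x | ∃ m : H, m ∈ Cfsg.generalizedFittingSubgroup H ∧ (orderOf m).Coprime p ∧ (m : X) = x}
  set A := H ⊓ Subgroup.centralizer (S ∪ (core p H : Set X)) with hA
  have hSn : ∀ g ∈ H, ∀ x ∈ S, g * x * g⁻¹ ∈ S := by
    rintro g hg _ ⟨m, hm, hmo, rfl⟩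
    refine ⟨⟨g, hg⟩ * m * (⟨g, hg⟩ : H)⁻¹, hFn.conj_mem m hm _, ?_, rfl⟩
    rw [show (⟨g, hg⟩ : H) * m * (⟨g, hg⟩ : H)⁻¹ = MulAut.conj (⟨g, hg⟩ : H) m from rfl, MulEquiv.orderOf_eq]
    exact hmo
  have hSfix : ∀ x ∈ S, r * x = x * r := by
    rintro _ ⟨m, hm, hmo, rfl⟩; exact hfix m hm hmo r hr
  have hAF : ∀ y (hy : y ∈ A), (⟨y, hy.1⟩ : H) ∈ Cfsg.generalizedFittingSubgroup H ∧
      (⟨y, hy.1⟩ : H) ∈ Subgroup.centralizer (Cfsg.generalizedFittingSubgroup H : Set H) := by
    intro y hy
    have : Cfsg.generalizedFittingSubgroup H ≤ Subgroup.centralizer {(⟨y, hy.1⟩ : H)} := by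
      refine (fStar_le_closure (p := p)).trans ((Subgroup.closure_le _).2 ?_)
      rintro m ⟨hm, hm'⟩
      refine Subgroup.mem_centralizer_singleton_iff.2 (Subtype.ext ?_)
      refine Subgroup.mem_centralizer_iff.1 hy.2 (m : X) ?_
      rcases hm' with hmo | hmc
      · exact Or.inl ⟨m, hm, hmo, rfl⟩
      · exact Or.inr ⟨m, hmc, rfl⟩
    have hc : (⟨y, hy.1⟩ : H) ∈ Subgroup.centralizer (Cfsg.generalizedFittingSubgroup H : Set H) :=
      Subgroup.mem_centralizer_iff.2 fun m hm => Subgroup.mem_centralizer_singleton_iff.1 (this hm)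
    exact ⟨Components.centralizer_generalizedFitting_le hc, hc⟩
  have hAn : ∀ g ∈ H, g ∈ Subgroup.normalizer (A : Set X) := by
    intro g hg
    refine mem_normalizer_of_conj fun y hy => Subgroup.mem_inf.2
      ⟨mul_mem (mul_mem hg hy.1) (inv_mem hg), Subgroup.mem_centralizer_iff.2 fun x hx => ?_⟩
    have h1 : g⁻¹ * x * g ∈ S ∪ (core p H : Set X) := by
      rcases hx with hx | hx
      · left; have := hSn _ (inv_mem hg) x hx; rwa [inv_inv] at this
      · right; have := core_conj_self (inv_mem hg) hx; rwa [inv_inv] at this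
    calc x * (g * y * g⁻¹) = g * ((g⁻¹ * x * g) * y) * g⁻¹ := by group
      _ = g * (y * (g⁻¹ * x * g)) * g⁻¹ := by rw [Subgroup.mem_centralizer_iff.1 hy.2 _ h1]
      _ = _ := by group
  have hrH : ∀ y ∈ H, r * y * r⁻¹ ∈ H := fun y hy => (Subgroup.mem_normalizer_iff.1 (hRH hr) y).1 hy
  set c := k⁻¹ * (r * k * r⁻¹) with hc
  have hcA : c ∈ A := by
    refine Subgroup.mem_inf.2 ⟨mul_mem (inv_mem hk) (hrH k hk), Subgroup.mem_centralizer_iff.2 fun x hx => ?_⟩
    rcases hx with hx | hx
    · have e1 := hSfix _ (hSn k hk x hx)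
      have e2 := hSfix x hx
      have f1 : r⁻¹ * x * r = x := by rw [mul_assoc, ← e2]; group
      have e3 : r * k * r⁻¹ * x * (r * k * r⁻¹)⁻¹ = k * x * k⁻¹ := by
        calc r * k * r⁻¹ * x * (r * k * r⁻¹)⁻¹ = r * (k * (r⁻¹ * x * r) * k⁻¹) * r⁻¹ := by group
          _ = _ := by rw [f1, e1]; group
      have e4 : c * x * c⁻¹ = x := by
        calc c * x * c⁻¹ = k⁻¹ * (r * k * r⁻¹ * x * (r * k * r⁻¹)⁻¹) * k := by rw [hc]; group
          _ = x := by rw [e3]; group
      exact (mul_inv_eq_iff_eq_mul.1 e4).symm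
    · have hx' : r⁻¹ * x * r ∈ core p H := by
        have := core_conj (inv_mem (hRH hr)) hx
        rwa [inv_inv] at this
      have c1 : Commute x (r * k * r⁻¹) := by
        show x * (r * k * r⁻¹) = r * k * r⁻¹ * x
        calc x * (r * k * r⁻¹) = r * ((r⁻¹ * x * r) * k) * r⁻¹ := by group
          _ = r * (k * (r⁻¹ * x * r)) * r⁻¹ := by rw [hkq _ hx']
          _ = _ := by group
      exact (((show Commute x k from hkq x hx).inv_right).mul_right c1).eq
  have hcore : c ∈ core p A := by
    refine twist_mem_core (A := A) (fun a ha _ b hb => ?_) (fun a ha hao => ?_) (fun y hy => ?_) (h := k)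
      (by rw [hc]; group) hcA ((hcop.coprime_dvd_left (Subgroup.orderOf_dvd_natCard R hr)).coprime_dvd_right
        (Subgroup.orderOf_dvd_natCard H hcA.1))
    · exact congrArg Subtype.val (Subgroup.mem_centralizer_iff.1 (hAF a ha).2 _ (hAF b hb).1)
    · exact hfix ⟨a, ha.1⟩ (hAF a ha).1 (by rwa [← Subgroup.orderOf_coe]) r hr
    · refine Subgroup.mem_inf.2 ⟨hrH y hy.1, Subgroup.mem_centralizer_iff.2 fun x hx => ?_⟩
      have h1 : r⁻¹ * x * r ∈ S ∪ (core p H : Set X) := by
        rcases hx with hx | hx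
        · left; rwa [mul_assoc, ← hSfix x hx, inv_mul_cancel_left]
        · right; have := core_conj (inv_mem (hRH hr)) hx; rwa [inv_inv] at this
      calc x * (r * y * r⁻¹) = r * ((r⁻¹ * x * r) * y) * r⁻¹ := by group
        _ = r * (y * (r⁻¹ * x * r)) * r⁻¹ := by rw [Subgroup.mem_centralizer_iff.1 hy.2 _ h1]
        _ = _ := by group
  have hcH : c ∈ core p H := (le_core (G := H) ((core_le p A).trans inf_le_left)
    (fun g hg y hy => core_conj (hAn g hg) hy) (core_isPGroup A)) hcore
  have e : k * r * k⁻¹ * r⁻¹ = c⁻¹ := by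
    have hck : k * c = c * k := (hkq c hcH).symm
    calc k * r * k⁻¹ * r⁻¹ = k * (k * c)⁻¹ := by rw [hc]; group
      _ = c⁻¹ := by rw [hck]; group
  refine commute_of_comm hko ?_ ?_
  · rw [e]; exact (show Commute k c from (hkq c hcH).symm).inv_right
  · rw [e]; exact mem_pgroup_pow (core_isPGroup H) (inv_mem hcH)

end Cfsg.Agent.EquiQuad
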