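import Cfsg.Agent.Lib.EquiQuad.GoodMain

/-!
The induction on the order: goodness of the centralisers of the operators gives goodness of the group.
-/

set_option autoImplicit false
set_option linter.unusedSectionVars false
set_option linter.style.haveILetI false

namespace Cfsg.Agent.EquiQuad

open CoprimeAct

universe u

variable {X : Type u} [Group X] [Finite X] {p : ℕ} [hp : Fact p.Prime] {G R : Subgroup X}

theorem map_inj_card_lt {Y : Type*} [Group Y] {H : Subgroup X} (f : X →* Y) {z : X} (hz : z ∈ H) (hz1 : z ≠ 1)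
    (hfz : f z = 1) : Nat.card (H.map f) < Nat.card H := by
  have hsurj := f.subgroupMap_surjective H
  refine lt_of_le_of_ne (Nat.card_le_card_of_surjective _ hsurj) fun e => hz1 ?_
  have hbij := hsurj.bijective_of_nat_card_le e.ge
  have : f.subgroupMap H ⟨z, hz⟩ = f.subgroupMap H 1 := by
    rw [map_one]; exact Subtype.ext hfz
  exact congrArg Subtype.val (hbij.1 this)

/-- Passing to the quotient by a central core. -/
theorem Hyp.good_of_quot (h : Hyp p G R) (hcen : ∀ q ∈ core p G, ∀ g ∈ G, g * q = q * g) (hQ : core p G ≠ ⊥)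
    (ih : ∀ (Y : Type u) [Group Y] [Finite Y] (G' R' : Subgroup Y), Nat.card G' < Nat.card G → Hyp p G' R' →
      Good p G' R') : Good p G R := by
  set H := G ⊔ R with hH
  have hGH : G ≤ H := le_sup_left
  have hRH : R ≤ H := le_sup_right
  set Q := core p G with hQdef
  have hQG : Q ≤ G := core_le p G
  have hQH : Q ≤ H := hQG.trans hGH
  haveI hQn : (Q.subgroupOf H).Normal := by
    rw [Subgroup.normal_subgroupOf_iff_le_normalizer hQH]
    exact fun g hg => mem_normalizer_of_conj fun y hy => core_conj (sup_le Subgroup.le_normalizer h.norm hg) hy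
  set G1 := G.subgroupOf H
  set R1 := R.subgroupOf H
  set φ := QuotientGroup.mk' (Q.subgroupOf H) with hφ
  have hker : ∀ z : H, φ z = 1 ↔ (z : X) ∈ Q := fun z => by
    rw [hφ, QuotientGroup.mk'_apply, QuotientGroup.eq_one_iff, Subgroup.mem_subgroupOf]
  have hnorm1 : R1 ≤ Subgroup.normalizer (G1 : Set H) := fun r hr =>
    mem_normalizer_of_conj fun y hy => (Subgroup.mem_normalizer_iff.1 (h.norm hr) y.1).1 hy
  have hcop1 : (Nat.card R1).Coprime (Nat.card G1) := by
    rw [Nat.card_congr (Subgroup.subgroupOfEquivOfLe hRH).toEquiv,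
      Nat.card_congr (Subgroup.subgroupOfEquivOfLe hGH).toEquiv]
    exact h.cop
  have hinj : ∀ r ∈ R1, φ r = 1 → r = 1 := fun r hr hr1 => Subtype.ext (coprime_pow_eq_one
    (orderOf_dvd_iff_pow_eq_one.1 (Subgroup.orderOf_dvd_natCard R hr))
    (orderOf_dvd_iff_pow_eq_one.1 (Subgroup.orderOf_dvd_natCard G (hQG ((hker r).1 hr1)))) h.cop)
  have hlt : Nat.card (G1.map φ) < Nat.card G := by
    obtain ⟨z, hz, hz1⟩ := (Subgroup.ne_bot_iff_exists_ne_one).1 hQ |>.elim fun z hz =>
      (⟨z.1, z.2, fun e => hz (Subtype.ext e)⟩ : ∃ z, z ∈ Q ∧ z ≠ (1 : X))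
    rw [← Nat.card_congr (Subgroup.subgroupOfEquivOfLe hGH).toEquiv]
    exact map_inj_card_lt φ (z := ⟨z, hQH hz⟩) (show (⟨z, hQH hz⟩ : H) ∈ G1 from hQG hz)
      (fun e => hz1 (congrArg Subtype.val e)) ((hker _).2 hz)
  have hpQ : IsPGroup p (Q.subgroupOf H) := (core_isPGroup G).of_equiv (Subgroup.subgroupOfEquivOfLe hQH).symm
  -- the hypotheses descend
  have hhyp : Hyp p (G1.map φ) (R1.map φ) := by
    refine ⟨(Subgroup.map_mono hnorm1).trans (Subgroup.le_normalizer_map φ), ?_, fun hc => h.noncyc ?_,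
      (hcop1.coprime_dvd_left (Subgroup.card_map_dvd R1 φ)).coprime_dvd_right (Subgroup.card_map_dvd G1 φ), ?_⟩
    · rintro _ ⟨a, ha, rfl⟩ _ ⟨b, hb, rfl⟩
      rw [← map_mul, ← map_mul, show a * b = b * a from Subtype.ext (h.comm a ha b hb)]
    · have hbij : Function.Bijective (φ.subgroupMap R1) := by
        refine ⟨fun x y e => ?_, φ.subgroupMap_surjective R1⟩
        have e' : φ x = φ y := congrArg Subtype.val e
        have : φ ((x : H)⁻¹ * y) = 1 := by rw [map_mul, map_inv, e', inv_mul_cancel]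
        exact Subtype.ext (inv_mul_eq_one.1 (hinj _ (mul_mem (inv_mem x.2) y.2) this))
      let e := ((MulEquiv.ofBijective _ hbij).symm).trans (Subgroup.subgroupOfEquivOfLe hRH)
      haveI := hc
      exact isCyclic_of_surjective e.toMonoidHom e.surjective
    · rintro _ ⟨a, ha, rfl⟩ ha1 k' hk' hko hkq
      have ha1' : (a : X) ≠ 1 := fun e => ha1 (by rw [show a = 1 from Subtype.ext e, map_one])
      have haR : Subgroup.zpowers a ≤ R1 := Subgroup.zpowers_le.2 ha
      haveI : Group.IsSolvable (Subgroup.zpowers a) := Group.isSolvable_of_comm fun x y => mul_comm' x y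
      have hmap := map_inf_centralizer φ (haR.trans hnorm1) (hcop1.coprime_dvd_left (Subgroup.card_dvd_of_le haR))
        (Or.inl inferInstance)
      rw [MonoidHom.map_zpowers, centralizer_zpowers_eq, centralizer_zpowers_eq] at hmap
      rw [← hmap] at hk'
      obtain ⟨k0, hk0, rfl⟩ := hk'
      obtain ⟨u, v, e, hu, hv, hpu, hpv⟩ := exists_pp p k0
      have hv0 : v ∈ G1 ⊓ Subgroup.centralizer {a} := (Subgroup.zpowers_le.2 hk0) hv
      have hu0 : φ u = 1 := by
        obtain ⟨m, rfl⟩ := Subgroup.mem_zpowers_iff.1 hu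
        obtain ⟨e, he⟩ := hpu
        refine coprime_pow_eq_one (a := p ^ e) (by rw [← map_pow, he, map_one]) (b := orderOf (φ k0)) ?_
          (hko.symm.pow_left e)
        rw [map_zpow, ← zpow_natCast, ← zpow_mul, mul_comm, zpow_mul, zpow_natCast, pow_orderOf_eq_one, one_zpow]
      have ekv : φ k0 = φ v := by rw [e, map_mul, hu0, one_mul]
      have hvG : (v : X) ∈ G ⊓ Subgroup.centralizer {(a : X)} := ⟨hv0.1, Subgroup.mem_centralizer_singleton_iff.2
        (congrArg Subtype.val (Subgroup.mem_centralizer_singleton_iff.1 hv0.2))⟩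
      have hfix := h.loc a ha ha1' v hvG (by rwa [Subgroup.orderOf_coe]) fun q hq => ?_
      · rintro _ ⟨r, hr, rfl⟩
        rw [ekv, ← map_mul, ← map_mul, show r * v = v * r from Subtype.ext (hfix r hr)]
      have hqG := core_le p _ hq
      set L := (core p (G ⊓ Subgroup.centralizer {(a : X)})).subgroupOf H
      have hLim : L.map φ ≤ core p (G1.map φ ⊓ Subgroup.centralizer {φ a}) := by
        rw [← hmap]
        refine le_core (Subgroup.map_mono fun y hy => ⟨(core_le p _ hy).1,
          Subgroup.mem_centralizer_singleton_iff.2 (Subtype.ext (Subgroup.mem_centralizer_singleton_iff.1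
            (core_le p _ hy).2))⟩) ?_ (IsPGroup.map ((core_isPGroup _).of_equiv (Subgroup.subgroupOfEquivOfLe
              ((core_le p _).trans (inf_le_left.trans hGH))).symm) φ)
        rintro _ ⟨g, hg, rfl⟩ _ ⟨y, hy, rfl⟩
        refine ⟨g * y * g⁻¹, core_conj_self (G := G ⊓ Subgroup.centralizer {(a : X)}) ⟨hg.1,
          Subgroup.mem_centralizer_singleton_iff.2 (congrArg Subtype.val
            (Subgroup.mem_centralizer_singleton_iff.1 hg.2))⟩ hy, ?_⟩
        simp
      set q1 : H := ⟨q, hGH hqG.1⟩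
      have hcomm := hkq (φ q1) (hLim ⟨q1, hq, rfl⟩)
      rw [ekv] at hcomm
      have hz : φ (v * q1 * v⁻¹ * q1⁻¹) = 1 := by
        simp only [map_mul, map_inv]
        rw [← hcomm]; group
      have hzQ : (v : X) * q * (v : X)⁻¹ * q⁻¹ ∈ Q := (hker _).1 hz
      exact commute_of_comm (by rwa [Subgroup.orderOf_coe]) (hcen _ hzQ v hvG.1)
        (mem_pgroup_pow (core_isPGroup G) hzQ)
  -- the quotient is good and its core is trivial
  have hgood := ih _ _ _ hlt hhyp
  intro k hk hko _ r hr
  set k1 : H := ⟨k, hGH hk⟩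
  set r1 : H := ⟨r, hRH hr⟩
  have hcore : core p (G1.map φ) = ⊥ := by
    refine eq_bot_iff.2 fun y hy => ?_
    obtain ⟨z, hz, rfl⟩ := core_le p _ hy
    set T := ((core p (G1.map φ)).comap φ).map H.subtype
    have hzT : (z : X) ∈ T := ⟨z, hy, rfl⟩
    have hTG : T ≤ G := by
      rintro _ ⟨w, hw, rfl⟩
      obtain ⟨w', hw', e⟩ := core_le p _ hw
      have : φ (w'⁻¹ * w) = 1 := by rw [map_mul, map_inv, e, inv_mul_cancel]
      have := hQG ((hker _).1 this)
      simpa using mul_mem (show (w' : X) ∈ G from hw') this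
    have hT : T ≤ Q := le_core (G := G) (N := T) hTG (by
      rintro g hg _ ⟨w, hw, rfl⟩
      refine ⟨⟨g, hGH hg⟩ * w * (⟨g, hGH hg⟩ : H)⁻¹, ?_, rfl⟩
      show φ _ ∈ core p (G1.map φ)
      rw [map_mul, map_mul, map_inv]
      exact core_conj_self (G := G1.map φ) ⟨_, show (⟨g, hGH hg⟩ : H) ∈ G1 from hg, rfl⟩ hw)
      ((((core_isPGroup _).comap_of_ker_isPGroup φ (by rw [hφ, QuotientGroup.ker_mk']; exact hpQ))).map _)
    exact Subgroup.mem_bot.2 ((hker z).2 (hT hzT))
  have hfix := hgood (φ k1) ⟨k1, hk, rfl⟩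
    (hko.coprime_dvd_left ((orderOf_map_dvd φ k1).trans (by rw [← Subgroup.orderOf_coe k1])))
    (fun q hq => by rw [hcore, Subgroup.mem_bot] at hq; subst hq; simp) (φ r1) ⟨r1, hr, rfl⟩
  have hz : φ (k1 * r1 * k1⁻¹ * r1⁻¹) = 1 := by
    simp only [map_mul, map_inv]
    rw [← hfix]; group
  have hzQ : k * r * k⁻¹ * r⁻¹ ∈ Q := (hker _).1 hz
  exact commute_of_comm hko (hcen _ hzQ k hk) (mem_pgroup_pow (core_isPGroup G) hzQ)

/-- Goodness of the centralisers of the nontrivial operators gives goodness of the group. -/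
theorem good_of_centralizers (h5 : 5 ≤ p) (h : Hyp p G R) : Good p G R := by
  suffices key : ∀ n, ∀ (X : Type u) [Group X] [Finite X] (G R : Subgroup X), Nat.card G = n →
      Hyp p G R → Good p G R from key _ X G R rfl h
  intro n
  induction n using Nat.strong_induction_on with
  | _ n ih =>
    intro X _ _ G R hn h
    subst hn
    set Q := core p G with hQ
    set C := G ⊓ Subgroup.centralizer (Q : Set X)
    have hlt : ∀ M ≤ G, M ≠ G → Nat.card M < Nat.card G := fun M hM hne =>
      lt_of_le_of_ne (Subgroup.card_le_of_le hM) fun e => hne (Subgroup.eq_of_le_of_card_ge hM e.ge)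
    by_cases hC : C = G
    · have hcen : ∀ q ∈ Q, ∀ g ∈ G, g * q = q * g := fun q hq g hg =>
        (Subgroup.mem_centralizer_iff.1 ((hC.ge.trans inf_le_right) hg) q hq).symm
      by_cases hQ1 : Q = ⊥
      · exact h.good_of_core_bot h5 hQ1 fun M hM hne hM' => ih _ (hlt M hM hne) X M R rfl hM'
      · exact h.good_of_quot hcen hQ1 fun Y _ _ G' R' hlt' h' => ih _ hlt' Y G' R' rfl h'
    · have hGC : G ≤ Subgroup.normalizer (C : Set X) := fun g hg =>
        mem_normalizer_inf_centralizer (Subgroup.le_normalizer hg) (core_le_normalizer (Subgroup.le_normalizer hg))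
      have hg := ih _ (hlt C inf_le_left hC) X C R rfl (h.normal inf_le_left hGC fun r hr =>
        mem_normalizer_inf_centralizer (h.norm hr) (core_le_normalizer (h.norm hr)))
      intro k hk hko hkq
      have hle : core p C ≤ Q := le_core ((core_le p C).trans inf_le_left)
        (fun g hg y hy => core_conj (hGC hg) hy) (core_isPGroup C)
      exact hg k ⟨hk, Subgroup.mem_centralizer_iff.2 hkq⟩ hko fun q hq => hkq q (hle hq)

end Cfsg.Agent.EquiQuad
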