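import Cfsg.Agent.Lib.EquiQuad.GoodBasic
import Cfsg.Agent.Lib.Solvable.Coprime

/-!
Goodness of a group follows from goodness of the centralisers of the operators.
-/

set_option autoImplicit false
set_option linter.unusedSectionVars false
set_option linter.style.haveILetI false

namespace Cfsg.Agent.EquiQuad

open CoprimeAct
open scoped commutatorElement

universe u

variable {X : Type u} [Group X] [Finite X] {p : ℕ} [hp : Fact p.Prime] {G R : Subgroup X}

theorem centralizer_zpowers_eq (a : X) :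
    Subgroup.centralizer ((Subgroup.zpowers a : Subgroup X) : Set X) = Subgroup.centralizer {a} := by
  rw [Subgroup.zpowers_eq_closure, Subgroup.centralizer_closure]

theorem Hyp.generated (h : Hyp p G R) {K : Subgroup X} (hK : ∀ a ∈ R, a ≠ 1 → G ⊓ Subgroup.centralizer {a} ≤ K) :
    G ≤ K := by
  haveI : IsMulCommutative R := IsMulCommutative.of_comm fun a b => Subtype.ext (h.comm a a.2 b b.2)
  rw [← generated_by_centralizers h.noncyc h.norm h.cop]
  exact iSup₂_le fun a ha => hK a ha.1 ha.2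

/-- If the intersection of the invariant Sylow subgroups is trivial the operators act trivially. -/
theorem Hyp.good_of_inter_bot (h : Hyp p G R) (hP : inter p G R = ⊥) : Good p G R := by
  have hle : G ≤ Subgroup.centralizer (R : Set X) := h.generated fun a ha ha1 x hx => by
    have hQ : core p (G ⊓ Subgroup.centralizer {a}) = ⊥ := eq_bot_iff.2 (hP ▸ h.core_cent_le ha)
    refine Subgroup.mem_centralizer_iff.2 fun r hr => ?_
    have := comm_mem_core (H := G ⊓ Subgroup.centralizer {a}) (h.cent_norm ha hr)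
      (fun k hk hko => h.loc a ha ha1 k hk hko (fun q hq => by
        rw [hQ, Subgroup.mem_bot] at hq; subst hq; simp) r hr)
      ((h.cop.coprime_dvd_left (Subgroup.orderOf_dvd_natCard R hr)).coprime_dvd_right
        (Subgroup.card_dvd_of_le inf_le_left)) hx
    rw [hQ, Subgroup.mem_bot, inv_mul_eq_one, eq_mul_inv_iff_mul_eq] at this
    exact this.symm
  exact fun k hk _ _ r hr => Subgroup.mem_centralizer_iff.1 (hle hk) r hr

theorem inter_conj {g x : X} (hg : g ∈ Subgroup.normalizer (G : Set X)) (hgR : ∀ r ∈ R, g * r = r * g)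
    (hx : x ∈ inter p G R) : g * x * g⁻¹ ∈ inter p G R :=
  mem_inter.2 (inAll_conj hg hgR (mem_inter.1 hx))

theorem inter_normalizer {r : X} (hr : r ∈ R) : r ∈ Subgroup.normalizer ((inter p G R : Subgroup X) : Set X) :=
  mem_normalizer_of_conj fun _ hy => mem_inter.2 (inAll_conj_op hr (mem_inter.1 hy))

/-- Each centraliser normalises a subgroup between the centre and the whole of the intersection. -/
theorem Hyp.start (h : Hyp p G R) {a : X} (ha : a ∈ R) (ha1 : a ≠ 1) :
    ∃ C ≤ inter p G R, inter p G R ⊓ Subgroup.centralizer ((inter p G R : Subgroup X) : Set X) ≤ C ∧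
      R ≤ Subgroup.normalizer (C : Set X) ∧
      G ⊓ Subgroup.centralizer {a} ≤ Subgroup.normalizer (C : Set X) := by
  set P := inter p G R
  set H := G ⊓ Subgroup.centralizer {a} with hH
  set Qa := core p H with hQa
  set C0 := G ⊓ Subgroup.centralizer (Qa : Set X) with hC0
  have hC0G : C0 ≤ G := inf_le_left
  have hHR : R ≤ Subgroup.normalizer (H : Set X) := h.cent_norm ha
  have hRC0 : R ≤ Subgroup.normalizer (C0 : Set X) := fun r hr =>
    mem_normalizer_inf_centralizer (h.norm hr) (core_le_normalizer (hHR hr))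
  have hHC0 : H ≤ Subgroup.normalizer (C0 : Set X) := fun g hg =>
    mem_normalizer_inf_centralizer (Subgroup.le_normalizer hg.1) (core_le_normalizer (Subgroup.le_normalizer hg))
  have hcop0 : (Nat.card R).Coprime (Nat.card C0) := h.cop.coprime_dvd_right (Subgroup.card_dvd_of_le hC0G)
  have hQP : Qa ≤ P := h.core_cent_le ha
  have hinv : ∀ T : Sylow p C0,
      a ∈ Subgroup.normalizer (((T : Subgroup C0).map C0.subtype : Subgroup X) : Set X) →
      R ≤ Subgroup.normalizer (((T : Subgroup C0).map C0.subtype : Subgroup X) : Set X) := by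
    intro T hT
    obtain ⟨S, hS⟩ := exists_invariant_sylow hRC0 hcop0 (Or.inl h.solv) p
    have haR : Subgroup.zpowers a ≤ R := Subgroup.zpowers_le.2 ha
    haveI : Group.IsSolvable (Subgroup.zpowers a) := Group.isSolvable_of_comm fun x y => mul_comm' x y
    obtain ⟨d, hd, hdT⟩ := invariant_sylow_conj (haR.trans hRC0)
      (hcop0.coprime_dvd_left (Subgroup.card_dvd_of_le haR)) (Or.inl inferInstance) S T (haR.trans hS)
      (Subgroup.zpowers_le.2 hT)
    set D := H ⊓ Subgroup.centralizer (Qa : Set X) with hD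
    have hdH : (d : X) ∈ H := ⟨hC0G d.2, (centralizer_zpowers_eq a) ▸ hd⟩
    have hdD : (d : X) ∈ D := ⟨hdH, d.2.2⟩
    have e : (T : Subgroup C0).map C0.subtype =
        ((S : Subgroup C0).map C0.subtype).map (MulAut.conj (d : X)).toMonoidHom := by
      rw [← hdT]
      show ((S : Subgroup C0).map (MulAut.conj d).toMonoidHom).map C0.subtype = _
      rw [Subgroup.map_map, Subgroup.map_map]
      rfl
    intro r hr
    have hrD : r ∈ Subgroup.normalizer (D : Set X) :=
      mem_normalizer_inf_centralizer (hHR hr) (core_le_normalizer (hHR hr))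
    have hc := comm_mem_core (H := D) hrD (fun k hk hko => h.loc a ha ha1 k hk.1 hko
        (fun q hq => Subgroup.mem_centralizer_iff.1 hk.2 q hq) r hr)
      ((h.cop.coprime_dvd_left (Subgroup.orderOf_dvd_natCard R hr)).coprime_dvd_right
        (Subgroup.card_dvd_of_le (inf_le_left.trans inf_le_left))) hdD
    set c := (d : X)⁻¹ * (r * d * r⁻¹) with hcdef
    have hDQ : core p D ≤ Qa := le_core (G := H) ((core_le p D).trans inf_le_left)
      (fun g hg y hy => core_conj (mem_normalizer_inf_centralizer (Subgroup.le_normalizer hg)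
        (core_le_normalizer (Subgroup.le_normalizer hg))) hy) (core_isPGroup D)
    have hU : Qa ⊓ C0 ≤ core p C0 := le_core (G := C0) inf_le_right (fun g hg y hy => Subgroup.mem_inf.2
      ⟨by rw [← Subgroup.mem_centralizer_iff.1 hg.2 y hy.1, mul_inv_cancel_right]; exact hy.1,
        mul_mem (mul_mem hg hy.2) (inv_mem hg)⟩) ((core_isPGroup H).to_le inf_le_left)
    have hcS : c ∈ (S : Subgroup C0).map C0.subtype :=
      mem_inter.1 (core_le_inter hRC0 hcop0 h.solv (hU ⟨hDQ hc,
        ⟨(core_le p D hc).1.1, (core_le p D hc).2⟩⟩)) S hS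
    rw [e]
    exact Subgroup.le_normalizer_map _ ⟨c * r, mul_mem (Subgroup.le_normalizer hcS) (hS hr), by
      simp [hcdef, mul_assoc]⟩
  have hmem : ∀ x, x ∈ P ⊓ Subgroup.centralizer (Qa : Set X) ↔ x ∈ C0 ∧ InAllSyl p C0 R x := by
    intro x
    constructor
    · intro hx
      have hxC0 : x ∈ C0 := ⟨inter_le h.norm h.cop h.solv hx.1, hx.2⟩
      exact ⟨hxC0, inAll_sub h.norm h.cop (Or.inl h.solv) (mem_inter.1 hx.1) hC0G hxC0⟩
    · rintro ⟨hxC0, hx⟩
      refine ⟨mem_inter.2 fun T hT => ?_, hxC0.2⟩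
      obtain ⟨S, hS⟩ := exists_invariant_sylow hRC0 hcop0 (Or.inl h.solv) p
      obtain ⟨T0, hST, hT0⟩ := exists_invariant_sylow_ge h.norm h.cop (Or.inl h.solv)
        ((Subgroup.map_subtype_le (S : Subgroup C0)).trans hC0G) (S.2.map _) hS
      obtain ⟨c, hc, rfl⟩ := invariant_sylow_conj h.norm h.cop (Or.inl h.solv) T0 T hT0 hT
      have hcR : ∀ r ∈ R, (c : X) * r = r * c := fun r hr => (Subgroup.mem_centralizer_iff.1 hc r hr).symm
      obtain ⟨S', hS'⟩ := exists_sylow_map S (hHC0 (h.mem_cent ha c.2 hcR))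
      have := hx S' (by rw [hS']; exact fun r hr => conj_mem_normalizer (hcR r hr) (hS hr))
      rw [hS'] at this
      obtain ⟨s, hs, e⟩ := this
      obtain ⟨y, hy, hys⟩ := hST hs
      refine ⟨MulAut.conj c y, ⟨y, hy, rfl⟩, ?_⟩
      simp only [Subgroup.coe_subtype] at hys
      show (c : X) * y * (c : X)⁻¹ = x
      rw [hys, ← e]
      rfl
  refine ⟨P ⊓ Subgroup.centralizer (Qa : Set X), inf_le_left, ?_, fun r hr => ?_, fun g hg => ?_⟩
  · exact le_inf inf_le_left (inf_le_right.trans (Subgroup.centralizer_le hQP))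
  · exact mem_normalizer_inf_centralizer (inter_normalizer hr) (core_le_normalizer (hHR hr))
  · refine mem_normalizer_of_conj fun x hx => (hmem _).2 ?_
    obtain ⟨hxC0, hx'⟩ := (hmem x).1 hx
    refine ⟨(Subgroup.mem_normalizer_iff.1 (hHC0 hg) x).1 hxC0, fun T hT => ?_⟩
    obtain ⟨T', hT'⟩ := exists_sylow_map T (inv_mem (hHC0 hg))
    have := hx' T' (hinv T' (by
      rw [hT']
      exact conj_mem_normalizer ((show Commute g a from
        Subgroup.mem_centralizer_singleton_iff.1 hg.2).inv_left.eq) (hT ha)))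
    rw [hT'] at this
    obtain ⟨t, ht, e⟩ := this
    rw [← e, show g * (MulAut.conj g⁻¹).toMonoidHom t * g⁻¹ = t by simp [mul_assoc]]
    exact ht

theorem mem_normalizer_of_tr {W C : Subgroup X} (hCW : C ≤ W) (htr : ∀ φ : MulAut W, tr W φ C ≤ C) {g : X}
    (hg : g ∈ Subgroup.normalizer (W : Set X)) : g ∈ Subgroup.normalizer (C : Set X) :=
  mem_normalizer_of_conj fun x hx =>
    htr (W.normalizerMonoidHom ⟨g, hg⟩) (mem_tr.2 ⟨⟨x, hCW hx⟩, hx, rfl⟩)

theorem centre_fam (P W : Subgroup X) (hWP : W ≤ P) (hV : P ⊓ Subgroup.centralizer (P : Set X) ≤ W) :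
    P ⊓ Subgroup.centralizer (P : Set X) ∈ Fam W := by
  refine ab_mem_fam hV ?_ ?_
  · have h1 : ⁅P ⊓ Subgroup.centralizer (P : Set X), W⁆ = ⊥ :=
      Subgroup.commutator_eq_bot_iff_le_centralizer.2 (inf_le_right.trans (Subgroup.centralizer_le hWP))
    rw [h1]; exact bot_le
  · exact Subgroup.commutator_eq_bot_iff_le_centralizer.2 (inf_le_right.trans (Subgroup.centralizer_le inf_le_left))

/-- Each centraliser lies in a good subgroup containing the intersection of the invariant Sylow subgroups. -/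
theorem Hyp.ascend (h : Hyp p G R) (h5 : 5 ≤ p) {M : Subgroup X} (hM : Good p M R) (hMG : M ≤ G)
    (hVM : G ⊓ Subgroup.centralizer
      ((inter p G R ⊓ Subgroup.centralizer ((inter p G R : Subgroup X) : Set X) : Subgroup X) : Set X) ≤ M)
    (hPM : inter p G R ≤ M) {a : X} (ha : a ∈ R) (ha1 : a ≠ 1) :
    ∃ N ≤ G, R ≤ Subgroup.normalizer (N : Set X) ∧ Good p N R ∧ G ⊓ Subgroup.centralizer {a} ≤ N ∧
      inter p G R ≤ N := by
  set P := inter p G R with hP
  set V := P ⊓ Subgroup.centralizer (P : Set X) with hV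
  have hPG : P ≤ G := inter_le h.norm h.cop h.solv
  have hPp : IsPGroup p P := inter_isPGroup h.norm h.cop h.solv
  have hgood : ∀ C ≤ P, V ≤ C → Good p (G ⊓ Subgroup.normalizer (C : Set X)) R := fun C hC hVC =>
    good_normalizer hM hMG hVM (hC.trans hPG) (hPp.to_le hC) hVC (hC.trans hPM)
  have hRN : ∀ C : Subgroup X, R ≤ Subgroup.normalizer (C : Set X) →
      R ≤ Subgroup.normalizer ((G ⊓ Subgroup.normalizer (C : Set X) : Subgroup X) : Set X) :=
    fun C hC r hr => mem_normalizer_of_conj fun y hy => Subgroup.mem_inf.2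
      ⟨(Subgroup.mem_normalizer_iff.1 (h.norm hr) y).1 hy.1, mul_mem (mul_mem (hC hr) hy.2) (inv_mem (hC hr))⟩
  obtain ⟨C, hCP, hVC, hCR, hCH⟩ := h.start ha ha1
  set S : Set (Subgroup X) := {N | N ≤ G ∧ R ≤ Subgroup.normalizer (N : Set X) ∧ Good p N R ∧
    G ⊓ Subgroup.centralizer {a} ≤ N ∧ V ≤ N} with hS
  have hne : S.Nonempty := ⟨G ⊓ Subgroup.normalizer (C : Set X), inf_le_left, hRN C hCR, hgood C hCP hVC,
    le_inf inf_le_left hCH, le_inf (inf_le_left.trans hPG) (hVC.trans Subgroup.le_normalizer)⟩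
  obtain ⟨N, ⟨hNG, hNR, hNgood, hHN, hVN⟩, hmax⟩ :=
    Set.exists_max_image S (fun N => Nat.card ↥(P ⊓ N)) (Set.toFinite S) hne
  refine ⟨N, hNG, hNR, hNgood, hHN, ?_⟩
  by_contra hPN
  have hcopN : (Nat.card R).Coprime (Nat.card N) := h.cop.coprime_dvd_right (Subgroup.card_dvd_of_le hNG)
  set W := P ⊓ N with hW
  have hWC : ∀ g ∈ N, (∀ r ∈ R, g * r = r * g) → ∀ x ∈ W, g * x * g⁻¹ ∈ W := fun g hg hgR x hx =>
    Subgroup.mem_inf.2 ⟨inter_conj (Subgroup.le_normalizer (hNG hg)) hgR hx.1,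
      mul_mem (mul_mem hg hx.2) (inv_mem hg)⟩
  have hQW : core p N ≤ W := le_inf (le_inter h.norm h.cop h.solv ((core_le p N).trans hNG) (core_isPGroup N)
    (fun r hr => core_le_normalizer (hNR hr))
    (fun c hc hcR _ hu => core_conj_self (hHN (h.mem_cent ha hc hcR)) hu)) (core_le p N)
  obtain ⟨C', hC'W, hfam, hnorm, htr⟩ := exists_universal (ι := Unit) W (fun _ => N) (fun _ => core p N)
    (fun _ => hQW) (fun _ g hg x hx => core_conj_self hg hx) (fun _ B hB hrel => absorb_core h5 hNR hcopN h.solv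
      inf_le_right (fun x hx => inAll_sub h.norm h.cop (Or.inl h.solv) (mem_inter.1 hx.1) hNG hx.2) hQW
      (good_cent hNgood inf_le_right (hPp.to_le inf_le_left) hWC) hB hrel)
  have hVC' : V ≤ C' := hfam V (centre_fam P W inf_le_left (le_inf inf_le_left hVN))
  have hWn : R ≤ Subgroup.normalizer (W : Set X) := fun r hr => mem_normalizer_of_conj fun y hy =>
    Subgroup.mem_inf.2 ⟨(Subgroup.mem_normalizer_iff.1 (inter_normalizer hr) y).1 hy.1,
      (Subgroup.mem_normalizer_iff.1 (hNR hr) y).1 hy.2⟩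
  set N' := G ⊓ Subgroup.normalizer (C' : Set X) with hN'
  have hN'S : N' ∈ S := by
    refine ⟨inf_le_left, hRN C' fun r hr => mem_normalizer_of_tr hC'W htr (hWn hr),
      hgood C' (hC'W.trans inf_le_left) hVC', ?_, le_inf (inf_le_left.trans hPG) (hVC'.trans Subgroup.le_normalizer)⟩
    exact fun g hg => Subgroup.mem_inf.2 ⟨hg.1, mem_normalizer_of_conj (hnorm () g (hHN hg))⟩
  haveI : Group.IsNilpotent P := hPp.isNilpotent
  have hlt : W.subgroupOf P < ⊤ := by
    rw [lt_top_iff_ne_top, Ne, Subgroup.subgroupOf_eq_top]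
    exact fun e => hPN (e.trans inf_le_right)
  obtain ⟨⟨y, hyP⟩, hyn, hyW⟩ :=
    SetLike.exists_of_lt (Group.normalizerCondition_of_isNilpotent (G := P) (W.subgroupOf P) hlt)
  have hyW' : y ∈ Subgroup.normalizer (W : Set X) := mem_normalizer_of_conj fun w hw =>
    (Subgroup.mem_normalizer_iff.1 hyn ⟨w, inf_le_left (a := P) hw⟩).1 hw
  have hlt' : W < P ⊓ N' := by
    refine lt_of_le_of_ne (le_inf inf_le_left fun w hw => Subgroup.mem_inf.2 ⟨hPG hw.1,
      mem_normalizer_of_conj (hnorm () w hw.2)⟩) fun e => hyW ?_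
    show y ∈ W
    rw [e]
    exact ⟨hyP, hPG hyP, mem_normalizer_of_tr hC'W htr hyW'⟩
  have h1 := hmax N' hN'S
  exact hlt'.ne (Subgroup.eq_of_le_of_card_ge hlt'.le h1)

/-- The main step: no counterexample with trivial core. -/
theorem Hyp.good_of_core_bot (h : Hyp p G R) (h5 : 5 ≤ p) (hQ : core p G = ⊥)
    (ih : ∀ M ≤ G, M ≠ G → Hyp p M R → Good p M R) : Good p G R := by
  set P := inter p G R with hP
  by_cases hPbot : P = ⊥
  · exact h.good_of_inter_bot hPbot
  exfalso
  have hPG : P ≤ G := inter_le h.norm h.cop h.solv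
  have hPp : IsPGroup p P := inter_isPGroup h.norm h.cop h.solv
  set V := P ⊓ Subgroup.centralizer (P : Set X) with hV
  have hV1 : V ≠ ⊥ := by
    haveI : Nontrivial P := (Subgroup.nontrivial_iff_ne_bot P).2 hPbot
    haveI := hPp.center_nontrivial
    obtain ⟨⟨z, hz⟩, hz1⟩ := exists_ne (1 : Subgroup.center P)
    intro e
    have : (z : X) ∈ V := ⟨z.2, Subgroup.mem_centralizer_iff.2 fun y hy =>
      congrArg Subtype.val (Subgroup.mem_center_iff.1 hz ⟨y, hy⟩)⟩
    rw [e, Subgroup.mem_bot] at this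
    exact hz1 (Subtype.ext (Subtype.ext this))
  have hVG : V ≤ G := inf_le_left.trans hPG
  set M := G ⊓ Subgroup.normalizer (V : Set X) with hM
  have hRV : R ≤ Subgroup.normalizer (V : Set X) := fun r hr =>
    mem_normalizer_inf_centralizer (inter_normalizer hr) (inter_normalizer hr)
  have hRM : R ≤ Subgroup.normalizer (M : Set X) := fun r hr => mem_normalizer_of_conj fun y hy =>
    Subgroup.mem_inf.2 ⟨(Subgroup.mem_normalizer_iff.1 (h.norm hr) y).1 hy.1,
      mul_mem (mul_mem (hRV hr) hy.2) (inv_mem (hRV hr))⟩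
  have hPM : P ≤ M := le_inf hPG fun y hy =>
    mem_normalizer_inf_centralizer (Subgroup.le_normalizer hy) (Subgroup.le_normalizer hy)
  have hMG : M ≠ G := by
    intro e
    refine hV1 (eq_bot_iff.2 (hQ ▸ le_core hVG (fun g hg v hv => ?_) (hPp.to_le inf_le_left)))
    exact (Subgroup.mem_normalizer_iff.1 ((e.ge.trans inf_le_right) hg) v).1 hv
  have hMgood := ih M inf_le_left hMG (h.big inf_le_left hPM hRM)
  have hVM : G ⊓ Subgroup.centralizer (V : Set X) ≤ M := fun y hy => Subgroup.mem_inf.2 ⟨hy.1,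
    mem_normalizer_of_conj fun v hv => by
      rwa [← Subgroup.mem_centralizer_iff.1 hy.2 v hv, mul_inv_cancel_right]⟩
  have hasc : ∀ i : {a : X // a ∈ R ∧ a ≠ 1}, ∃ N ≤ G, R ≤ Subgroup.normalizer (N : Set X) ∧ Good p N R ∧
      G ⊓ Subgroup.centralizer {i.1} ≤ N ∧ P ≤ N := fun i =>
    h.ascend h5 hMgood inf_le_left hVM hPM i.2.1 i.2.2
  choose N hNG hNR hNgood hHN hPN using hasc
  have hQP : ∀ i, core p (N i) ≤ P := fun i =>
    le_inter h.norm h.cop h.solv ((core_le p _).trans (hNG i)) (core_isPGroup _)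
      (fun r hr => core_le_normalizer (hNR i hr))
      (fun c hc hcR _ hu => core_conj_self (hHN i (h.mem_cent i.2.1 hc hcR)) hu)
  obtain ⟨C, hCP, hfam, hnorm, -⟩ := exists_universal P N (fun i => core p (N i)) hQP
    (fun i g hg x hx => core_conj_self hg hx) (fun i B hB hrel => absorb_core h5 (hNR i)
      (h.cop.coprime_dvd_right (Subgroup.card_dvd_of_le (hNG i))) h.solv (hPN i)
      (fun x hx => inAll_sub h.norm h.cop (Or.inl h.solv) (mem_inter.1 hx) (hNG i) (hPN i hx)) (hQP i)
      (good_cent (hNgood i) (hPN i) hPp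
        fun g hg hgR x hx => inter_conj (Subgroup.le_normalizer (hNG i hg)) hgR hx) hB hrel)
  have hGn : G ≤ Subgroup.normalizer (C : Set X) := h.generated fun a ha ha1 g hg =>
    mem_normalizer_of_conj (hnorm ⟨a, ha, ha1⟩ g (hHN ⟨a, ha, ha1⟩ hg))
  have hCQ : C ≤ core p G := le_core (hCP.trans hPG)
    (fun g hg c hc => (Subgroup.mem_normalizer_iff.1 (hGn hg) c).1 hc) (hPp.to_le hCP)
  exact hV1 (eq_bot_iff.2 (((hfam V (centre_fam P P le_rfl inf_le_left)).trans hCQ).trans hQ.le))

end Cfsg.Agent.EquiQuad
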