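import Cfsg.Agent.Lib.EquiQuad.Involved
import Cfsg.Agent.Lib.EquiQuad.SectionRep
import Cfsg.Agent.Lib.RankThreeEss.Basic
import Cfsg.Agent.Lib.OddChar.OddTheorem
import Cfsg.Agent.Lib.PLocal.ZJ

/-!
Quadratic action on invariant `p`-subgroups under coprime operators whose fixed points have no section `PSL(2, p)`.
-/

set_option autoImplicit false
set_option linter.unusedSectionVars false
set_option linter.style.haveILetI false

open scoped commutatorElement

namespace Cfsg.Agent.EquiQuad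

open UniFamily QuadPair

universe u

variable {X : Type u} [Group X] [Finite X] {p : ℕ} [hp : Fact p.Prime]

local notation "SL2p" => Matrix.SpecialLinearGroup (Fin 2) (ZMod p)

/-- A normal `p`-subgroup has an elementary abelian top chief section. -/
theorem exists_step {B : Subgroup X} (hn : B.Normal) (hB : IsPGroup p B) (hne : B ≠ ⊥) :
    ∃ B1 : Subgroup X, B1.Normal ∧ B1 < B ∧ ⁅B, B⁆ ≤ B1 ∧ (∀ x ∈ B, x ^ p ∈ B1) ∧
      ∀ Y : Subgroup X, Y.Normal → Y < B → B1 ≤ Y → Y = B1 := by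
  haveI := hn
  obtain ⟨B1, ⟨hB1n, hB1lt⟩, hmax⟩ := Set.Finite.exists_maximal
    (Set.toFinite {Y : Subgroup X | Y.Normal ∧ Y < B}) ⟨⊥, inferInstance, bot_lt_iff_ne_bot.2 hne⟩
  haveI := hB1n
  have hmax' : ∀ Y : Subgroup X, Y.Normal → Y < B → B1 ≤ Y → Y = B1 := fun Y hY hlt hle =>
    le_antisymm (hmax ⟨hY, hlt⟩ hle) hle
  set D := (frattini B).map B.subtype with hD
  haveI : D.Normal := inferInstanceAs ((frattini B).map B.subtype).Normal
  have hDB : D ≤ B := Subgroup.map_subtype_le _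
  have hlt : B1 ⊔ D < B := by
    refine lt_of_le_of_ne (sup_le hB1lt.le hDB) fun e => hB1lt.ne (le_antisymm hB1lt.le ?_)
    have h1 : B1.subgroupOf B = ⊤ := by
      refine frattini_nongenerating (Subgroup.map_injective B.subtype_injective ?_)
      rw [Subgroup.map_sup, Subgroup.map_subgroupOf_eq_of_le hB1lt.le, ← hD, e, ← MonoidHom.range_eq_map,
        Subgroup.range_subtype]
    exact Subgroup.subgroupOf_eq_top.1 h1
  have hDle : D ≤ B1 := le_sup_right.trans (hmax' _ (Subgroup.sup_normal B1 D) hlt le_sup_left).le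
  refine ⟨B1, hB1n, hB1lt, ?_, fun x hx => hDle ⟨⟨x, hx⟩ ^ p, ?_, rfl⟩, hmax'⟩
  · refine Subgroup.commutator_le.2 fun x hx y hy => hDle ⟨⁅(⟨x, hx⟩ : B), ⟨y, hy⟩⁆, ?_, rfl⟩
    exact RankThreeEss.commutator_mem_frattini hB _ _
  · exact Cfsg.Agent.PGroupBasics.pow_mem_frattini hB (⟨x, hx⟩ : B)

theorem cr_top_section {B B1 : Subgroup X} (hn : B.Normal) (hlt : B1 < B)
    (hmax : ∀ Y : Subgroup X, Y.Normal → Y < B → B1 ≤ Y → Y = B1) (S : SecRep p B B1) :
    CR S.ρ.range := by
  intro W hW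
  have hpn : (S.pre W).Normal := by
    refine ⟨fun x hx g => ?_⟩
    obtain ⟨x, rfl⟩ : ∃ a : B, (a : X) = x := ⟨⟨x, S.pre_le W hx⟩, rfl⟩
    have hg := hn.conj_mem x x.2 g
    refine (S.mem_pre (W := W) ⟨_, hg⟩).2 ?_
    rw [← S.equiv' g x hg]
    exact hW _ ⟨g, rfl⟩ _ ((S.mem_pre x).1 hx)
  have hle : B1 ≤ S.pre W := fun x hx => (S.mem_pre (W := W) ⟨x, hlt.le hx⟩).2 (by
    rw [(S.ker' ⟨x, hlt.le hx⟩).2 hx]; exact zero_mem _)
  rcases eq_or_lt_of_le (S.pre_le W) with e | e
  · refine ⟨⊥, fun g _ v hv => ?_, ?_⟩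
    · rw [(Submodule.mem_bot (ZMod p)).1 hv, map_zero]; exact zero_mem _
    · have : W = ⊤ := eq_top_iff.2 fun v _ => by
        obtain ⟨x, rfl⟩ := S.surj v
        exact (S.mem_pre x).1 (e.ge x.2)
      exact this ▸ isCompl_top_bot
  · refine ⟨⊤, fun _ _ _ _ => trivial, ?_⟩
    have : W = ⊥ := (Submodule.eq_bot_iff W).2 fun v hv => by
      obtain ⟨x, rfl⟩ := S.surj v
      exact (S.ker' x).2 ((hmax _ hpn e hle).le ((S.mem_pre x).2 hv))
    exact this ▸ isCompl_bot_top

/-- A group with a quotient `SL(2, p)` modulo central elements has a section `PSL(2, p)`. -/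
theorem involves_of_central_ker {D : Type*} [Group D] {Y : Type*} [Group Y] (f : D →* Y) (φ : SL2p →* Y)
    (hle : φ.range ≤ f.range) (hker : φ.ker ≤ Subgroup.center SL2p) :
    Cfsg.Involves (SL2p ⧸ Subgroup.center SL2p) D := by
  let L : Subgroup D := φ.range.comap f
  let f' : L →* φ.range := (f.comp L.subtype).codRestrict φ.range fun x => x.2
  have hf' : Function.Surjective f' := fun ⟨y, hy⟩ => by
    obtain ⟨d, hd⟩ := hle hy
    exact ⟨⟨d, show f d ∈ φ.range from hd ▸ hy⟩, Subtype.ext hd⟩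
  let q : φ.range →* SL2p ⧸ Subgroup.center SL2p :=
    (QuotientGroup.map φ.ker (Subgroup.center SL2p) (MonoidHom.id SL2p) hker).comp
      (QuotientGroup.quotientKerEquivRange φ).symm.toMonoidHom
  have hq : Function.Surjective q := fun y => by
    obtain ⟨a, rfl⟩ := QuotientGroup.mk_surjective y
    exact ⟨QuotientGroup.quotientKerEquivRange φ (QuotientGroup.mk a), by simp [q]; rfl⟩
  exact PStable.involves_of_surjective (q.comp f') (hq.comp hf')

/-- A quadratic element lies in a normal subgroup acting as a `p`-group. -/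
theorem quad_normal (h5 : 5 ≤ p) {G R : Subgroup X} [G.Normal] (hcop : (Nat.card R).Coprime (Nat.card G))
    (hodd : Odd (Nat.card R))
    (hfix : ¬ Cfsg.Involves (SL2p ⧸ Subgroup.center SL2p) (G ⊓ Subgroup.centralizer (R : Set X) : Subgroup X))
    (B : Subgroup X) (hn : B.Normal) (hB : IsPGroup p B) {a : X} (ha : a ∈ G)
    (hq : ∀ b ∈ B, ⁅a, ⁅a, b⁆⁆ = 1) :
    ∃ N : Subgroup X, N.Normal ∧ N ≤ G ∧ a ∈ N ∧
      ∀ g ∈ N, ∃ e, g ^ p ^ e ∈ Subgroup.centralizer (B : Set X) := by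
  induction hc : Nat.card B using Nat.strong_induction_on generalizing B with
  | _ n ih =>
    by_cases hne : B = ⊥
    · refine ⟨G, inferInstance, le_rfl, ha, fun g _ => ⟨0, Subgroup.mem_centralizer_iff.2 fun x hx => ?_⟩⟩
      rw [hne, SetLike.mem_coe, Subgroup.mem_bot] at hx
      subst hx; simp
    obtain ⟨B1, hB1n, hlt, hcomm, hpow, hmax⟩ := exists_step hn hB hne
    obtain ⟨N1, hN1n, hN1G, haN1, hN1⟩ := ih (Nat.card B1)
      (hc ▸ Set.ncard_lt_ncard (SetLike.coe_ssubset_coe.2 hlt) (Set.toFinite _)) B1 hB1n (hB.to_le hlt.le)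
      (fun b hb => hq b (hlt.le hb)) rfl
    obtain ⟨S⟩ := exists_secRep (p := p) hn hB1n hcomm hpow
    have hsolv : Group.IsSolvable R := OddChar.oddSolvable R hodd
    have hρa : S.ρ a = 1 := by
      by_contra hne1
      have hnorm : R ≤ Subgroup.normalizer (G : Set X) := by rw [Subgroup.normalizer_eq_top]; exact le_top
      have hCR : CR (G.map S.ρ) := clifford (Subgroup.map_le_range _ _) (by
        rintro _ ⟨x, rfl⟩ _ ⟨g, hg, rfl⟩
        exact ⟨x * g * x⁻¹, Subgroup.Normal.conj_mem inferInstance g hg x, by simp⟩)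
        (cr_top_section hn hlt hmax S)
      obtain ⟨φ, hφ, hker⟩ := involved_of_quad h5 hCR
        ((Subgroup.map_mono hnorm).trans (Subgroup.le_normalizer_map S.ρ))
        ((hcop.coprime_dvd_left (Subgroup.card_map_dvd R S.ρ)).coprime_dvd_right (Subgroup.card_map_dvd G S.ρ))
        (Odd.of_dvd_nat hodd (Subgroup.card_map_dvd R S.ρ))
        (Group.isSolvable_of_surjective (f := S.ρ.subgroupMap R) (S.ρ.subgroupMap_surjective R))
        (Subgroup.mem_map_of_mem S.ρ ha)
        ((S.dev_sq_eq hn).2 fun x hx => by rw [hq x hx]; exact one_mem _) hne1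
      rw [← CoprimeAct.map_inf_centralizer S.ρ hnorm hcop (Or.inl hsolv)] at hφ
      refine hfix (involves_of_central_ker
        (S.ρ.comp (G ⊓ Subgroup.centralizer (R : Set X) : Subgroup X).subtype) φ ?_ hker)
      rw [MonoidHom.range_comp, Subgroup.range_subtype]
      exact hφ
    refine ⟨N1 ⊓ S.ρ.ker, inferInstance, inf_le_left.trans hN1G, ⟨haN1, hρa⟩, fun g hg => ?_⟩
    obtain ⟨e, he⟩ := hN1 g hg.1
    obtain ⟨f, hf⟩ := IsPGroup.iff_card.1 hB
    refine ⟨e + f, ?_⟩
    rw [pow_add, pow_mul]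
    set h := g ^ p ^ e with hh
    have htriv : ∀ x ∈ B, ⁅h, x⁆ ∈ B1 := (S.dev_eq hn).1 (by
      rw [show S.ρ h = 1 by rw [hh, map_pow, MonoidHom.mem_ker.1 hg.2, one_pow], dev_one])
    refine Subgroup.mem_centralizer_iff.2 fun b hb => ?_
    set c := ⁅h, b⁆ with hcdef
    have hcB1 : c ∈ B1 := htriv b hb
    have hhc : h * c = c * h := (Subgroup.mem_centralizer_iff.1 he c hcB1).symm
    have hn' : ∀ n : ℕ, h ^ n * b * (h ^ n)⁻¹ = c ^ n * b := by
      intro n
      induction n with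
      | zero => simp
      | succ n ihn =>
        have hcc : h * c ^ n = c ^ n * h := (Commute.pow_right (show Commute h c from hhc) n).eq
        calc h ^ (n + 1) * b * (h ^ (n + 1))⁻¹
            = h * (h ^ n * b * (h ^ n)⁻¹) * h⁻¹ := by rw [pow_succ']; group
          _ = h * c ^ n * b * h⁻¹ := by rw [ihn]; group
          _ = c ^ n * h * b * h⁻¹ := by rw [hcc]
          _ = c ^ (n + 1) * b := by rw [pow_succ, hcdef, commutatorElement_def]; group
    have h1 := hn' (p ^ f)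
    have h2 : c ^ p ^ f = 1 := by
      rw [← hf]; exact congrArg Subtype.val (pow_card_eq_one' (x := (⟨c, hlt.le hcB1⟩ : B)))
    rw [h2, one_mul, mul_inv_eq_iff_eq_mul] at h1
    exact h1.symm

end Cfsg.Agent.EquiQuad
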