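import Cfsg.Agent.Lib.Solvable.Coprime
import Cfsg.Agent.Lib.FiniteGroup.FittingPow
import Mathlib.GroupTheory.Sylow

/-!
Elements lying in all invariant Sylow subgroups of a group under coprime action, and the core of a subgroup.
-/

set_option autoImplicit false

namespace Cfsg.Agent.EquiQuad

open CoprimeAct

universe u

variable (p : ℕ) {X : Type u} [Group X]

/-- Membership of all invariant Sylow subgroups. -/
def InAllSyl (G R : Subgroup X) (x : X) : Prop :=
  ∀ P : Sylow p G, R ≤ Subgroup.normalizer (((P : Subgroup G).map G.subtype : Subgroup X) : Set X) →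
    x ∈ (P : Subgroup G).map G.subtype

/-- The `p`-core of a subgroup, inside the ambient group. -/
def core (G : Subgroup X) : Subgroup X := (Cfsg.pCore p G).map G.subtype

theorem core_le (G : Subgroup X) : core p G ≤ G := Subgroup.map_subtype_le _

variable {p} [hp : Fact p.Prime] [Finite X]

theorem core_isPGroup (G : Subgroup X) : IsPGroup p (core p G) :=
  (FiniteGroup.pCore_isPGroup p).map _

theorem le_core {G N : Subgroup X} (hN : N ≤ G) (hn : ∀ g ∈ G, ∀ n ∈ N, g * n * g⁻¹ ∈ N)
    (hP : IsPGroup p N) : N ≤ core p G := by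
  intro n hn'
  refine ⟨⟨n, hN hn'⟩, ?_, rfl⟩
  have hnorm : (N.subgroupOf G).Normal := ⟨fun y hy g => hn g.1 g.2 y.1 hy⟩
  have hp' : IsPGroup p (N.subgroupOf G) := hP.of_equiv (Subgroup.subgroupOfEquivOfLe hN).symm
  exact (le_sSup (show N.subgroupOf G ∈ {N : Subgroup G | N.Normal ∧ IsPGroup p N} from ⟨hnorm, hp'⟩) : _ ≤ Cfsg.pCore p G) (show (⟨n, hN hn'⟩ : G) ∈ N.subgroupOf G from hn')

theorem core_conj_self {G : Subgroup X} {g : X} (hg : g ∈ G) {n : X} (hn : n ∈ core p G) :
    g * n * g⁻¹ ∈ core p G := by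
  obtain ⟨m, hm, rfl⟩ := hn
  exact ⟨(⟨g, hg⟩ : G) * m * (⟨g, hg⟩ : G)⁻¹, (FiniteGroup.pCore_normal p).conj_mem m hm _, rfl⟩

/-- The normaliser of a subgroup normalises its core. -/
theorem core_conj {G : Subgroup X} {g : X} (hg : g ∈ Subgroup.normalizer (G : Set X)) {n : X}
    (hn : n ∈ core p G) : g * n * g⁻¹ ∈ core p G := by
  have hle : (core p G).map (MulAut.conj g).toMonoidHom ≤ core p G := by
    refine le_core ?_ ?_ ((core_isPGroup G).map _)
    · rintro _ ⟨y, hy, rfl⟩
      exact (Subgroup.mem_normalizer_iff.1 hg y).1 (core_le p G hy)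
    · rintro a ha _ ⟨y, hy, rfl⟩
      have ha' : g⁻¹ * a * g ∈ G := by
        rw [Subgroup.mem_normalizer_iff.1 hg (g⁻¹ * a * g)]
        simpa [mul_assoc] using ha
      refine ⟨g⁻¹ * a * g * y * (g⁻¹ * a * g)⁻¹, core_conj_self ha' hy, ?_⟩
      simp [mul_assoc]
  exact hle ⟨n, hn, rfl⟩

theorem mem_of_card_ge {G : Subgroup X} (P : Sylow p G) {Q : Subgroup X} (hQ : Q ≤ G)
    (hQp : IsPGroup p Q) (hle : (P : Subgroup G).map G.subtype ≤ Q) : Q = (P : Subgroup G).map G.subtype := by
  refine le_antisymm (fun q hq => ?_) hle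
  have h1 : Q.subgroupOf G = (P : Subgroup G) := by
    refine P.is_maximal' (hQp.of_equiv (Subgroup.subgroupOfEquivOfLe hQ).symm) ?_
    intro y hy
    exact hle ⟨y, hy, rfl⟩
  exact ⟨⟨q, hQ hq⟩, h1.le (show (⟨q, hQ hq⟩ : G) ∈ Q.subgroupOf G from hq), rfl⟩

/-- Membership of all invariant Sylow subgroups passes to invariant subgroups containing the element. -/
theorem inAll_sub {G R H : Subgroup X} {x : X} (hnorm : R ≤ Subgroup.normalizer (G : Set X))
    (hcop : (Nat.card R).Coprime (Nat.card G)) (hsolv : Group.IsSolvable R ∨ Group.IsSolvable G)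
    (h : InAllSyl p G R x) (hH : H ≤ G) (hxH : x ∈ H) : InAllSyl p H R x := by
  intro P hP
  have hPG : (P : Subgroup H).map H.subtype ≤ G := (Subgroup.map_subtype_le _).trans hH
  obtain ⟨T, hPT, hT⟩ := exists_invariant_sylow_ge hnorm hcop hsolv hPG (P.2.map _) hP
  have e : (T : Subgroup G).map G.subtype ⊓ H = (P : Subgroup H).map H.subtype :=
    mem_of_card_ge P inf_le_right ((T.2.map _).to_le inf_le_left) (le_inf hPT (Subgroup.map_subtype_le _))
  rw [← e]
  exact ⟨h T hT, hxH⟩

/-- A subgroup containing a Sylow subgroup has invariant Sylow subgroups which are Sylow subgroups. -/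
theorem inAll_big {G R H : Subgroup X} {x : X}
    (hnormH : R ≤ Subgroup.normalizer (H : Set X))
    (hcop : (Nat.card R).Coprime (Nat.card G)) (hsolv : Group.IsSolvable R ∨ Group.IsSolvable H)
    (h : InAllSyl p G R x) (hH : H ≤ G) (T : Sylow p G) (hT : (T : Subgroup G).map G.subtype ≤ H) :
    x ∈ H ∧ InAllSyl p H R x := by
  have key : ∀ P : Sylow p H, R ≤ Subgroup.normalizer (((P : Subgroup H).map H.subtype : Subgroup X) : Set X) →
      x ∈ (P : Subgroup H).map H.subtype := by
    intro P hP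
    have hPG : (P : Subgroup H).map H.subtype ≤ G := (Subgroup.map_subtype_le _).trans hH
    obtain ⟨S, hS⟩ := (((T.2.map G.subtype).of_equiv (Subgroup.subgroupOfEquivOfLe hT).symm)).exists_le_sylow
    obtain ⟨U, hU⟩ := ((P.2.map H.subtype).of_equiv (Subgroup.subgroupOfEquivOfLe hPG).symm).exists_le_sylow
    have c1 : Nat.card T ≤ Nat.card P := by
      rw [Sylow.card_eq_multiplicity P, ← Sylow.card_eq_multiplicity S]
      refine le_trans ?_ (Subgroup.card_le_of_le hS)
      rw [Nat.card_congr (Subgroup.subgroupOfEquivOfLe hT).toEquiv,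
        Subgroup.card_map_of_injective G.subtype_injective]
    have e : ((P : Subgroup H).map H.subtype).subgroupOf G = (U : Subgroup G) := by
      refine Subgroup.eq_of_le_of_card_ge hU ?_
      rw [Nat.card_congr (Subgroup.subgroupOfEquivOfLe hPG).toEquiv,
        Subgroup.card_map_of_injective H.subtype_injective]
      refine le_trans (le_of_eq ?_) c1
      rw [Sylow.card_eq_multiplicity U, Sylow.card_eq_multiplicity T]
    have e' : (U : Subgroup G).map G.subtype = (P : Subgroup H).map H.subtype := by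
      rw [← e, Subgroup.map_subgroupOf_eq_of_le hPG]
    have := h U (by rw [e']; exact hP)
    rwa [e'] at this
  obtain ⟨P, hP⟩ := exists_invariant_sylow hnormH (hcop.coprime_dvd_right (Subgroup.card_dvd_of_le hH)) hsolv p
  exact ⟨Subgroup.map_subtype_le _ (key P hP), key⟩

/-- Membership of all invariant Sylow subgroups passes to images. -/
theorem inAll_map {X' : Type*} [Group X'] [Finite X'] (f : X →* X') {G R : Subgroup X} {x : X}
    (hnorm : R ≤ Subgroup.normalizer (G : Set X)) (hcop : (Nat.card R).Coprime (Nat.card G))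
    (hsolv : Group.IsSolvable R ∨ Group.IsSolvable G) (h : InAllSyl p G R x) :
    InAllSyl p (G.map f) (R.map f) (f x) := by
  intro P' hP'
  obtain ⟨P, hP⟩ := exists_invariant_sylow hnorm hcop hsolv p
  let fG : G →* G.map f := f.subgroupMap G
  have hsurj : Function.Surjective fG := f.subgroupMap_surjective G
  set Q : Sylow p (G.map f) := P.mapSurjective hsurj
  have hnorm' : R.map f ≤ Subgroup.normalizer ((G.map f : Subgroup X') : Set X') :=
    (Subgroup.map_mono hnorm).trans (Subgroup.le_normalizer_map f)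
  have hQ : ((Q : Subgroup (G.map f)).map (G.map f).subtype) = ((P : Subgroup G).map G.subtype).map f := by
    show ((P : Subgroup G).map fG).map (G.map f).subtype = _
    rw [Subgroup.map_map, Subgroup.map_map]
    rfl
  have hQn : R.map f ≤ Subgroup.normalizer (((Q : Subgroup (G.map f)).map (G.map f).subtype : Subgroup X') : Set X') := by
    rw [hQ]
    exact (Subgroup.map_mono hP).trans (Subgroup.le_normalizer_map f)
  have hcop' : (Nat.card (R.map f)).Coprime (Nat.card (G.map f)) :=
    (hcop.coprime_dvd_left (Subgroup.card_map_dvd R f)).coprime_dvd_right (Subgroup.card_map_dvd G f)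
  have hsolv' : Group.IsSolvable (R.map f) ∨ Group.IsSolvable (G.map f) :=
    hsolv.imp (fun (hs : Group.IsSolvable R) => haveI := hs; Group.isSolvable_of_surjective (f.subgroupMap_surjective R))
      (fun (hs : Group.IsSolvable G) => haveI := hs; Group.isSolvable_of_surjective hsurj)
  obtain ⟨c, hc, hcP⟩ := invariant_sylow_conj hnorm' hcop' hsolv' Q P' hQn hP'
  have hc' : (c : X') ∈ G.map f ⊓ Subgroup.centralizer ((R.map f : Subgroup X') : Set X') := ⟨c.2, hc⟩
  rw [← map_inf_centralizer f hnorm hcop hsolv] at hc'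
  obtain ⟨d, hd, hdc⟩ := hc'
  set d' : G := ⟨d, hd.1⟩
  have hinv : R ≤ Subgroup.normalizer
      ((((MulAut.conj d' • P : Sylow p G) : Subgroup G).map G.subtype : Subgroup X) : Set X) := by
    intro r hr
    rw [Subgroup.mem_normalizer_iff]
    have hcr : ∀ y, d * (r * y * r⁻¹) * d⁻¹ = r * (d * y * d⁻¹) * r⁻¹ := fun y => by
      have e : r * d = d * r := Subgroup.mem_centralizer_iff.1 hd.2 r hr
      calc d * (r * y * r⁻¹) * d⁻¹ = (d * r) * y * (d * r)⁻¹ := by group
        _ = _ := by rw [← e]; group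
    have mem : ∀ z : X, z ∈ ((MulAut.conj d' • P : Sylow p G) : Subgroup G).map G.subtype ↔
        d⁻¹ * z * d ∈ (P : Subgroup G).map G.subtype := by
      intro z
      constructor
      · rintro ⟨_, ⟨y, hy, rfl⟩, rfl⟩
        exact ⟨y, hy, by simp [d', mul_assoc]⟩
      · rintro ⟨y, hy, e⟩
        refine ⟨MulAut.conj d' y, ⟨y, hy, rfl⟩, ?_⟩
        simp only [Subgroup.coe_subtype] at e
        simp [d', e, mul_assoc]
    intro z
    rw [mem, mem]
    have := Subgroup.mem_normalizer_iff.1 (hP hr) (d⁻¹ * z * d)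
    rw [this]
    have e : r * (d⁻¹ * z * d) * r⁻¹ = d⁻¹ * (r * z * r⁻¹) * d := by
      have := hcr (d⁻¹ * z * d)
      rw [show d * (d⁻¹ * z * d) * d⁻¹ = z by group] at this
      rw [← this]; group
    rw [e]
  obtain ⟨y, hy, hyx⟩ := h _ hinv
  have hxy : f x ∈ ((MulAut.conj c • Q : Sylow p (G.map f)) : Subgroup (G.map f)).map (G.map f).subtype := by
    refine ⟨fG y, ?_, ?_⟩
    · obtain ⟨z, hz, rfl⟩ := hy
      refine ⟨fG z, ⟨z, hz, rfl⟩, Subtype.ext ?_⟩
      show (c : X') * f z.1 * (c : X')⁻¹ = f (d * z.1 * d⁻¹)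
      rw [map_mul, map_mul, map_inv, hdc]
    · show f y.1 = f x
      rw [show y.1 = x from hyx]
  rw [hcP] at hxy
  exact hxy

end Cfsg.Agent.EquiQuad
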