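import Cfsg.Agent.Lib.EquiQuad.Fam
import Cfsg.Agent.Lib.EquiQuad.Sylow

/-!
A quadratic linear map lying in every invariant Sylow p-subgroup of a linear group under coprime action lies in the
p-core, for p at least five.
-/

set_option autoImplicit false
set_option linter.unusedSimpArgs false
set_option linter.unusedSectionVars false

namespace Cfsg.Agent.EquiQuad

open UniFamily QuadPair CoprimeAct SolvBasic

variable {p : ℕ} [hp : Fact p.Prime] {M : Type} [AddCommGroup M] [Module (ZMod p) M] [FiniteDimensional (ZMod p) M]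

local notation "F" => ZMod p
local notation "GLM" => LinearMap.GeneralLinearGroup (ZMod p) M
local notation "EndM" => M →ₗ[ZMod p] M

instance finite_gl : Finite (LinearMap.GeneralLinearGroup (ZMod p) M) := by
  haveI : Finite M := Module.finite_of_finite (ZMod p)
  haveI : Finite (M →ₗ[ZMod p] M) :=
    Finite.of_injective (fun f : M →ₗ[ZMod p] M => (f : M → M)) DFunLike.coe_injective
  exact Finite.of_injective (fun g : LinearMap.GeneralLinearGroup (ZMod p) M => (g : M →ₗ[ZMod p] M))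
    Units.val_injective

/-- The restriction to an invariant subspace. -/
def resW (W : Submodule (ZMod p) M) :
    ↥(Frame.stab W) →* LinearMap.GeneralLinearGroup (ZMod p) W :=
  (show ↥(Frame.stab W) →* (W →ₗ[ZMod p] W) from
    { toFun := fun g => (g.1 : M →ₗ[ZMod p] M).restrict fun v hv =>
        (show W.map (g.1 : M →ₗ[ZMod p] M) = W from g.2).le ⟨v, hv, rfl⟩
      map_one' := LinearMap.ext fun v => Subtype.ext rfl
      map_mul' := fun g h => LinearMap.ext fun v => Subtype.ext rfl }).toHomUnits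

/-- The action on the quotient by an invariant subspace. -/
def quoW (W : Submodule (ZMod p) M) :
    ↥(Frame.stab W) →* LinearMap.GeneralLinearGroup (ZMod p) (M ⧸ W) :=
  (show ↥(Frame.stab W) →* ((M ⧸ W) →ₗ[ZMod p] (M ⧸ W)) from
    { toFun := fun g => W.mapQ W (g.1 : M →ₗ[ZMod p] M) fun v hv =>
        (show W.map (g.1 : M →ₗ[ZMod p] M) = W from g.2).le ⟨v, hv, rfl⟩
      map_one' := by
        refine LinearMap.ext fun v => ?_
        obtain ⟨m, rfl⟩ := Submodule.Quotient.mk_surjective W v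
        rfl
      map_mul' := fun g h => by
        refine LinearMap.ext fun v => ?_
        obtain ⟨m, rfl⟩ := Submodule.Quotient.mk_surjective W v
        rfl }).toHomUnits

theorem dev_resW {W : Submodule F M} (g : Frame.stab W) (v : W) : ((dev (resW W g)) v : M) = dev g.1 v.1 := by
  rw [dev_apply, dev_apply, AddSubgroupClass.coe_sub]; rfl

theorem dev_quoW {W : Submodule F M} (g : Frame.stab W) (m : M) :
    dev (quoW W g) (Submodule.Quotient.mk m) = Submodule.Quotient.mk (dev g.1 m) := by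
  rw [dev_apply, dev_apply, Submodule.Quotient.mk_sub]; rfl

theorem conj_min {G : Subgroup GLM} {r : GLM} (hr : r ∈ Subgroup.normalizer (G : Set GLM)) {s : GLM}
    (hs : s ∈ Min G) : r * s * r⁻¹ ∈ Min G := by
  have hd := dev_conj r s
  refine min_of_le hs ((Subgroup.mem_normalizer_iff.1 hr s).1 (min_mem hs)) ?_ ?_ ?_
  · rw [hd]
    simp only [mul_assoc, tail_mul (show ((r⁻¹ : GLM) : EndM) * (r : EndM) = 1 from r.inv_mul), one_mul,
      tail_mul (sq_zero hs), zero_mul, mul_zero]
  · rw [hd]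
    intro h
    refine dev_ne_zero hs ?_
    have e := congrArg (fun q => ((r⁻¹ : GLM) : EndM) * q * (r : EndM)) h
    simpa [mul_assoc, tail_mul (show ((r⁻¹ : GLM) : EndM) * (r : EndM) = 1 from r.inv_mul)] using e
  · rw [hd, range_conj]; exact Submodule.finrank_map_le _ _

/-- The statement of the theorem for one group. -/
def Concl (G R : Subgroup (LinearMap.GeneralLinearGroup (ZMod p) M)) : Prop :=
  R ≤ Subgroup.normalizer (G : Set (LinearMap.GeneralLinearGroup (ZMod p) M)) →
    (Nat.card R).Coprime (Nat.card G) → (Group.IsSolvable R ∨ Group.IsSolvable G) →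
    ∀ x ∈ G, dev x * dev x = 0 → InAllSyl p G R x → x ∈ core p G

theorem solv_sub {G R H : Subgroup GLM} (hsolv : Group.IsSolvable R ∨ Group.IsSolvable G) (hH : H ≤ G) :
    Group.IsSolvable R ∨ Group.IsSolvable H :=
  hsolv.imp id fun h => @isSolvable_of_le _ _ _ G hH h

theorem pgroup_of_pow {G : Subgroup GLM} (h : ∀ g ∈ G, ∃ k : ℕ, g ^ p ^ k = 1) : IsPGroup p G := fun g => by
  obtain ⟨k, hk⟩ := h g.1 g.2
  exact ⟨k, Subtype.ext hk⟩

/-- The reducible case. -/
theorem reducible_case {G R : Subgroup GLM} (hnorm : R ≤ Subgroup.normalizer (G : Set GLM))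
    (hcop : (Nat.card R).Coprime (Nat.card G)) (hsolv : Group.IsSolvable R ∨ Group.IsSolvable G)
    {x : GLM} (hx : x ∈ G) (hsq : dev x * dev x = 0) (hall : InAllSyl p G R x)
    (W : Submodule F M) (hG : G ≤ Frame.stab W) (hR : R ≤ Frame.stab W)
    (h1 : Concl ((G.subgroupOf (Frame.stab W)).map (resW W)) ((R.subgroupOf (Frame.stab W)).map (resW W)))
    (h2 : Concl ((G.subgroupOf (Frame.stab W)).map (quoW W)) ((R.subgroupOf (Frame.stab W)).map (quoW W))) :
    x ∈ core p G := by
  classical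
  set G' := G.subgroupOf (Frame.stab W) with hG'
  set R' := R.subgroupOf (Frame.stab W) with hR'
  have hnorm' : R' ≤ Subgroup.normalizer (G' : Set (Frame.stab W)) := fun r hr => by
    rw [Subgroup.mem_normalizer_iff]
    intro y
    exact Subgroup.mem_normalizer_iff.1 (hnorm hr) y.1
  have eG : Nat.card G' = Nat.card G := Nat.card_congr (Subgroup.subgroupOfEquivOfLe hG).toEquiv
  have eR : Nat.card R' = Nat.card R := Nat.card_congr (Subgroup.subgroupOfEquivOfLe hR).toEquiv
  have hcop' : (Nat.card R').Coprime (Nat.card G') := by rwa [eG, eR]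
  have hsolv' : Group.IsSolvable R' ∨ Group.IsSolvable G' :=
    hsolv.imp (fun (h : Group.IsSolvable R) => haveI := h
        Group.isSolvable_of_surjective (f := (Subgroup.subgroupOfEquivOfLe hR).symm.toMonoidHom)
          (Subgroup.subgroupOfEquivOfLe hR).symm.surjective)
      (fun (h : Group.IsSolvable G) => haveI := h
        Group.isSolvable_of_surjective (f := (Subgroup.subgroupOfEquivOfLe hG).symm.toMonoidHom)
          (Subgroup.subgroupOfEquivOfLe hG).symm.surjective)
  set x' : Frame.stab W := ⟨x, hG hx⟩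
  have hx' : x' ∈ G' := hx
  have hall' : InAllSyl p G' R' x' := by
    intro P hP
    have hPG : ((P : Subgroup G').map G'.subtype).map (Frame.stab W).subtype ≤ G := by
      rintro _ ⟨y, ⟨z, -, rfl⟩, rfl⟩; exact z.2
    set Q := ((P : Subgroup G').map G'.subtype).map (Frame.stab W).subtype with hQ
    have hQn : R ≤ Subgroup.normalizer (Q : Set GLM) := by
      intro r hr
      exact Subgroup.le_normalizer_map (H := (P : Subgroup G').map G'.subtype) (Frame.stab W).subtype
        ⟨⟨r, hR hr⟩, hP (show (⟨r, hR hr⟩ : Frame.stab W) ∈ R' from hr), rfl⟩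
    obtain ⟨T, hQT, hT⟩ := exists_invariant_sylow_ge hnorm hcop hsolv hPG ((P.2.map _).map _) hQn
    have hT' : ((T : Subgroup G).map G.subtype).subgroupOf (Frame.stab W) ≤ G' := fun y hy => by
      obtain ⟨z, -, e⟩ := hy
      show y.1 ∈ G
      rw [show y.1 = z.1 from e.symm]; exact z.2
    have := mem_of_card_ge P hT' ((T.2.map _).of_equiv (Subgroup.subgroupOfEquivOfLe
      ((Subgroup.map_subtype_le _).trans hG)).symm) (fun y hy => hQT ⟨y, hy, rfl⟩)
    rw [← this]
    exact hall T hT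
  have himg : ∀ {X' : Type} [Group X'] [Finite X'] (f : Frame.stab W →* X'),
      R'.map f ≤ Subgroup.normalizer ((G'.map f : Subgroup X') : Set X') ∧
      (Nat.card (R'.map f)).Coprime (Nat.card (G'.map f)) ∧
      (Group.IsSolvable (R'.map f) ∨ Group.IsSolvable (G'.map f)) ∧ f x' ∈ G'.map f ∧
      InAllSyl p (G'.map f) (R'.map f) (f x') := fun f => by
    refine ⟨(Subgroup.map_mono hnorm').trans (Subgroup.le_normalizer_map f),
      (hcop'.coprime_dvd_left (Subgroup.card_map_dvd R' f)).coprime_dvd_right (Subgroup.card_map_dvd G' f),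
      hsolv'.imp (fun (hs : Group.IsSolvable R') => haveI := hs
          Group.isSolvable_of_surjective (f.subgroupMap_surjective R'))
        (fun (hs : Group.IsSolvable G') => haveI := hs
          Group.isSolvable_of_surjective (f.subgroupMap_surjective G')),
      ⟨x', hx', rfl⟩, inAll_map f hnorm' hcop' hsolv' hall'⟩
  obtain ⟨a1, a2, a3, a4, a5⟩ := himg (resW W)
  have m1 := h1 a1 a2 a3 _ a4 (LinearMap.ext fun v => Subtype.ext (by
    rw [Module.End.mul_apply, dev_resW, dev_resW]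
    exact LinearMap.congr_fun hsq v.1)) a5
  obtain ⟨b1, b2, b3, b4, b5⟩ := himg (quoW W)
  have m2 := h2 b1 b2 b3 _ b4 (LinearMap.ext fun v => by
    obtain ⟨m, rfl⟩ := Submodule.Quotient.mk_surjective W v
    rw [Module.End.mul_apply, dev_quoW, dev_quoW, ← Module.End.mul_apply, show dev x'.1 * dev x'.1 = 0 from hsq]
    rfl) b5
  -- the elements acting inside the cores on both sections
  set N1 := core p (G'.map (resW W))
  set N2 := core p (G'.map (quoW W))
  let N : Subgroup GLM := (G' ⊓ N1.comap (resW W) ⊓ N2.comap (quoW W)).map (Frame.stab W).subtype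
  have hNG : N ≤ G := by rintro _ ⟨y, hy, rfl⟩; exact hy.1.1
  refine le_core hNG ?_ ?_ ⟨x', ⟨⟨hx', m1⟩, m2⟩, rfl⟩
  · rintro g hg _ ⟨y, ⟨⟨hy, hy1⟩, hy2⟩, rfl⟩
    set g' : Frame.stab W := ⟨g, hG hg⟩
    have hg' : g' ∈ G' := hg
    refine ⟨g' * y * g'⁻¹, ⟨⟨G'.mul_mem (G'.mul_mem hg' hy) (G'.inv_mem hg'), ?_⟩, ?_⟩, rfl⟩
    · show resW W (g' * y * g'⁻¹) ∈ N1
      rw [map_mul, map_mul, map_inv]
      exact core_conj_self (show resW W g' ∈ G'.map (resW W) from ⟨g', hg', rfl⟩) hy1
    · show quoW W (g' * y * g'⁻¹) ∈ N2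
      rw [map_mul, map_mul, map_inv]
      exact core_conj_self (show quoW W g' ∈ G'.map (quoW W) from ⟨g', hg', rfl⟩) hy2
  · refine pgroup_of_pow ?_
    rintro _ ⟨y, ⟨⟨hy, hy1⟩, hy2⟩, rfl⟩
    obtain ⟨k1, hk1⟩ := core_isPGroup _ ⟨_, hy1⟩
    obtain ⟨k2, hk2⟩ := core_isPGroup _ ⟨_, hy2⟩
    set k := k1 + k2
    have e1 : resW W (y ^ p ^ k) = 1 := by
      rw [map_pow, pow_add, pow_mul, show resW W y ^ p ^ k1 = 1 from congrArg Subtype.val hk1, one_pow]
    have e2 : quoW W (y ^ p ^ k) = 1 := by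
      rw [map_pow, show p ^ k = p ^ k2 * p ^ k1 by rw [← pow_add, add_comm], pow_mul,
        show quoW W y ^ p ^ k2 = 1 from congrArg Subtype.val hk2, one_pow]
    refine ⟨k + 1, ?_⟩
    show y.1 ^ p ^ (k + 1) = 1
    rw [pow_succ, pow_mul, ← SubgroupClass.coe_pow]
    generalize y ^ p ^ k = h at e1 e2
    have d1 : ∀ v, dev h.1 v ∈ W := fun v => by
      rw [← Submodule.Quotient.mk_eq_zero, ← dev_quoW, e2, dev_one]; rfl
    have d2 : ∀ v ∈ W, dev h.1 v = 0 := fun v hv => by
      have := dev_resW h ⟨v, hv⟩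
      rw [e1, dev_one] at this
      exact this.symm
    have hh : dev h.1 * dev h.1 = 0 := LinearMap.ext fun v => d2 _ (d1 v)
    exact dev_eq_zero (by rw [dev_pow hh, ZMod.natCast_self, zero_smul])

/-- The completely reducible case. -/
theorem cr_case (h5 : 5 ≤ p) {G R : Subgroup GLM} (hG : CR G) (hnorm : R ≤ Subgroup.normalizer (G : Set GLM))
    (hcop : (Nat.card R).Coprime (Nat.card G)) (hsolv : Group.IsSolvable R ∨ Group.IsSolvable G)
    {x : GLM} (hx : x ∈ G) (hsq : dev x * dev x = 0) (hall : InAllSyl p G R x)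
    (ih : ∀ H : Subgroup GLM, Nat.card H < Nat.card G → Concl H R) : x = 1 := by
  classical
  by_contra hx1
  obtain ⟨s0, hs0⟩ := exists_min hx hsq (fun h => hx1 (dev_eq_zero h))
  obtain ⟨T, hT⟩ := exists_invariant_sylow hnorm hcop hsolv p
  set T' := (T : Subgroup G).map G.subtype with hT'
  have hT'G : T' ≤ G := Subgroup.map_subtype_le _
  set T0 := T' ⊓ gen0 G with hT0d
  have hT0p : IsPGroup p T0 := (T.2.map _).to_le inf_le_left
  have hmax : ∀ P : Subgroup GLM, IsPGroup p P → T0 ≤ P → P ≤ gen0 G → P = T0 := by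
    intro P hP hle hPg
    have hPG : P ≤ G := hPg.trans (gen0_le G)
    obtain ⟨S, hS⟩ := (hP.of_equiv (Subgroup.subgroupOfEquivOfLe hPG).symm).exists_le_sylow
    obtain ⟨g, hg⟩ := MulAction.exists_smul_eq G T S
    refine (Subgroup.eq_of_le_of_card_ge hle ?_).symm
    have hsub : P ≤ T0.map (MulAut.conj g.1).toMonoidHom := by
      intro y hy
      have hyS : (⟨y, hPG hy⟩ : G) ∈ (S : Subgroup G) := hS hy
      rw [← hg] at hyS
      obtain ⟨z, hz, hzy⟩ := hyS
      refine ⟨z.1, ⟨⟨z, hz, rfl⟩, ?_⟩, congrArg Subtype.val hzy⟩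
      have e : z.1 = g.1⁻¹ * y * g.1⁻¹⁻¹ := by
        have := congrArg Subtype.val hzy
        simp only [MulDistribMulAction.toMonoidEnd_apply, MulDistribMulAction.toMonoidHom_apply] at this
        rw [← show g.1 * z.1 * g.1⁻¹ = y from this]; group
      rw [e]
      exact gen0_normal_self (inv_mem g.2) (hPg hy)
    calc Nat.card P ≤ Nat.card (T0.map (MulAut.conj g.1).toMonoidHom) := Subgroup.card_le_of_le hsub
      _ = Nat.card T0 := Subgroup.card_map_of_injective (MulAut.conj g.1).injective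
  set A := FixC G T0 with hAd
  have hminN : ∀ g ∈ Subgroup.normalizer (G : Set GLM), ∀ s ∈ Min G, g * s * g⁻¹ ∈ Min G :=
    fun g hg s hs => conj_min hg hs
  have hgenN : ∀ g ∈ Subgroup.normalizer (G : Set GLM), ∀ y ∈ gen0 G, g * y * g⁻¹ ∈ gen0 G :=
    fun g hg y hy => gen0_normal (hminN g hg) hy
  -- normalisers of the Sylow subgroup permute its fixed classes
  have hAinv : ∀ g ∈ Subgroup.normalizer (G : Set GLM), g ∈ Subgroup.normalizer (T' : Set GLM) →
      ∀ C ∈ A, act g C ∈ A := by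
    rintro g hgG hgT C ⟨⟨y, hy, rfl⟩, hC⟩
    refine ⟨⟨g * y * g⁻¹, hminN g hgG y hy, key_conj g y⟩, fun u hu => ?_⟩
    have hu' : g⁻¹ * u * g⁻¹⁻¹ ∈ T0 :=
      ⟨(Subgroup.mem_normalizer_iff.1 (inv_mem hgT) u).1 hu.1, hgenN _ (inv_mem hgG) u hu.2⟩
    have := congrArg (act g) (hC _ hu')
    rwa [← act_mul, show g * (g⁻¹ * u * g⁻¹⁻¹) = u * g by group, act_mul] at this
  have himg : ∀ (H : Subgroup GLM) (S : Set (Submodule F M × Submodule F M)),
      (∀ g ∈ H, ∀ C ∈ S, act g C ∈ S) → ∀ g ∈ H, act g '' S = S := fun H S h g hg => by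
    refine Set.Subset.antisymm ?_ fun C hC => ⟨_, h _ (inv_mem hg) C hC, act_act_inv g C⟩
    rintro _ ⟨C, hC, rfl⟩; exact h g hg C hC
  have hTN : T' ≤ Subgroup.normalizer (G : Set GLM) := hT'G.trans Subgroup.le_normalizer
  have hTA : ∀ g ∈ T', act g '' A = A :=
    himg T' A fun g hg => hAinv g (hTN hg) (Subgroup.le_normalizer hg)
  have hRA : ∀ g ∈ R, act g '' A = A := himg R A fun g hg => hAinv g (hnorm hg) (hT hg)
  -- an invariant opposite family
  letI : MulAction GLM (Set (Submodule F M × Submodule F M)) :=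
    { smul := fun g S => act g '' S
      one_smul := fun S => by show act 1 '' S = S; simp [act_one]
      mul_smul := fun g h S => by
        show act (g * h) '' S = act g '' (act h '' S)
        rw [← Set.image_comp, show act (g * h) = act g ∘ act h from funext (act_mul g h)] }
  have hT0A : ∀ g ∈ T0, act g '' A = A := fun g hg => hTA g hg.1
  have hfam : ∀ g ∈ Subgroup.normalizer (G : Set GLM), act g '' A = A → ∀ B, OppFam G A B →
      OppFam G A (act g '' B) := by
    intro g hgG hgA B hB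
    refine ⟨?_, ?_, ?_, ?_⟩
    · rintro _ ⟨D, hD, rfl⟩
      obtain ⟨y, hy, rfl⟩ := hB.isKey D hD
      exact ⟨g * y * g⁻¹, hminN g hgG y hy, key_conj g y⟩
    · intro C hC
      obtain ⟨C', hC', rfl⟩ := hgA.ge hC
      obtain ⟨D, hD, ho⟩ := hB.total C' hC'
      exact ⟨_, ⟨D, hD, rfl⟩, opp_act g ho⟩
    · rintro _ ⟨D, hD, rfl⟩
      obtain ⟨C, hC, ho⟩ := hB.opp D hD
      exact ⟨_, hgA.subset ⟨C, hC, rfl⟩, opp_act g ho⟩
    · rintro _ ⟨D, hD, rfl⟩ _ ⟨D', hD', rfl⟩ hs
      have := same_map (g := g⁻¹) (hgenN _ (inv_mem hgG)) hs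
      rw [act_inv_act, act_inv_act] at this
      rw [hB.inj D hD D' hD' this]
  have hT0N : T0 ≤ Subgroup.normalizer (G : Set GLM) := inf_le_left.trans hTN
  have hRT0 : R ≤ Subgroup.normalizer (T0 : Set GLM) := by
    intro r hr
    rw [Subgroup.mem_normalizer_iff]
    intro u
    refine ⟨fun hu => ⟨(Subgroup.mem_normalizer_iff.1 (hT hr) u).1 hu.1, hgenN r (hnorm hr) u hu.2⟩, fun hu => ?_⟩
    refine ⟨(Subgroup.mem_normalizer_iff.1 (hT hr) u).2 hu.1, ?_⟩
    have := hgenN r⁻¹ (inv_mem (hnorm hr)) _ hu.2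
    rwa [show r⁻¹ * (r * u * r⁻¹) * r⁻¹⁻¹ = u by group] at this
  have hT0sol : Group.IsSolvable T0 := by
    haveI := hT0p.isNilpotent
    infer_instance
  obtain ⟨⟨B, hB, hBR⟩, -⟩ := SchurZ.glauberman hRT0
    (hcop.coprime_dvd_right (Subgroup.card_dvd_of_le (inf_le_left.trans hT'G))) (Or.inr hT0sol)
    {B | OppFam G A B} (exists_oppFam h5 hG hT0p inf_le_right hmax)
    (fun r hr B hB => hfam r (hnorm hr) (hRA r hr) B hB)
    (fun u hu B hB => hfam u (hT0N hu) (hT0A u hu) B hB)
    (fun B hB B' hB' => oppFam_trans h5 hG hT0p inf_le_right hmax hB hB')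
  replace hB : OppFam G A B := hB
  -- both stabilisers are proper, invariant, and large
  have hRnorm : ∀ S : Set (Submodule F M × Submodule F M), (∀ r ∈ R, act r '' S = S) →
      R ≤ Subgroup.normalizer (setStab G S : Set GLM) := by
    intro S hS r hr
    have key : ∀ r ∈ R, ∀ g ∈ setStab G S, r * g * r⁻¹ ∈ setStab G S := by
      intro r hr g hg
      refine ⟨(Subgroup.mem_normalizer_iff.1 (hnorm hr) g).1 hg.1, ?_⟩
      rw [show act (r * g * r⁻¹) = act r ∘ act g ∘ act r⁻¹ from funext fun C => by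
        rw [act_mul, act_mul]; rfl, Set.image_comp, Set.image_comp, hS _ (inv_mem hr), hg.2, hS r hr]
    rw [Subgroup.mem_normalizer_iff]
    intro g
    refine ⟨key r hr g, fun h => ?_⟩
    have := key _ (inv_mem hr) _ h
    rwa [show r⁻¹ * (r * g * r⁻¹) * r⁻¹⁻¹ = g by group] at this
  obtain ⟨CA, hCA, -⟩ := fixC_total h5 hG hT0p inf_le_right hmax hs0
  obtain ⟨CB, hCB, -⟩ := hB.total CA hCA
  obtain ⟨g0, hg0, hg0A⟩ := oppFam_swap h5 hG hT0p inf_le_right hmax hB
  have hnA : setStab G A ≠ G := setStab_ne (B := A) h5 hG hT0p inf_le_right hmax (fun C (hC : C ∈ A) => hC.1)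
    (fun C hC D hD h => fixC_unique h5 hG hT0p inf_le_right hmax hC hD h) ⟨CA, hCA⟩
  have hnB : setStab G B ≠ G := setStab_ne h5 hG hT0p inf_le_right hmax hB.isKey hB.inj ⟨CB, hCB⟩
  have hlt : ∀ H : Subgroup GLM, H ≤ G → H ≠ G → Nat.card H < Nat.card G := fun H hle hne =>
    lt_of_not_ge fun h => hne (Subgroup.eq_of_le_of_card_ge hle h)
  have hTAle : (T : Subgroup G).map G.subtype ≤ setStab G A := fun u hu => ⟨hT'G hu, hTA u hu⟩
  set g0' : G := ⟨g0, gen0_le G hg0⟩
  have hTBle : ((MulAut.conj g0' • T : Sylow p G) : Subgroup G).map G.subtype ≤ setStab G B := by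
    rintro _ ⟨_, ⟨u, hu, rfl⟩, rfl⟩
    refine ⟨(MulAut.conj g0' u).2, ?_⟩
    show act (g0 * u.1 * g0⁻¹) '' B = B
    have e : act g0⁻¹ '' B = A := by
      rw [← hg0A, ← Set.image_comp, show act g0⁻¹ ∘ act g0 = id from funext (act_inv_act g0), Set.image_id]
    rw [show act (g0 * u.1 * g0⁻¹) = act g0 ∘ act u.1 ∘ act g0⁻¹ from funext fun C => by
        rw [act_mul, act_mul]; rfl, Set.image_comp, Set.image_comp, e, hTA u.1 ⟨u, hu, rfl⟩, hg0A]
  have hcore : ∀ H : Subgroup GLM, H ≤ G → H ≠ G → R ≤ Subgroup.normalizer (H : Set GLM) →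
      x ∈ H → InAllSyl p H R x → x ∈ core p H := fun H hle hne hn hxH hin =>
    ih H (hlt H hle hne) hn (hcop.coprime_dvd_right (Subgroup.card_dvd_of_le hle)) (solv_sub hsolv hle) x hxH hsq hin
  have hleA : setStab G A ≤ G := fun g hg => hg.1
  have hleB : setStab G B ≤ G := fun g hg => hg.1
  obtain ⟨xA, iA⟩ := inAll_big (hRnorm A hRA) hcop (solv_sub hsolv hleA) hall hleA T hTAle
  obtain ⟨xB, iB⟩ := inAll_big (hRnorm B hBR) hcop (solv_sub hsolv hleB) hall hleB _ hTBle
  have cA := hcore _ hleA hnA (hRnorm A hRA) xA iA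
  have cB := hcore _ hleB hnB (hRnorm B hBR) xB iB
  have hcen := core_centralises h5 hG hT0p inf_le_right hmax hB
    (Q := core p (setStab G A) ⊓ core p (setStab G B)) ((core_isPGroup _).to_le inf_le_left)
    (inf_le_left.trans (core_le p _)) (inf_le_right.trans (core_le p _))
    (fun g hg q hq => ⟨core_conj_self hg.1 hq.1, core_conj_self hg.2 hq.2⟩) ⟨cA, cB⟩ hsq
  -- the centraliser of the generated group
  set C := G ⊓ Subgroup.centralizer (gen0 G : Set GLM) with hC
  have hxC : x ∈ C := ⟨hx, Subgroup.mem_centralizer_iff.2 fun g hg => (hcen g hg).symm⟩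
  have hCn : ∀ g ∈ Subgroup.normalizer (G : Set GLM), ∀ c ∈ C, g * c * g⁻¹ ∈ C := by
    intro g hg c hc
    refine ⟨(Subgroup.mem_normalizer_iff.1 hg c).1 hc.1, Subgroup.mem_centralizer_iff.2 fun y hy => ?_⟩
    have h1 := Subgroup.mem_centralizer_iff.1 hc.2 _ (hgenN g⁻¹ (inv_mem hg) y hy)
    rw [inv_inv] at h1
    calc y * (g * c * g⁻¹) = g * (g⁻¹ * y * g * c) * g⁻¹ := by group
      _ = _ := by rw [h1]; group
  have hCN : Subgroup.normalizer (G : Set GLM) ≤ Subgroup.normalizer (C : Set GLM) := by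
    intro g hg
    rw [Subgroup.mem_normalizer_iff]
    refine fun c => ⟨hCn g hg c, fun h => ?_⟩
    have := hCn _ (inv_mem hg) _ h
    rwa [show g⁻¹ * (g * c * g⁻¹) * g⁻¹⁻¹ = c by group] at this
  have hne : C ≠ G := by
    intro h
    obtain ⟨fr, hfs⟩ := frame_at h5 hG hs0
    have ht : fr.t ∈ C := h.ge (stab1_le G (min_mem fr.ht))
    have hcomm : fr.s * fr.t = fr.t * fr.s :=
      Subgroup.mem_centralizer_iff.1 ht.2 _ (by rw [hfs]; exact subset_gen0 G hs0)
    have hab : fr.a * fr.b = fr.b * fr.a := sub_eq_zero.1 (zc_of_commute hcomm)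
    refine dev_ne_zero fr.hs ?_
    rw [← fr.aba]
    show fr.a * fr.b * fr.a = 0
    rw [hab, mul_assoc, fr.haa, mul_zero]
  have hCG : C ≤ G := inf_le_left
  have cC := hcore C hCG hne (hnorm.trans hCN) hxC (inAll_sub hnorm hcop hsolv hall hCG hxC)
  have hnorm0 := noUni_of_CR hG (core p C) ((core_le p C).trans hCG) (unipotent_of_pgroup (core_isPGroup C))
    fun g hg n hn => core_conj (hCN (Subgroup.le_normalizer hg)) hn
  rw [hnorm0] at cC
  exact hx1 (Subgroup.mem_bot.1 cC)

/-- A quadratic element of all invariant Sylow subgroups lies in the core. -/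
theorem mem_core (h5 : 5 ≤ p) : ∀ (d : ℕ) (M : Type) [AddCommGroup M] [Module (ZMod p) M]
    [FiniteDimensional (ZMod p) M], Module.finrank (ZMod p) M = d →
    ∀ G R : Subgroup (LinearMap.GeneralLinearGroup (ZMod p) M), Concl G R := by
  intro d
  induction d using Nat.strong_induction_on with
  | _ d ihd =>
    intro M _ _ _ hd G
    induction h : Nat.card G using Nat.strong_induction_on generalizing G with
    | _ n ihn =>
      intro R hnorm hcop hsolv x hx hsq hall
      by_cases hW : ∃ W : Submodule (ZMod p) M, W ≠ ⊥ ∧ W ≠ ⊤ ∧ G ≤ Frame.stab W ∧ R ≤ Frame.stab W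
      · obtain ⟨W, hb, ht, hGW, hRW⟩ := hW
        refine reducible_case hnorm hcop hsolv hx hsq hall W hGW hRW ?_ ?_
        · exact ihd _ (hd ▸ Submodule.finrank_lt ht) W rfl _ _
        · refine ihd _ ?_ (M ⧸ W) rfl _ _
          have h1 := W.finrank_quotient_add_finrank
          have h2 : 0 < Module.finrank (ZMod p) W := by
            rw [pos_iff_ne_zero]; exact fun h => hb (Submodule.finrank_eq_zero.1 h)
          omega
      · have hCR : CR (G ⊔ R) := by
          intro S hS
          have hstab : G ⊔ R ≤ Frame.stab S := fun g hg => Frame.mem_stab fun v hv => hS g hg v hv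
          have hbot : Stable (G ⊔ R) (⊥ : Submodule (ZMod p) M) := fun g _ v hv => by
            rw [(Submodule.mem_bot (ZMod p)).1 hv, map_zero]; exact zero_mem _
          by_cases h0 : S = ⊥
          · exact ⟨⊤, fun _ _ _ _ => trivial, h0 ▸ isCompl_bot_top⟩
          · by_cases h1 : S = ⊤
            · exact ⟨⊥, hbot, h1 ▸ isCompl_top_bot⟩
            · exact absurd ⟨S, h0, h1, le_sup_left.trans hstab, le_sup_right.trans hstab⟩ hW
        have hG : CR G := clifford le_sup_left (fun g hg n hn =>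
          (Subgroup.mem_normalizer_iff.1 (sup_le Subgroup.le_normalizer hnorm hg) n).1 hn) hCR
        rw [cr_case h5 hG hnorm hcop hsolv hx hsq hall (fun H hlt => ihn _ (h ▸ hlt) H rfl R)]
        exact one_mem _

end Cfsg.Agent.EquiQuad
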