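import Cfsg.Agent.Lib.EquiQuad.RootFixed
import Cfsg.Agent.Lib.EquiQuad.Key
import Cfsg.Agent.Lib.PStable.Involved
import Mathlib.GroupTheory.NoncommPiCoprod

/-!
A completely reducible linear group with a quadratic element, under operators of odd order prime to it, has a
section `PSL(2, p)` in its fixed points.
-/

set_option autoImplicit false
set_option linter.unusedSectionVars false
set_option linter.unusedSimpArgs false

namespace Cfsg.Agent.EquiQuad

open UniFamily QuadPair CoprimeAct

variable {p : ℕ} [hp : Fact p.Prime] {M : Type} [AddCommGroup M] [Module (ZMod p) M]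
  [FiniteDimensional (ZMod p) M]

local notation "F" => ZMod p
local notation "GLM" => LinearMap.GeneralLinearGroup (ZMod p) M
local notation "EndM" => M →ₗ[ZMod p] M
local notation "SL2p" => Matrix.SpecialLinearGroup (Fin 2) (ZMod p)

/-- The linear map of a matrix along a normalised pair. -/
def pairLin (a b : M →ₗ[ZMod p] M) (x : Matrix (Fin 2) (Fin 2) (ZMod p)) : M →ₗ[ZMod p] M :=
  (1 - a * b - b * a) + (x 0 0 • (a * b) + x 0 1 • a + x 1 0 • b + x 1 1 • (b * a))

theorem pairLin_mul {a b : EndM} (haa : a * a = 0) (hbb : b * b = 0) (haba : a * b * a = a) (hbab : b * a * b = b)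
    (x y : Matrix (Fin 2) (Fin 2) (ZMod p)) : pairLin a b (x * y) = pairLin a b x * pairLin a b y := by
  rw [mul_assoc] at haba hbab
  have haba' : ∀ w, a * (b * (a * w)) = a * w := fun w => by rw [← mul_assoc b, ← mul_assoc, haba]
  have hbab' : ∀ w, b * (a * (b * w)) = b * w := fun w => by rw [← mul_assoc a, ← mul_assoc, hbab]
  simp only [pairLin, Matrix.mul_apply, Fin.sum_univ_two, mul_add, add_mul, mul_sub, sub_mul, one_mul, mul_one,
    smul_mul_assoc, mul_smul_comm, smul_smul, mul_assoc, haa, hbb, haba, hbab, haba', hbab', tail_mul haa,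
    tail_mul hbb, mul_zero, zero_mul, smul_zero, add_smul]
  module

theorem pairLin_one (a b : EndM) : pairLin a b 1 = 1 := by
  simp [pairLin, Matrix.one_apply]

/-- The representation of `SL(2, p)` along a normalised pair. -/
def pairHom {s t : LinearMap.GeneralLinearGroup (ZMod p) M} (haa : dev s * dev s = 0) (hbb : dev t * dev t = 0)
    (h1 : dev s * dev t * dev s = dev s) (h2 : dev t * dev s * dev t = dev t) :
    Matrix.SpecialLinearGroup (Fin 2) (ZMod p) →* LinearMap.GeneralLinearGroup (ZMod p) M :=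
  (show Matrix.SpecialLinearGroup (Fin 2) (ZMod p) →* (M →ₗ[ZMod p] M) from
    { toFun := fun x => pairLin (dev s) (dev t) x.1
      map_one' := pairLin_one _ _
      map_mul' := fun x y => pairLin_mul haa hbb h1 h2 x.1 y.1 }).toHomUnits

section Pair

variable {s t : LinearMap.GeneralLinearGroup (ZMod p) M} (haa : dev s * dev s = 0) (hbb : dev t * dev t = 0)
  (h1 : dev s * dev t * dev s = dev s) (h2 : dev t * dev s * dev t = dev t)

theorem pairHom_val (x : SL2p) : ((pairHom haa hbb h1 h2 x : GLM) : EndM) = pairLin (dev s) (dev t) x.1 := rfl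

theorem pairHom_upp : pairHom haa hbb h1 h2 (PStable.upp 1) = s := by
  apply Units.ext
  rw [pairHom_val, pairLin, PStable.upp_val, coe_dev s]
  simp
  abel

theorem pairHom_low : pairHom haa hbb h1 h2 (PStable.low 1) = t := by
  apply Units.ext
  rw [pairHom_val, pairLin, PStable.low_val, coe_dev t]
  simp
  abel

theorem pairHom_mem {H : Subgroup GLM} (hs : s ∈ H) (ht : t ∈ H) (x : SL2p) :
    pairHom haa hbb h1 h2 x ∈ H := by
  have : H.comap (pairHom haa hbb h1 h2) = ⊤ := PStable.eq_top_of_root _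
    (show _ ∈ H by rw [pairHom_upp]; exact hs) (show _ ∈ H by rw [pairHom_low]; exact ht)
  exact this.ge (Subgroup.mem_top x)

theorem pairHom_injective (ha0 : dev s ≠ 0) : Function.Injective (pairHom haa hbb h1 h2) := by
  refine (injective_iff_map_eq_one _).2 fun x hx => Subtype.ext ?_
  have e : pairLin (dev s) (dev t) x.1 = 1 := congrArg Units.val hx
  rw [mul_assoc] at h1 h2
  set a := dev s
  set b := dev t
  have hb0 : b ≠ 0 := fun e => ha0 (by rw [← h1, e, zero_mul, mul_zero])
  have hab0 : a * b ≠ 0 := fun e => ha0 (by rw [← h1, ← mul_assoc, e, zero_mul])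
  have hba0 : b * a ≠ 0 := fun e => ha0 (by rw [← h1, e, mul_zero])
  have h1' : ∀ w, a * (b * (a * w)) = a * w := fun w => by rw [← mul_assoc b, ← mul_assoc, h1]
  have h2' : ∀ w, b * (a * (b * w)) = b * w := fun w => by rw [← mul_assoc a, ← mul_assoc, h2]
  have k := fun l r => congrArg (fun z => l * z * r) e
  have k00 := k (a * b) (a * b)
  have k01 := k (a * b) (b * a)
  have k10 := k (b * a) (a * b)
  have k11 := k (b * a) (b * a)
  simp only [pairLin, mul_add, add_mul, mul_sub, sub_mul, one_mul, mul_one, smul_mul_assoc, mul_smul_comm,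
    mul_assoc, haa, hbb, h1, h2, h1', h2', tail_mul haa, tail_mul hbb, mul_zero, zero_mul, smul_zero, sub_zero,
    add_zero, zero_add, sub_self] at k00 k01 k10 k11
  have hone : ∀ (c : F) (z : EndM), z ≠ 0 → c • z = z → c = 1 := fun c z hz h =>
    sub_eq_zero.1 ((smul_eq_zero.1 (show (c - 1) • z = 0 by rw [sub_smul, h, one_smul, sub_self])).resolve_right hz)
  ext i j
  fin_cases i <;> fin_cases j
  · simpa using hone _ _ hab0 k00
  · simpa using (smul_eq_zero.1 k01).resolve_right ha0
  · simpa using (smul_eq_zero.1 k10).resolve_right hb0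
  · simpa using hone _ _ hba0 k11

end Pair

/-- A quadratic element in a completely reducible group leaves a section `PSL(2, p)` in the fixed points of
operators of odd order prime to the group. -/
theorem involved_of_quad (h5 : 5 ≤ p) {G R : Subgroup GLM} (hG : CR G)
    (hnorm : R ≤ Subgroup.normalizer (G : Set GLM)) (hcop : (Nat.card R).Coprime (Nat.card G))
    (hodd : Odd (Nat.card R)) (hsolv : Group.IsSolvable R) {x : GLM} (hx : x ∈ G) (hsq : dev x * dev x = 0)
    (hx1 : x ≠ 1) :
    ∃ φ : SL2p →* GLM, φ.range ≤ G ⊓ Subgroup.centralizer (R : Set GLM) ∧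
      φ.ker ≤ Subgroup.center SL2p := by
  classical
  haveI : Finite M := Module.finite_of_finite F
  haveI : Finite (Submodule F M) := Finite.of_injective (fun S : Submodule F M => (S : Set M)) SetLike.coe_injective
  obtain ⟨s0, hs0⟩ := exists_min hx hsq (fun h => hx1 (dev_eq_zero h))
  obtain ⟨T, hT⟩ := exists_invariant_sylow hnorm hcop (Or.inl hsolv) p
  set T' := (T : Subgroup G).map G.subtype with hT'
  have hT'G : T' ≤ G := Subgroup.map_subtype_le _
  set T0 := T' ⊓ gen0 G
  have hT0p : IsPGroup p T0 := (T.2.map _).to_le inf_le_left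
  have hgenN : ∀ g ∈ Subgroup.normalizer (G : Set GLM), ∀ y ∈ gen0 G, g * y * g⁻¹ ∈ gen0 G :=
    fun g hg y hy => gen0_normal (fun s hs => conj_min hg hs) hy
  have hmax : ∀ P : Subgroup GLM, IsPGroup p P → T0 ≤ P → P ≤ gen0 G → P = T0 := by
    intro P hP hle hPg
    have hPG : P ≤ G := hPg.trans (gen0_le G)
    obtain ⟨S, hS⟩ := (hP.of_equiv (Subgroup.subgroupOfEquivOfLe hPG).symm).exists_le_sylow
    obtain ⟨g, hg⟩ := MulAction.exists_smul_eq G T S
    refine (Subgroup.eq_of_le_of_card_ge hle ?_).symm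
    have hsub : P ≤ T0.map (MulAut.conj g.1).toMonoidHom := by
      intro y hy
      have hyS : (⟨y, hPG hy⟩ : G) ∈ (S : Subgroup G) := hS hy
      rw [← hg] at hyS
      obtain ⟨z, hz, hzy⟩ := hyS
      refine ⟨z.1, ⟨⟨z, hz, rfl⟩, ?_⟩, congrArg Subtype.val hzy⟩
      have e : z.1 = g.1⁻¹ * y * g.1⁻¹⁻¹ := by
        have := congrArg Subtype.val hzy
        simp only [MulDistribMulAction.toMonoidEnd_apply, MulDistribMulAction.toMonoidHom_apply] at this
        rw [← show g.1 * z.1 * g.1⁻¹ = y from this]; group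
      rw [e]
      exact gen0_normal_self (inv_mem g.2) (hPg hy)
    calc Nat.card P ≤ Nat.card (T0.map (MulAut.conj g.1).toMonoidHom) := Subgroup.card_le_of_le hsub
      _ = Nat.card T0 := Subgroup.card_map_of_injective (MulAut.conj g.1).injective
  set A := FixC G T0
  have hAinv : ∀ g ∈ Subgroup.normalizer (G : Set GLM), g ∈ Subgroup.normalizer (T0 : Set GLM) →
      ∀ C ∈ A, act g C ∈ A := by
    rintro g hgG hgT C ⟨⟨y, hy, rfl⟩, hC⟩
    refine ⟨⟨g * y * g⁻¹, conj_min hgG hy, key_conj g y⟩, fun u hu => ?_⟩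
    have hu' : g⁻¹ * u * g ∈ T0 := by
      have := (Subgroup.mem_normalizer_iff.1 (inv_mem hgT) u).1 hu
      rwa [inv_inv] at this
    have := congrArg (act g) (hC _ hu')
    rwa [← act_mul, show g * (g⁻¹ * u * g) = u * g by group, act_mul] at this
  have himg : ∀ (H : Subgroup GLM) (S : Set (Submodule F M × Submodule F M)),
      (∀ g ∈ H, ∀ C ∈ S, act g C ∈ S) → ∀ g ∈ H, act g '' S = S := fun H S h g hg => by
    refine Set.Subset.antisymm ?_ fun C hC => ⟨_, h _ (inv_mem hg) C hC, act_act_inv g C⟩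
    rintro _ ⟨C, hC, rfl⟩; exact h g hg C hC
  have hRT0 : R ≤ Subgroup.normalizer (T0 : Set GLM) := fun r hr => Subgroup.mem_normalizer_fintype fun u hu =>
    ⟨(Subgroup.mem_normalizer_iff.1 (hT hr) u).1 hu.1, hgenN r (hnorm hr) u hu.2⟩
  have hT0N : T0 ≤ Subgroup.normalizer (G : Set GLM) := inf_le_left.trans (hT'G.trans Subgroup.le_normalizer)
  have hRA : ∀ g ∈ R, act g '' A = A := himg R A fun g hg => hAinv g (hnorm hg) (hRT0 hg)
  have hT0A : ∀ g ∈ T0, act g '' A = A := himg T0 A fun g hg => hAinv g (hT0N hg) (Subgroup.le_normalizer hg)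
  letI : MulAction GLM (Set (Submodule F M × Submodule F M)) :=
    { smul := fun g S => act g '' S
      one_smul := fun S => by show act 1 '' S = S; simp [act_one]
      mul_smul := fun g h S => by
        show act (g * h) '' S = act g '' (act h '' S)
        rw [← Set.image_comp, show act (g * h) = act g ∘ act h from funext (act_mul g h)] }
  have hfam : ∀ g ∈ Subgroup.normalizer (G : Set GLM), act g '' A = A → ∀ B, OppFam G A B →
      OppFam G A (act g '' B) := by
    intro g hgG hgA B hB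
    refine ⟨?_, ?_, ?_, ?_⟩
    · rintro _ ⟨D, hD, rfl⟩
      obtain ⟨y, hy, rfl⟩ := hB.isKey D hD
      exact ⟨g * y * g⁻¹, conj_min hgG hy, key_conj g y⟩
    · intro C hC
      obtain ⟨C', hC', rfl⟩ := hgA.ge hC
      obtain ⟨D, hD, ho⟩ := hB.total C' hC'
      exact ⟨_, ⟨D, hD, rfl⟩, opp_act g ho⟩
    · rintro _ ⟨D, hD, rfl⟩
      obtain ⟨C, hC, ho⟩ := hB.opp D hD
      exact ⟨_, hgA.subset ⟨C, hC, rfl⟩, opp_act g ho⟩
    · rintro _ ⟨D, hD, rfl⟩ _ ⟨D', hD', rfl⟩ hs
      have := same_map (g := g⁻¹) (hgenN _ (inv_mem hgG)) hs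
      rw [act_inv_act, act_inv_act] at this
      rw [hB.inj D hD D' hD' this]
  obtain ⟨⟨B, hB, hBR⟩, -⟩ := SchurZ.glauberman hRT0
    (hcop.coprime_dvd_right (Subgroup.card_dvd_of_le (inf_le_left.trans hT'G))) (Or.inl hsolv)
    {B | OppFam G A B} (exists_oppFam h5 hG hT0p inf_le_right hmax)
    (fun r hr B hB => hfam r (hnorm hr) (hRA r hr) B hB)
    (fun u hu B hB => hfam u (hT0N hu) (hT0A u hu) B hB)
    (fun B hB B' hB' => oppFam_trans h5 hG hT0p inf_le_right hmax hB hB')
  replace hB : OppFam G A B := hB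
  -- a class, its opposite, and a fixed pair for its stabiliser
  obtain ⟨C, hC, -⟩ := fixC_total h5 hG hT0p inf_le_right hmax hs0
  obtain ⟨D, hD, ho⟩ := hB.total C hC
  set S : Subgroup GLM :=
    { carrier := {r | r ∈ R ∧ act r C = C}
      one_mem' := ⟨one_mem _, act_one C⟩
      mul_mem' := fun {g h} hg hh => ⟨mul_mem hg.1 hh.1, by rw [act_mul, hh.2, hg.2]⟩
      inv_mem' := fun {g} hg => ⟨inv_mem hg.1, by conv_lhs => rw [← hg.2, act_inv_act]⟩ } with hS
  have hSR : S ≤ R := fun _ h => h.1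
  have hSD : ∀ r ∈ S, act r D = D := fun r hr => by
    have hD' : act r D ∈ B := (hBR r hr.1).subset ⟨D, hD, rfl⟩
    have ho' : Opp C (act r D) := by
      have := opp_act r ho
      rwa [hr.2] at this
    exact hB.inj _ hD' D hD (same_trans (same_symm (oppFam_same h5 hG (fun E hE => hE.1) hB hC hD' ho'))
      (oppFam_same h5 hG (fun E hE => hE.1) hB hC hD ho))
  obtain ⟨sC, hsC, hkC⟩ := hC.1
  obtain ⟨tD, htD, hkD⟩ := hB.isKey D hD
  haveI : Group.IsSolvable R := hsolv
  obtain ⟨u, hu, v, hv, huk, hvk, huv, hvu, hfix⟩ := fixed_pair h5 (R := S) hG (hSR.trans hnorm)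
    (hcop.coprime_dvd_left (Subgroup.card_dvd_of_le hSR))
    (Odd.of_dvd_nat hodd (Subgroup.card_dvd_of_le hSR)) (@SolvBasic.isSolvable_of_le _ _ _ R hSR hsolv)
    (fun r hr y hy => conj_min (hnorm hr.1) hy) hsC htD (by rw [hkC, hkD]; exact ho)
    (fun r hr => by rw [hkC, hkD]; exact ⟨hr.2, hSD r hr⟩)
  rw [hkC] at huk
  rw [hkD] at hvk
  -- the orbit of the class
  let ι := {E : Submodule F M × Submodule F M // ∃ r ∈ R, act r C = E}
  haveI : Fintype ι := Fintype.ofFinite ι
  have hsel : ∀ i : ι, ∃ r ∈ R, act r C = i.1 := fun i => i.2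
  choose rep hrep hrepC using hsel
  let cj : GLM → GLM → GLM := fun g y => g * y * g⁻¹
  have hconj : ∀ r ∈ R, ∀ i : ι, act r C = i.1 → cj r u = cj (rep i) u ∧ cj r v = cj (rep i) v := by
    intro r hr i hi
    have hm : (rep i)⁻¹ * r ∈ S := ⟨mul_mem (inv_mem (hrep i)) hr, by
      rw [act_mul, hi, ← hrepC i, act_inv_act]⟩
    obtain ⟨e1, e2⟩ := hfix _ hm
    constructor
    · calc cj r u = rep i * (((rep i)⁻¹ * r) * u) * r⁻¹ := by simp only [cj]; group
        _ = _ := by rw [e1]; simp only [cj]; group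
    · calc cj r v = rep i * (((rep i)⁻¹ * r) * v) * r⁻¹ := by simp only [cj]; group
        _ = _ := by rw [e2]; simp only [cj]; group
  have hdev : ∀ {g a b : GLM}, dev a * dev b * dev a = dev a →
      dev (cj g a) * dev (cj g b) * dev (cj g a) = dev (cj g a) := fun {g a b} h => by
    simp only [cj]
    rw [dev_conj, dev_conj]
    simp only [mul_assoc, tail_mul g.inv_mul, one_mul]
    conv_rhs => rw [← h]
    simp only [mul_assoc]
  have hsqc : ∀ {g a : GLM}, dev a * dev a = 0 → dev (cj g a) * dev (cj g a) = 0 := fun {g a} h => by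
    simp only [cj]
    rw [dev_conj]
    simp only [mul_assoc, tail_mul g.inv_mul, one_mul, tail_mul h, zero_mul, mul_zero]
  let ψ : ι → SL2p →* GLM := fun i => pairHom (hsqc (g := rep i) (sq_zero hu)) (hsqc (g := rep i) (sq_zero hv))
    (hdev huv) (hdev hvu)
  have hcomm : Pairwise fun i j => ∀ y z, Commute (ψ i y) (ψ j z) := by
    intro i j hij y z
    have hN : ∀ k : ι, rep k ∈ Subgroup.normalizer (G : Set GLM) := fun k => hnorm (hrep k)
    have hk : ∀ k : ι, key (cj (rep k) u) = k.1 ∧ key (cj (rep k) v) = act (rep k) D := fun k =>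
      ⟨by rw [key_conj, huk, hrepC], by rw [key_conj, hvk]⟩
    have hmem : ∀ k : ι, cj (rep k) u ∈ Min G ∧ cj (rep k) v ∈ Min G := fun k =>
      ⟨conj_min (hN k) hu, conj_min (hN k) hv⟩
    have hsame : ∀ k : ι, Same G k.1 (act (rep k) D) := fun k => by
      have h1 := same_map (g := rep k) (hgenN _ (hN k)) (oppFam_same h5 hG (fun E hE => hE.1) hB hC hD ho)
      rwa [hrepC] at h1
    have hA : ∀ k : ι, k.1 ∈ A := fun k => (hRA _ (hrep k)).subset ⟨C, hC, hrepC k⟩
    have hd : ¬ Same G i.1 j.1 := fun h => hij (Subtype.ext (fixC_unique h5 hG hT0p inf_le_right hmax (hA i) (hA j) h))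
    have hcl : ∀ a ∈ ({cj (rep i) u, cj (rep i) v} : Set GLM), ∀ b ∈ ({cj (rep j) u, cj (rep j) v} : Set GLM),
        a * b = b * a := by
      intro a ha b hb
      have ha' : a ∈ Min G ∧ Same G i.1 (key a) := by
        rcases ha with rfl | rfl
        · exact ⟨(hmem i).1, by rw [(hk i).1]; exact same_refl _ _⟩
        · exact ⟨(hmem i).2, by rw [(hk i).2]; exact hsame i⟩
      have hb' : b ∈ Min G ∧ Same G j.1 (key b) := by
        rcases hb with rfl | rfl
        · exact ⟨(hmem j).1, by rw [(hk j).1]; exact same_refl _ _⟩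
        · exact ⟨(hmem j).2, by rw [(hk j).2]; exact hsame j⟩
      exact commute_of_diff h5 hG ha'.1 hb'.1 fun h => hd (same_trans (same_trans ha'.2 h) (same_symm hb'.2))
    have h2 : ∀ a ∈ ({cj (rep i) u, cj (rep i) v} : Set GLM), ψ j z ∈ Subgroup.centralizer {a} := fun a ha =>
      pairHom_mem _ _ _ _ (Subgroup.mem_centralizer_singleton_iff.2 (hcl a ha _ (Or.inl rfl)).symm)
        (Subgroup.mem_centralizer_singleton_iff.2 (hcl a ha _ (Or.inr rfl)).symm) z
    exact Subgroup.mem_centralizer_singleton_iff.1 (pairHom_mem _ _ _ _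
      (H := Subgroup.centralizer {ψ j z})
      (Subgroup.mem_centralizer_singleton_iff.2 (Subgroup.mem_centralizer_singleton_iff.1 (h2 _ (Or.inl rfl))).symm)
      (Subgroup.mem_centralizer_singleton_iff.2 (Subgroup.mem_centralizer_singleton_iff.1 (h2 _ (Or.inr rfl))).symm) y)
  let Φ : (ι → SL2p) →* GLM := MonoidHom.noncommPiCoprod ψ hcomm
  let diag : SL2p →* (ι → SL2p) := Pi.monoidHom fun _ => MonoidHom.id SL2p
  refine ⟨Φ.comp diag, le_inf ?_ ?_, ?_⟩
  · rintro _ ⟨y, rfl⟩
    refine Subgroup.noncommProd_mem _ (t := Finset.univ) (f := fun i => ψ i (diag y i))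
      (fun _ _ _ _ h => hcomm h _ _) fun i _ => ?_
    exact pairHom_mem _ _ _ _ ((Subgroup.mem_normalizer_iff.1 (hnorm (hrep i)) u).1 (min_mem hu))
      ((Subgroup.mem_normalizer_iff.1 (hnorm (hrep i)) v).1 (min_mem hv)) _
  · rintro _ ⟨y, rfl⟩
    refine Subgroup.mem_centralizer_iff.2 fun r hr => ?_
    let π : ι → ι := fun i => ⟨act r i.1, r * rep i, mul_mem hr (hrep i), by rw [act_mul, hrepC]⟩
    have hπ : Function.Bijective π := Finite.injective_iff_bijective.1 fun i j h =>
      Subtype.ext (act_injective r (congrArg Subtype.val h))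
    let re : (ι → SL2p) →* (ι → SL2p) := Pi.monoidHom fun i => Pi.evalMonoidHom _ ((Equiv.ofBijective π hπ).symm i)
    have hψ : ∀ i z, r * ψ i z * r⁻¹ = ψ (π i) z := by
      intro i
      obtain ⟨e1, e2⟩ := hconj (r * rep i) (mul_mem hr (hrep i)) (π i) (by rw [act_mul, hrepC])
      have hroot : ∀ a b : GLM, cj (r * rep i) a = b → r * cj (rep i) a * r⁻¹ = b := fun a b h => by
        rw [← h]; simp only [cj]; group
      have : MonoidHom.eqLocus ((MulAut.conj r).toMonoidHom.comp (ψ i)) (ψ (π i)) = ⊤ :=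
        PStable.eq_top_of_root _
          (show r * ψ i (PStable.upp 1) * r⁻¹ = ψ (π i) (PStable.upp 1) by
            simp only [ψ, pairHom_upp]; exact hroot _ _ e1)
          (show r * ψ i (PStable.low 1) * r⁻¹ = ψ (π i) (PStable.low 1) by
            simp only [ψ, pairHom_low]; exact hroot _ _ e2)
      exact fun z => this.ge (Subgroup.mem_top z)
    have hΦ : (MulAut.conj r).toMonoidHom.comp Φ = Φ.comp re := by
      refine MonoidHom.pi_ext fun i z => ?_
      have hre : re (Pi.mulSingle i z) = Pi.mulSingle (π i) z := by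
        funext j
        show (Pi.mulSingle i z : ι → SL2p) ((Equiv.ofBijective π hπ).symm j) = _
        by_cases hj : j = π i
        · subst hj
          rw [Pi.mulSingle_eq_same, show (Equiv.ofBijective π hπ).symm (π i) = i from
            (Equiv.ofBijective π hπ).symm_apply_apply i, Pi.mulSingle_eq_same]
        · rw [Pi.mulSingle_eq_of_ne hj, Pi.mulSingle_eq_of_ne]
          intro h
          exact hj (by rw [← h]; exact ((Equiv.ofBijective π hπ).apply_symm_apply j).symm)
      show r * Φ (Pi.mulSingle i z) * r⁻¹ = Φ (re (Pi.mulSingle i z))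
      rw [hre]
      simp only [Φ, MonoidHom.noncommPiCoprod_mulSingle]
      exact hψ i z
    have h := DFunLike.congr_fun hΦ (diag y)
    have h' : r * Φ (diag y) * r⁻¹ = Φ (diag y) := h
    exact mul_inv_eq_iff_eq_mul.1 h'
  · intro z hz
    obtain ⟨i⟩ : Nonempty ι := ⟨⟨C, 1, one_mem _, act_one C⟩⟩
    refine Subgroup.mem_center_iff.2 fun g => ?_
    have hf : Pi.mulSingle i (g * z * g⁻¹ * z⁻¹) =
        Pi.mulSingle i g * diag z * (Pi.mulSingle i g)⁻¹ * (diag z)⁻¹ := by
      funext j
      by_cases hj : j = i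
      · subst hj; simp [diag]; rfl
      · simp [Pi.mulSingle_eq_of_ne hj, diag]
    have h1 : ψ i (g * z * g⁻¹ * z⁻¹) = 1 := by
      rw [← MonoidHom.noncommPiCoprod_mulSingle (ϕ := ψ) (hcomm := hcomm) i, hf]
      show Φ _ = 1
      rw [map_mul, map_mul, map_mul, map_inv, map_inv, show Φ (diag z) = 1 from hz]
      group
    have h2 := pairHom_injective _ _ _ _ (dev_ne_zero (conj_min (hnorm (hrep i)) hu))
      (h1.trans (map_one (ψ i)).symm)
    rw [mul_inv_eq_one, mul_inv_eq_iff_eq_mul] at h2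
    exact h2

end Cfsg.Agent.EquiQuad
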