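import Cfsg.Agent.Lib.EquiQuad.Lower

/-!
Transitivity of the elements trivial on the flag on the opposite classes, the decomposition of the stabiliser of a
class, and block diagonal elements realising the multiplications on the coordinates.
-/

set_option autoImplicit false
set_option linter.unusedSimpArgs false

namespace Cfsg.Agent.EquiQuad

open UniFamily QuadPair

variable {p : ℕ} [hp : Fact p.Prime] {M : Type} [AddCommGroup M] [Module (ZMod p) M]

local notation "F" => ZMod p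
local notation "GLM" => LinearMap.GeneralLinearGroup (ZMod p) M
local notation "EndM" => M →ₗ[ZMod p] M

namespace Frame

variable {G K : Subgroup (LinearMap.GeneralLinearGroup (ZMod p) M)} (fr : Frame G K)

theorem up_comm_s {α β γ : EndM} (h : fr.IsA α) (k : fr.IsB β) (l : fr.IsC γ) {g : GLM}
    (hg : (g : EndM) = fr.up α β γ) : g * fr.s = fr.s * g := by
  apply Units.ext
  simp only [Units.val_mul, hg, coe_dev fr.s, up, mul_add, add_mul, one_mul, mul_one, mul_assoc, h.ra, h.la,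
    k.la, l.la, fr.haa, tail_mul k.la, tail_mul l.la, mul_zero, zero_mul]
  abel

/-- The corner test for being trivial on the flag. -/
theorem exists_up {g : GLM} (h1 : dev g * fr.a = 0) (h2 : fr.a * dev g = 0)
    (h3 : (1 - fr.a * fr.b) * dev g * (1 - fr.b * fr.a) = 0) :
    ∃ α β γ, fr.IsA α ∧ fr.IsB β ∧ fr.IsC γ ∧ (g : EndM) = fr.up α β γ := by
  set D := dev g
  refine ⟨fr.a * fr.b * D * (1 - fr.a * fr.b - fr.b * fr.a), (1 - fr.a * fr.b) * D * fr.b,
    fr.a * fr.b * D * fr.b, ⟨?_, ?_, ?_⟩, ⟨?_, ?_, ?_⟩, ⟨?_, ?_⟩, ?_⟩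
  all_goals try
    simp only [mul_add, add_mul, mul_sub, sub_mul, one_mul, mul_one, mul_assoc, fr.haa, fr.hbb, fr.haba,
      fr.hbab, fr.haba', fr.hbab', h1, h2, tail_mul h1, tail_mul h2, tail_mul fr.haa, tail_mul fr.hbb,
      mul_zero, zero_mul, sub_self, sub_zero]
  rw [coe_dev g, up]
  simp only [mul_add, add_mul, mul_sub, sub_mul, one_mul, mul_one, mul_assoc] at h3 ⊢
  rw [show dev g = D from rfl]
  have h1' : D * (fr.a * fr.b) = 0 := by rw [← mul_assoc, h1, zero_mul]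
  linear_combination (norm := abel) h3

/-- The same frame with another partner of `s`. -/
def withPartner (r : LinearMap.GeneralLinearGroup (ZMod p) M) (hr : r ∈ Min G) (hrK : r ∈ K)
    (h1 : dev fr.s * dev r * dev fr.s = dev fr.s) (h2 : dev r * dev fr.s * dev r = dev r) : Frame G K :=
  { fr with t := r, ht := hr, htK := hrK, aba := h1, bab := h2 }

variable [FiniteDimensional (ZMod p) M]

/-- The elements trivial on the flag are transitive on the classes opposite to that of `s`. -/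
theorem trans {t' : GLM} (ht' : t' ∈ Min G) (htK : t' ∈ K) (ho : Opp (key fr.s) (key t')) :
    ∃ g ∈ K, ∃ α β γ, fr.IsA α ∧ fr.IsB β ∧ fr.IsC γ ∧ (g : EndM) = fr.up α β γ ∧
      act g (key fr.t) = key t' := by
  obtain ⟨r, hr, hrk, h1, h2⟩ := exists_partner_mem fr.h5 fr.hs ht' ho
  have hrK : r ∈ K := fr.hmem r hr t' ht' htK hrk
  set fr' := fr.withPartner r hr hrK h1 h2 with hfr'
  set g := fr.z * fr'.z with hgd
  have hgK : g ∈ K := mul_mem fr.z_mem fr'.z_mem
  obtain ⟨α, β, γ0, hA, hB, hC0, hgv⟩ : ∃ α β γ, fr.IsA α ∧ fr.IsB β ∧ fr.IsC γ ∧ (g : EndM) = fr.up α β γ := by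
    have e1 : dev g = -((2 : F) • (fr.a * fr.b + fr.b * fr.a)) - (2 : F) • (fr.a * dev r + dev r * fr.a)
        + (2 : F) • (2 : F) • ((fr.a * fr.b + fr.b * fr.a) * (fr.a * dev r + dev r * fr.a)) := by
      rw [dev, Units.val_mul, fr.z_val, fr'.z_val]
      show (1 - (2 : F) • (fr.a * fr.b + fr.b * fr.a)) * (1 - (2 : F) • (fr.a * dev r + dev r * fr.a)) - 1 = _
      simp only [two_smul, mul_add, add_mul, mul_sub, sub_mul, one_mul, mul_one]
      abel
    have q1 : fr.a * (dev r * fr.a) = fr.a := by rw [← mul_assoc]; exact h1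
    have q1' : ∀ y, fr.a * (dev r * (fr.a * y)) = fr.a * y := fun y => by
      rw [← mul_assoc (dev r), ← mul_assoc fr.a, q1]
    refine fr.exists_up ?_ ?_ ?_ <;> rw [e1] <;>
      simp only [two_smul, mul_add, add_mul, mul_sub, sub_mul, mul_neg, neg_mul, one_mul, mul_one, mul_assoc,
        fr.haa, fr.haba, fr.hbab, fr.haba', fr.hbab', q1, q1', tail_mul fr.haa, fr.hbb, tail_mul fr.hbb,
        zero_mul, mul_zero] <;>
      abel
  have hz2 : fr.z * g * fr.z = g⁻¹ := by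
    rw [hgd, mul_inv_rev, fr.z_inv, fr'.z_inv, ← mul_assoc fr.z fr.z, show fr.z * fr.z = 1 from
      Units.ext (by rw [Units.val_mul, fr.z_mul_z, Units.val_one]), one_mul]
  have hhalf : γ0 = ff α β := by
    have := congrArg (fun x : GLM => (x : EndM)) hz2
    rw [Units.val_mul, Units.val_mul, hgv, z_conj hA hB hC0, up_inv hA hB hC0 hgv] at this
    obtain ⟨-, -, h⟩ := up_ext hA.neg hB.neg hC0 hA.neg hB.neg ((isC_AB hA hB).sub hC0) this
    have h2 : (2 : F) • γ0 = α * β := by rw [two_smul]; nth_rewrite 2 [h]; abel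
    show γ0 = (half : F) • (α * β)
    rw [← h2, smul_smul, inv_mul_cancel₀ (two_ne fr.h5), one_smul]
  obtain ⟨hA', hB', h, hh, hhv⟩ := fr.memV_smul (fr.memV_of_up hgK hA hB hC0 hgv) (half : F)
  have hf' := (isC_AB hA' hB').smul (half : F)
  have hsq : h * h = g := by
    apply Units.ext
    rw [Units.val_mul, hhv, up_mul hA' hB' hf' hA' hB' hf', hgv, hhalf, ← add_smul, ← add_smul,
      half_add_half fr.h5, one_smul, one_smul, ← add_smul, half_add_half fr.h5, one_smul,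
      smul_mul_smul_comm, ← add_smul]
    congr 2
    rw [← mul_add, half_add_half fr.h5, mul_one]
  have hzh : fr.z * h * fr.z = h⁻¹ := by
    apply Units.ext
    rw [Units.val_mul, Units.val_mul, hhv, z_conj hA' hB' hf', up_inv hA' hB' hf' hhv]
    congr 1
    rw [eq_sub_iff_add_eq]
    exact two_ff fr.h5 _ _
  have hz1 : fr.z * fr.z = 1 := Units.ext (by rw [Units.val_mul, fr.z_mul_z, Units.val_one])
  have hz' : h * fr'.z * h⁻¹ = fr.z := by
    have e1 : fr'.z = fr.z * g := by rw [hgd, ← mul_assoc, hz1, one_mul]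
    rw [e1, ← hsq]
    calc h * (fr.z * (h * h)) * h⁻¹ = h * (fr.z * h * fr.z) * fr.z⁻¹ := by group
      _ = fr.z := by rw [hzh, fr.z_inv, mul_inv_cancel, one_mul]
  have hcs := fr.up_comm_s hA' hB' hf' hhv
  set x := h * r * h⁻¹ with hxd
  have hxmin : x ∈ Min G := min_conj (fr.hKG hh) hr
  have hxK : x ∈ K := mul_mem (mul_mem hh hrK) (inv_mem hh)
  have hs' : h * fr.s * h⁻¹ = fr.s := by rw [hcs, mul_inv_cancel_right]
  have ha' : (h : EndM) * fr.a * ((h⁻¹ : GLM) : EndM) = fr.a := by rw [← dev_conj, hs']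
  have hone : ((h⁻¹ : GLM) : EndM) * (h : EndM) = 1 := h.inv_mul
  have x1 : fr.a * dev x * fr.a = fr.a := by
    rw [hxd, dev_conj]
    conv_lhs => rw [← ha']
    simp only [mul_assoc, tail_mul hone, one_mul]
    conv_rhs => rw [← ha', show fr.a = fr.a * dev r * fr.a from h1.symm]
    simp only [mul_assoc]
  have x2 : dev x * fr.a * dev x = dev x := by
    rw [hxd, dev_conj]
    conv_lhs => rw [← ha']
    simp only [mul_assoc, tail_mul hone, one_mul]
    conv_rhs => rw [show dev r = dev r * fr.a * dev r from h2.symm]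
    simp only [mul_assoc]
  have hE : fr.a * dev x + dev x * fr.a = fr.a * fr.b + fr.b * fr.a := by
    have e : (fr.withPartner x hxmin hxK x1 x2).z = fr.z := by
      rw [← hz']
      show fr.s * x⁻¹ * fr.s * (fr.s * x⁻¹ * fr.s) = h * (fr.s * r⁻¹ * fr.s * (fr.s * r⁻¹ * fr.s)) * h⁻¹
      conv_lhs => rw [← hs', hxd]
      group
    have := congrArg (fun y : GLM => (y : EndM)) e
    rw [(fr.withPartner x hxmin hxK x1 x2).z_val, fr.z_val, sub_right_inj] at this
    exact (smul_right_injective _ (two_ne fr.h5)) this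
  set T := dev x
  have hTT : T * T = 0 := sq_zero hxmin
  have hTE : T * (fr.a * fr.b + fr.b * fr.a) = T := by
    rw [← hE, mul_add, ← mul_assoc, x2, tail_mul hTT, zero_mul, add_zero]
  have hET : (fr.a * fr.b + fr.b * fr.a) * T = T := by
    rw [← hE, add_mul, mul_assoc, hTT, mul_zero, zero_add, x2]
  set γ := fr.a * fr.b * T * (fr.a * fr.b) with hγd
  have hC : fr.IsC γ := ⟨by simp only [hγd, mul_assoc, fr.haba', fr.hbab'],
    by simp only [hγd, mul_assoc, fr.haba', fr.hbab']⟩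
  have q1 : fr.a * (T * fr.a) = fr.a := by rw [← mul_assoc]; exact x1
  have q1' : ∀ y, fr.a * (T * (fr.a * y)) = fr.a * y := fun y => by
    rw [← mul_assoc T, ← mul_assoc fr.a, q1]
  have hS : fr.a * (T * (fr.b * fr.a)) = -(γ * fr.a) := by
    have := congrArg (fun y => fr.a * fr.b * y * (fr.b * fr.a)) hE
    simp only [mul_add, add_mul, mul_assoc, fr.haba', fr.hbab', fr.haba, fr.hbab, fr.haa, fr.hbb,
      tail_mul fr.haa, tail_mul fr.hbb, mul_zero, zero_mul, add_zero] at this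
    rw [eq_neg_iff_add_eq_zero, ← this]
    simp only [hγd, mul_assoc, fr.haba, fr.haba']
  have hP : fr.a * (fr.b * (T * fr.b)) = -(γ * γ) := by
    have := congrArg (fun y => fr.a * fr.b * y * (fr.a * fr.b)) hTT
    conv at this => lhs; rw [← hET]
    simp only [mul_add, add_mul, mul_assoc, mul_zero, zero_mul, q1', fr.hbab, fr.haba', fr.hbab', fr.hbb,
      tail_mul fr.hbb, add_zero] at this
    rw [eq_neg_iff_add_eq_zero]
    refine Eq.trans ?_ this
    simp only [hγd, mul_assoc, fr.hbab', fr.haba', mul_add, q1', fr.hbab]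
    abel
  have hγA : fr.MemA γ := by
    have c1 := fr.memA_corner hxmin
    have c2 := fr.memA_corner (y := fr.s * x * fr.s⁻¹) (min_conj (fr.hKG fr.hsK) hxmin)
    rw [show fr.e * T * fr.b = -(γ * γ) by rw [← hP]; simp only [mul_assoc]] at c1
    have haTb : fr.a * (T * fr.b) = -γ := by
      have := congrArg (fun y => y * fr.b) hS
      simp only [mul_assoc, fr.hbab, neg_mul, hC.right] at this
      exact this
    have e2 : fr.e * dev (fr.s * x * fr.s⁻¹) * fr.b = -(γ * γ) - (2 : F) • γ - fr.e := by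
      rw [dev_conj, coe_inv_of_sq fr.haa, coe_dev fr.s, ← hP]
      show fr.a * fr.b * ((1 + fr.a) * T * (1 - fr.a)) * fr.b = _
      simp only [mul_add, add_mul, mul_sub, sub_mul, one_mul, mul_one, mul_assoc, fr.haba', fr.haa,
        tail_mul fr.haa, q1', haTb, mul_zero, zero_mul, two_smul]
      rw [hγd]
      simp only [mul_assoc]
      abel
    rw [e2] at c2
    have h3 : fr.MemA ((2 : F) • γ) := by
      have := fr.memA_sub (fr.memA_sub c1 c2) fr.memA_e
      convert this using 1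
      abel
    simpa [smul_smul, inv_mul_cancel₀ (two_ne fr.h5)] using fr.memA_smul h3 (half : F)
  obtain ⟨-, u, hu, huv⟩ := hγA
  have hut : dev (u * fr.t * u⁻¹) = T := by
    rw [dev_conj, up_inv isA_zero isB_zero hC huv, huv]
    have hform : T = fr.a * (fr.b * T * (fr.a * fr.b)) + fr.a * (fr.b * (T * fr.b)) * fr.a
        + fr.b * fr.a * T * (fr.a * fr.b) + fr.b * (fr.a * (T * (fr.b * fr.a))) := by
      conv_lhs => rw [← hET, ← hTE]
      simp only [mul_add, add_mul, mul_assoc]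
      abel
    rw [hform, hS, hP]
    simp only [up, hγd, mul_add, add_mul, mul_assoc, mul_neg, neg_mul, zero_mul, zero_sub, add_zero, one_mul,
      mul_one, fr.haba', fr.hbab', fr.hbab, fr.hbb, tail_mul fr.hbb, q1', mul_zero]
    abel
  have hxu : u * fr.t * u⁻¹ = x := by
    apply Units.ext; rw [coe_dev (u * fr.t * u⁻¹), hut, coe_dev x]
  refine ⟨h⁻¹ * u, mul_mem (inv_mem hh) hu, _, _, _, hA'.neg.add isA_zero, hB'.neg.add isB_zero,
    ((((isC_AB hA' hB').sub hf').add hC).add (isC_AB hA'.neg isB_zero)),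
    by rw [Units.val_mul, up_inv hA' hB' hf' hhv, huv,
      up_mul hA'.neg hB'.neg ((isC_AB hA' hB').sub hf') isA_zero isB_zero hC], ?_⟩
  rw [act_mul, ← key_conj, hxu, hxd, ← key_conj, ← hrk]
  congr 1
  group

/-- Block diagonal elements. -/
def Blk (ℓ : LinearMap.GeneralLinearGroup (ZMod p) M) : Prop :=
  (ℓ : M →ₗ[ZMod p] M) * (fr.a * fr.b) = fr.a * fr.b * (ℓ : M →ₗ[ZMod p] M) ∧
    (ℓ : M →ₗ[ZMod p] M) * (fr.b * fr.a) = fr.b * fr.a * (ℓ : M →ₗ[ZMod p] M)

theorem proj_comm {s g : GLM} (h1 : dev s * dev g * dev s = dev s) (h2 : dev g * dev s * dev g = dev g)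
    {ℓ : GLM} (k1 : (LinearMap.range (dev s)).map (ℓ : EndM) = LinearMap.range (dev s))
    (k2 : (LinearMap.ker (dev g)).map (ℓ : EndM) = LinearMap.ker (dev g)) :
    (ℓ : EndM) * (dev s * dev g) = dev s * dev g * (ℓ : EndM) := by
  refine LinearMap.ext fun v => ?_
  obtain ⟨y, hy⟩ := k1.le ⟨dev s (dev g v), ⟨_, rfl⟩, rfl⟩
  have hk : dev g ((ℓ : EndM) (v - dev s (dev g v))) = 0 := by
    refine k2.le ⟨_, ?_, rfl⟩
    show dev g _ = 0
    rw [map_sub, sub_eq_zero]
    exact (LinearMap.congr_fun h2 v).symm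
  simp only [Module.End.mul_apply]
  rw [map_sub, map_sub, sub_eq_zero] at hk
  rw [hk, ← hy]
  exact (LinearMap.congr_fun h1 y).symm

theorem blk_of_fix {ℓ : GLM} (hs : act ℓ (key fr.s) = key fr.s) (ht : act ℓ (key fr.t) = key fr.t) :
    fr.Blk ℓ :=
  ⟨proj_comm fr.aba fr.bab (congrArg Prod.fst hs) (congrArg Prod.snd ht),
    proj_comm fr.bab fr.aba (congrArg Prod.fst ht) (congrArg Prod.snd hs)⟩

theorem map_range_of_comm {ℓ : GLM} {e x : EndM} (h : (ℓ : EndM) * e = e * (ℓ : EndM)) (he : e * x = x)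
    (hx : LinearMap.range e ≤ LinearMap.range x) :
    (LinearMap.range x).map (ℓ : EndM) = LinearMap.range x := by
  refine Submodule.eq_of_le_of_finrank_eq ?_ (Submodule.equivMapOfInjective _ (gl_injective ℓ) _).finrank_eq.symm
  rintro _ ⟨_, ⟨v, rfl⟩, rfl⟩
  refine hx ⟨(ℓ : EndM) (x v), ?_⟩
  rw [← Module.End.mul_apply e, ← h, Module.End.mul_apply]
  exact congrArg (ℓ : EndM) (LinearMap.congr_fun he v)

theorem map_ker_of_comm {ℓ : GLM} {e x : EndM} (h : (ℓ : EndM) * e = e * (ℓ : EndM))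
    (h1 : LinearMap.ker e = LinearMap.ker x) :
    (LinearMap.ker x).map (ℓ : EndM) = LinearMap.ker x := by
  rw [← h1]
  refine Submodule.eq_of_le_of_finrank_eq ?_ (Submodule.equivMapOfInjective _ (gl_injective ℓ) _).finrank_eq.symm
  rintro _ ⟨v, hv, rfl⟩
  show e ((ℓ : EndM) v) = 0
  rw [← Module.End.mul_apply, ← h, Module.End.mul_apply, show e v = 0 from hv, map_zero]

theorem blk_fix {ℓ : GLM} (h : fr.Blk ℓ) :
    act ℓ (key fr.s) = key fr.s ∧ act ℓ (key fr.t) = key fr.t := by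
  have k1 : LinearMap.ker (fr.b * fr.a) = LinearMap.ker fr.a := by
    refine le_antisymm (fun v hv => ?_) (LinearMap.ker_le_ker_comp _ _)
    show fr.a v = 0
    rw [← LinearMap.congr_fun fr.haba v]
    show fr.a ((fr.b * fr.a) v) = 0
    rw [show (fr.b * fr.a) v = 0 from hv, map_zero]
  have k2 : LinearMap.ker (fr.a * fr.b) = LinearMap.ker fr.b := by
    refine le_antisymm (fun v hv => ?_) (LinearMap.ker_le_ker_comp _ _)
    show fr.b v = 0
    rw [← LinearMap.congr_fun fr.hbab v]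
    show fr.b ((fr.a * fr.b) v) = 0
    rw [show (fr.a * fr.b) v = 0 from hv, map_zero]
  exact ⟨Prod.ext (map_range_of_comm h.1 (by rw [mul_assoc, fr.haba]) (LinearMap.range_comp_le_range _ _))
      (map_ker_of_comm h.2 k1),
    Prod.ext (map_range_of_comm h.2 (by rw [mul_assoc, fr.hbab]) (LinearMap.range_comp_le_range _ _))
      (map_ker_of_comm h.1 k2)⟩

theorem blk_inv {ℓ : GLM} (h : fr.Blk ℓ) : fr.Blk ℓ⁻¹ := by
  have key : ∀ e : EndM, (ℓ : EndM) * e = e * (ℓ : EndM) → ((ℓ⁻¹ : GLM) : EndM) * e = e * ((ℓ⁻¹ : GLM) : EndM) := by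
    intro e he
    calc ((ℓ⁻¹ : GLM) : EndM) * e = ((ℓ⁻¹ : GLM) : EndM) * (e * (ℓ : EndM)) * ((ℓ⁻¹ : GLM) : EndM) := by
          rw [mul_assoc, mul_assoc, Units.mul_inv, mul_one]
      _ = _ := by rw [← he, ← mul_assoc, Units.inv_mul, one_mul]
  exact ⟨key _ h.1, key _ h.2⟩

theorem blk_mul {ℓ ℓ' : GLM} (h : fr.Blk ℓ) (h' : fr.Blk ℓ') : fr.Blk (ℓ * ℓ') := by
  constructor
  · rw [Units.val_mul, mul_assoc, h'.1, ← mul_assoc, h.1, mul_assoc]
  · rw [Units.val_mul, mul_assoc, h'.2, ← mul_assoc, h.2, mul_assoc]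

/-- The stabiliser of a class splits. -/
theorem levi {x : GLM} (hx : x ∈ K) (hfix : act x (key fr.s) = key fr.s) :
    ∃ g ∈ K, ∃ α β γ, fr.IsA α ∧ fr.IsB β ∧ fr.IsC γ ∧ (g : EndM) = fr.up α β γ ∧
      ∃ ℓ ∈ K, fr.Blk ℓ ∧ x = g * ℓ := by
  have hmin : x * fr.t * x⁻¹ ∈ Min G := min_conj (fr.hKG hx) fr.ht
  have ho : Opp (key fr.s) (key (x * fr.t * x⁻¹)) := by
    rw [key_conj]; nth_rewrite 1 [← hfix]; exact opp_act x fr.opp_st
  obtain ⟨g, hg, α, β, γ, hA, hB, hC, hgv, hga⟩ :=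
    fr.trans hmin (mul_mem (mul_mem hx fr.htK) (inv_mem hx)) ho
  have hgs : act g (key fr.s) = key fr.s := act_key_self (fr.up_comm_s hA hB hC hgv)
  refine ⟨g, hg, α, β, γ, hA, hB, hC, hgv, g⁻¹ * x, mul_mem (inv_mem hg) hx,
    fr.blk_of_fix ?_ ?_, by group⟩
  · rw [act_mul, hfix]; nth_rewrite 1 [← hgs]; rw [act_inv_act]
  · rw [act_mul, ← key_conj, ← hga, act_inv_act]

theorem blk_conj_up {ℓ : GLM} (h : fr.Blk ℓ) {α β γ : EndM} (hA : fr.IsA α) (hB : fr.IsB β) (hC : fr.IsC γ) :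
    let L := (ℓ : EndM); let L' := ((ℓ⁻¹ : GLM) : EndM)
    fr.IsA (L * α * L') ∧ fr.IsB (L * β * fr.a * L' * fr.b) ∧ fr.IsC (L * γ * fr.a * L' * fr.b) ∧
      L * fr.up α β γ * L'
        = fr.up (L * α * L') (L * β * fr.a * L' * fr.b) (L * γ * fr.a * L' * fr.b) := by
  intro L L'
  obtain ⟨h1, h2⟩ := h
  obtain ⟨h1', h2'⟩ := fr.blk_inv ⟨h1, h2⟩
  have c1 : ∀ y, fr.a * (fr.b * (L * y)) = L * (fr.a * (fr.b * y)) := fun y => by
    rw [← mul_assoc fr.a, ← mul_assoc (fr.a * fr.b), ← h1, mul_assoc, mul_assoc]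
  have c2 : fr.a * L' * fr.b * fr.a = fr.a * L' := by
    rw [mul_assoc, mul_assoc, h2', ← mul_assoc, fr.haba]
  have c3 : ∀ y, fr.IsA y → y * L' * fr.a = 0 ∧ y * L' * fr.b = 0 := fun y hy => by
    constructor
    · calc y * L' * fr.a = y * (L' * (fr.a * fr.b)) * fr.a := by
            simp only [mul_assoc, fr.haba]
        _ = 0 := by rw [h1']; simp only [← mul_assoc, hy.ra, zero_mul]
    · calc y * L' * fr.b = y * (L' * (fr.b * fr.a)) * fr.b := by
            simp only [mul_assoc, fr.hbab]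
        _ = 0 := by rw [h2']; simp only [← mul_assoc, hy.rb, zero_mul]
  have c4 : ∀ y, y * fr.b * (fr.a * fr.b) = y * fr.b := fun y => by rw [mul_assoc, fr.hbab]
  refine ⟨⟨?_, ?_, ?_⟩, ⟨c4 _, ?_, ?_⟩, ⟨?_, c4 _⟩, ?_⟩
  · rw [mul_assoc L, c1, hA.left']
  · rw [mul_assoc L, mul_assoc L, (c3 α hA).1, mul_zero]
  · rw [mul_assoc L, mul_assoc L, (c3 α hA).2, mul_zero]
  · have e : fr.a * L = fr.a * (L * (fr.b * fr.a)) := by rw [h2, ← mul_assoc, fr.haba]
    simp only [← mul_assoc]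
    rw [e]
    simp only [mul_assoc, tail_mul hB.la, zero_mul, mul_zero]
  · have e : fr.b * L = fr.b * (L * (fr.a * fr.b)) := by rw [h1, ← mul_assoc, fr.hbab]
    simp only [← mul_assoc]
    rw [e]
    simp only [mul_assoc, tail_mul hB.lb, zero_mul, mul_zero]
  · simp only [mul_assoc]
    rw [c1, hC.left']
  · simp only [up, mul_add, add_mul, mul_one]
    rw [show L * L' = 1 from ℓ.mul_inv]
    simp only [mul_assoc] at c2 ⊢
    rw [c2]

theorem memV_blk {ℓ : GLM} (h : fr.Blk ℓ) (hℓ : ℓ ∈ G) {α β : EndM} (hV : fr.MemV α β) :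
    fr.MemV ((ℓ : EndM) * α * ((ℓ⁻¹ : GLM) : EndM))
      ((ℓ : EndM) * β * fr.a * ((ℓ⁻¹ : GLM) : EndM) * fr.b) := by
  obtain ⟨hA, hB, g, hg, he⟩ := hV
  obtain ⟨h1, h2, h3, h4⟩ := fr.blk_conj_up h hA hB ((isC_AB hA hB).smul (half : F))
  refine fr.memV_of_up (fr.hnorm ℓ hℓ g hg) h1 h2 h3 ?_
  rw [Units.val_mul, Units.val_mul, he]
  exact h4

theorem memA_blk {ℓ : GLM} (h : fr.Blk ℓ) (hℓ : ℓ ∈ G) {γ : EndM} (hγ : fr.MemA γ) :
    fr.MemA ((ℓ : EndM) * γ * fr.a * ((ℓ⁻¹ : GLM) : EndM) * fr.b) := by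
  obtain ⟨hC, g, hg, he⟩ := hγ
  obtain ⟨-, -, h3, h4⟩ := fr.blk_conj_up h (isA_zero (fr := fr)) (isB_zero (fr := fr)) hC
  refine ⟨h3, ℓ * g * ℓ⁻¹, fr.hnorm ℓ hℓ g hg, ?_⟩
  rw [Units.val_mul, Units.val_mul, he, h4]
  simp

/-- The block diagonal element multiplying by a central coordinate. -/
theorem op_delta {δ δ' : EndM} (hδ : fr.MemA δ) (hδ' : fr.MemA δ') (r : δ * δ' = fr.e) (l : δ' * δ = fr.e) :
    ∃ ℓ ∈ K, fr.Blk ℓ ∧ (ℓ : EndM) * fr.e = δ ∧ ((ℓ : EndM) * fr.b = fr.b * δ') ∧ ∀ α β, fr.IsA α → fr.IsB β →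
      (ℓ : EndM) * α * ((ℓ⁻¹ : GLM) : EndM) = δ * α ∧
      (ℓ : EndM) * β * fr.a * ((ℓ⁻¹ : GLM) : EndM) * fr.b = β * δ := by
  obtain ⟨hC, u, hu, hue⟩ := hδ
  obtain ⟨hC', v, hv, hve⟩ := hδ'
  set E0 : EndM := 1 - fr.a * fr.b - fr.b * fr.a with hE0
  set ℓ := u * (fr.w * v * fr.w⁻¹) * u * fr.w⁻¹ with hℓd
  have rδ : ∀ y, δ * (δ' * y) = fr.a * (fr.b * y) := fun y => by rw [tail_mul r, mul_assoc]
  have lδ : ∀ y, δ' * (δ * y) = fr.a * (fr.b * y) := fun y => by rw [tail_mul l, mul_assoc]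
  have hv' : ((fr.w * v * fr.w⁻¹ : GLM) : EndM) = 1 - fr.b * δ' := by
    rw [Units.val_mul, Units.val_mul, hve, w_conj isA_zero isB_zero hC']; simp
  have hval : (ℓ : EndM) = E0 + δ + fr.b * δ' * fr.a := by
    rw [hℓd, Units.val_mul, Units.val_mul, Units.val_mul, hv', hue, w_inv_val, hE0]
    simp only [up, mul_add, add_mul, mul_sub, sub_mul, zero_mul, add_zero, one_mul, mul_one, mul_assoc,
      r, l, rδ, lδ, fr.haa, fr.hbb, fr.haba, fr.hbab, fr.haba', fr.hbab', hC.left, hC.left', hC.right, hC.right',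
      hC'.left, hC'.left', hC'.right, hC'.right', hC.la, hC.rb, hC'.la, hC'.rb, tail_mul hC.la, tail_mul hC.rb,
      tail_mul hC'.la, tail_mul hC'.rb, tail_mul fr.haa, tail_mul fr.hbb, mul_zero]
    abel
  set ℓ' : EndM := E0 + δ' + fr.b * δ * fr.a
  have hinv : ((ℓ⁻¹ : GLM) : EndM) = ℓ' := by
    refine Units.inv_eq_of_mul_eq_one_right ?_
    rw [hval]
    simp only [hE0, ℓ', mul_add, add_mul, mul_sub, sub_mul, one_mul, mul_one, mul_assoc, r, l, rδ, lδ,
      fr.haa, fr.hbb, fr.haba, fr.hbab, fr.haba', fr.hbab', hC.left, hC.left', hC.right, hC.right',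
      hC'.left, hC'.left', hC'.right, hC'.right', hC.la, hC.rb, hC'.la, hC'.rb, tail_mul hC.la, tail_mul hC.rb,
      tail_mul hC'.la, tail_mul hC'.rb, tail_mul fr.haa, tail_mul fr.hbb, mul_zero, zero_mul]
    abel
  refine ⟨ℓ, mul_mem (mul_mem (mul_mem hu (mul_mem (mul_mem fr.w_mem hv) (inv_mem fr.w_mem))) hu)
    (inv_mem fr.w_mem), ⟨?_, ?_⟩, ?_, ?_, fun α β hA hB => ⟨?_, ?_⟩⟩
  · rw [hval]
    simp only [hE0, mul_add, add_mul, mul_sub, sub_mul, one_mul, mul_one, mul_assoc, fr.haba, fr.hbab, fr.haba',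
      fr.hbab', hC.left, hC.right, tail_mul fr.haa, tail_mul fr.hbb, hC'.la, hC.la, fr.haa, fr.hbb, mul_zero,
      zero_mul]
  · rw [hval]
    simp only [hE0, mul_add, add_mul, mul_sub, sub_mul, one_mul, mul_one, mul_assoc, fr.haba, fr.hbab, fr.haba',
      fr.hbab', hC'.left', hC.la, tail_mul hC.la, tail_mul hC.rb, tail_mul fr.haa, tail_mul fr.hbb, fr.haa,
      fr.hbb, mul_zero, zero_mul]
  · rw [hval]
    simp only [hE0, mul_add, add_mul, mul_sub, sub_mul, one_mul, mul_one, mul_assoc, fr.haba', fr.hbab,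
      fr.hbab', hC.right, hC'.la, tail_mul fr.haa, tail_mul fr.hbb, mul_zero, zero_mul]
    abel
  · rw [hval]
    simp only [hE0, mul_add, add_mul, mul_sub, sub_mul, one_mul, mul_one, mul_assoc, fr.haba', fr.hbab,
      fr.hbab', fr.hbb, tail_mul fr.hbb, hC.rb, hC'.right, mul_zero, zero_mul]
    abel
  · rw [hval, hinv]
    simp only [hE0, ℓ', mul_add, add_mul, mul_sub, sub_mul, one_mul, mul_one, mul_assoc, hA.left, hA.left', hA.la,
      tail_mul hA.la, hA.ra, hA.rb, tail_mul hA.ra, tail_mul hA.rb, hA.mul_C hC', tail_mul (hA.mul_C hC'),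
      mul_zero, zero_mul]
    abel
  · rw [hval, hinv]
    simp only [hE0, ℓ', mul_add, add_mul, mul_sub, sub_mul, one_mul, mul_one, mul_assoc, hB.la, hB.lb,
      tail_mul hB.la, tail_mul hB.lb, hC.mul_B hB, tail_mul (hC.mul_B hB), fr.haba', fr.hbab', fr.haa, fr.hbb,
      tail_mul fr.haa, tail_mul fr.hbb, hC'.la, tail_mul hC'.la, hC.left', hB.right', hC.right,
      mul_zero, zero_mul]
    abel

end Frame

end Cfsg.Agent.EquiQuad
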