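import Cfsg.Agent.Lib.EquiQuad.Frame

/-!
Consequences of opposition inside a frame: the squares of shifted coordinates are central coordinates, the opposite
classes are permuted by the elements trivial on the flag, and the block diagonal elements act on the coordinates.
-/

set_option autoImplicit false
set_option linter.unusedSimpArgs false

namespace Cfsg.Agent.EquiQuad

open UniFamily QuadPair

variable {p : ℕ} [hp : Fact p.Prime] {M : Type} [AddCommGroup M] [Module (ZMod p) M]

local notation "F" => ZMod p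
local notation "GLM" => LinearMap.GeneralLinearGroup (ZMod p) M
local notation "EndM" => M →ₗ[ZMod p] M

/-- An element with the pair of `g` is absorbed by the idempotents of a normalised pair `s, g`. -/
theorem absorb {s g x : GLM} (h : dev g * dev s * dev g = dev g) (hk : key x = key g) :
    dev g * (dev s * dev x) = dev x ∧ dev x * (dev s * dev g) = dev x := by
  constructor
  · refine LinearMap.ext fun m => ?_
    obtain ⟨y, hy⟩ := (congrArg Prod.fst hk).le ⟨m, rfl⟩
    simp only [Module.End.mul_apply]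
    rw [← hy]
    exact LinearMap.congr_fun h y
  · refine LinearMap.ext fun m => sub_eq_zero.1 ?_
    rw [Module.End.mul_apply, ← map_sub]
    refine (congrArg Prod.snd hk).ge ?_
    show dev g _ = 0
    rw [map_sub, sub_eq_zero]
    exact LinearMap.congr_fun h m

/-- The exchanging element of a normalised pair moves one class to the other. -/
theorem swap_class {s g x : GLM} (h1 : dev s * dev g * dev s = dev s) (h2 : dev g * dev s * dev g = dev g)
    (hs : dev s * dev s = 0) (hg : dev g * dev g = 0) (hk : key x = key g) :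
    dev ((s * g⁻¹ * s) * x * (s * g⁻¹ * s)⁻¹) = -(dev s * dev x * dev s) ∧
      key ((s * g⁻¹ * s) * x * (s * g⁻¹ * s)⁻¹) = key s := by
  obtain ⟨hl, hr⟩ := absorb h2 hk
  obtain ⟨hw, hconj⟩ := exists_swap h1 h2 hs hg
  constructor
  · have hwi : (((s * g⁻¹ * s)⁻¹ : GLM) : EndM)
        = 1 - dev s * dev g - dev g * dev s - dev s + dev g := by
      have hsi : ((s⁻¹ : GLM) : EndM) = 1 - dev s := coe_inv_of_sq hs
      rw [show (s * g⁻¹ * s)⁻¹ = s⁻¹ * g * s⁻¹ by group, Units.val_mul, Units.val_mul, hsi, coe_dev g]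
      simp only [mul_add, add_mul, mul_sub, sub_mul, one_mul, mul_one, mul_assoc, hs]
      rw [← mul_assoc (dev s) (dev g), h1]
      abel
    rw [dev_conj, hw, hwi]
    set a := dev s
    set b := dev g
    set X := dev x
    have p1 : ∀ y, a * (b * (a * y)) = a * y := fun y => by rw [← mul_assoc b, ← mul_assoc a, ← mul_assoc a b, h1]
    have p2 : ∀ y, b * (a * (X * y)) = X * y := fun y => by rw [← mul_assoc a, ← mul_assoc b, hl]
    have p3 : ∀ y, X * (a * (b * y)) = X * y := fun y => by rw [← mul_assoc a, ← mul_assoc X, hr]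
    have q1 : b * X = 0 := by rw [← hl, tail_mul hg, zero_mul]
    have q2 : X * b = 0 := by rw [← hr, mul_assoc, mul_assoc, hg, mul_zero, mul_zero]
    simp only [mul_add, add_mul, mul_sub, sub_mul, one_mul, mul_one, mul_assoc, hl, hr, p1, p2, p3,
      q1, q2, tail_mul q1, tail_mul q2, tail_mul hs, zero_mul, mul_zero]
    abel
  · have h := key_conj (s * g⁻¹ * s) x
    rw [h, hk]
    have h' : act (s * g⁻¹ * s) (key s) = key g := by
      rw [← key_conj, hconj]
      refine Prod.ext ?_ ?_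
      · show LinearMap.range (dev g⁻¹) = LinearMap.range (dev g)
        rw [exists_partner_mem.dev_inv_of_sq' hg, LinearMap.range_neg]
      · show LinearMap.ker (dev g⁻¹) = LinearMap.ker (dev g)
        rw [exists_partner_mem.dev_inv_of_sq' hg, LinearMap.ker_neg]
    -- the exchanging element has order dividing four modulo the stabilisers
    have hz : act ((s * g⁻¹ * s) * (s * g⁻¹ * s)) (key s) = key s := by
      refine act_key_self (Units.ext ?_)
      simp only [Units.val_mul, hw, coe_dev s]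
      set a := dev s
      set b := dev g
      have p1 : a * (b * a) = a := by rw [← mul_assoc, h1]
      have p2 : b * (a * b) = b := by rw [← mul_assoc, h2]
      have p1' : ∀ y, a * (b * (a * y)) = a * y := fun y => by rw [← mul_assoc b, ← mul_assoc a, p1]
      have p2' : ∀ y, b * (a * (b * y)) = b * y := fun y => by rw [← mul_assoc a, ← mul_assoc b, p2]
      simp only [mul_add, add_mul, mul_sub, sub_mul, one_mul, mul_one, mul_assoc, hs, hg, p1, p2, p1', p2',
        tail_mul hs, tail_mul hg, zero_mul, mul_zero]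
      abel
    rwa [act_mul, h'] at hz

namespace Frame

variable {G K : Subgroup (LinearMap.GeneralLinearGroup (ZMod p) M)} (fr : Frame G K)

theorem conj_w_dev {γ : EndM} (l : fr.IsC γ) {g : GLM} (he : (g : EndM) = fr.up 0 0 γ) :
    dev (fr.w * g * fr.w⁻¹) = -(fr.b * γ) := by
  rw [dev, Units.val_mul, Units.val_mul, he, w_conj isA_zero isB_zero l]
  simp

/-- The elements of the class of `s` are central coordinates. -/
theorem memA_class_s {x : GLM} (hx : x ∈ Min G) (hk : key x = key fr.s) :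
    fr.MemA (dev x * fr.b) ∧ (dev x * fr.b) * fr.a = dev x := by
  obtain ⟨hl, hr⟩ := absorb (s := fr.t) fr.aba hk
  have he : dev x * fr.b * fr.a = dev x := by rw [mul_assoc]; exact hr
  refine ⟨⟨⟨?_, ?_⟩, x, fr.hmem x hx fr.s fr.hs fr.hsK hk, ?_⟩, he⟩
  · rw [← mul_assoc fr.b, ← mul_assoc fr.a, hl]
  · rw [mul_assoc, fr.hbab]
  · rw [up, he, zero_mul, add_zero, add_zero, coe_dev x]

/-- The elements of the class of `t` are central coordinates. -/
theorem memA_class_t {x : GLM} (hx : x ∈ Min G) (hk : key x = key fr.t) :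
    fr.MemA (fr.a * dev x) ∧ fr.b * (fr.a * dev x) = dev x := by
  obtain ⟨hl, hr⟩ := absorb (s := fr.s) fr.bab hk
  obtain ⟨hd, hk'⟩ := swap_class fr.aba fr.bab fr.haa fr.hbb hk
  have hmin : fr.w * x * fr.w⁻¹ ∈ Min G := min_conj (fr.hKG fr.w_mem) hx
  have h := (fr.memA_class_s hmin hk').1
  rw [show dev (fr.w * x * fr.w⁻¹) = -(fr.a * dev x * fr.a) from hd, neg_mul, mul_assoc, mul_assoc] at h
  rw [show fr.a * (dev x * (fr.a * fr.b)) = fr.a * dev x by rw [hr]] at h
  exact ⟨by simpa using fr.memA_neg h, hl⟩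

variable [FiniteDimensional (ZMod p) M]

theorem opp_st : Opp (key fr.s) (key fr.t) := by
  rw [opp_iff fr.h5 fr.hs fr.ht]
  rintro ⟨n, hn⟩
  have e2 : ∀ j, zz fr.a fr.b ^ j * fr.a = fr.a := by
    intro j
    induction j with
    | zero => simp
    | succ j ih =>
      rw [pow_succ', mul_assoc, ih, zz, add_mul, mul_assoc, mul_assoc, fr.haba, fr.haa, mul_zero, add_zero]
  exact dev_ne_zero fr.hs ((e2 n).symm.trans (by rw [hn, zero_mul]))

/-- The lower corner of any member is a central coordinate. -/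
theorem memA_corner {y : GLM} (hy : y ∈ Min G) : fr.MemA (fr.e * dev y * fr.b) := by
  by_cases h : Opp (key fr.t) (key y)
  · obtain ⟨r, hr, hrk, h1, h2⟩ := exists_partner_mem fr.h5 fr.ht hy h
    obtain ⟨hd, hk⟩ := swap_class h1 h2 fr.hbb (sq_zero hr) hrk.symm
    have hmin : (fr.t * r⁻¹ * fr.t) * y * (fr.t * r⁻¹ * fr.t)⁻¹ ∈ Min G :=
      min_conj (mul_mem (mul_mem (min_mem fr.ht) (inv_mem (min_mem hr))) (min_mem fr.ht)) hy
    have := (fr.memA_class_t hmin hk).1
    rw [hd, mul_neg] at this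
    simpa [mul_assoc] using fr.memA_neg this
  · have h0 := (sts_of_not_opp fr.h5 fr.ht hy h).1
    rw [show fr.e * dev y * fr.b = fr.a * (fr.b * dev y * fr.b) by simp only [mul_assoc]]
    rw [show fr.b * dev y * fr.b = 0 from h0, mul_zero]
    exact fr.memA_zero

variable {fr}

/-- The corner of a conjugate of `t` under an element trivial on the flag. -/
theorem corner_conj {α β γ : EndM} (h : fr.IsA α) (k : fr.IsB β) (l : fr.IsC γ) {g : GLM}
    (hg : (g : EndM) = fr.up α β γ) :
    fr.e * dev (g * fr.t * g⁻¹) * fr.b = γ * (α * β - γ) := by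
  rw [dev_conj, up_inv h k l hg, hg]
  simp only [up, mul_add, add_mul, mul_sub, sub_mul, one_mul, mul_one, mul_assoc, h.left, h.ra, h.rb, h.la,
    k.la, k.lb, k.rb, l.la, l.rb, l.left, fr.haa, fr.hbb, fr.haba, fr.hbab, k.right, l.right,
    tail_mul h.la, tail_mul h.ra, tail_mul h.rb, tail_mul k.la, tail_mul k.lb, tail_mul k.rb,
    tail_mul l.rb, tail_mul l.la, l.mul_B k, tail_mul (l.mul_B k), l.left', h.left', k.right', l.right', fr.haba', fr.hbab',
    tail_mul fr.haa, tail_mul fr.hbb, zero_mul, mul_zero, neg_mul, mul_neg]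
  abel

variable (fr)

/-- The diagonal value `f`. -/
abbrev ff (α β : M →ₗ[ZMod p] M) : M →ₗ[ZMod p] M := (half : F) • (α * β)

theorem two_ff (h5 : 5 ≤ p) (α β : EndM) : ff α β + ff α β = α * β := by
  rw [← add_smul, half_add_half h5, one_smul]

/-- The square of the diagonal value, shifted, is a central coordinate. -/
theorem memA_shift {α β : EndM} (h : fr.MemV α β) (c : F) :
    fr.MemA ((c • fr.e + ff α β) * (c • fr.e - ff α β)) := by
  obtain ⟨hA, hB, g, hg, he⟩ := h
  obtain ⟨hC, g', hg', he'⟩ := fr.memA_smul fr.memA_e c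
  have hf := (isC_AB hA hB).smul (half : F)
  have hval : ((g' * g : GLM) : EndM) = fr.up α β (c • fr.e + ff α β) := by
    rw [Units.val_mul, he', he, up_mul isA_zero isB_zero hC hA hB hf]
    simp
  have := fr.memA_corner (y := (g' * g) * fr.t * (g' * g)⁻¹)
    (min_conj (fr.hKG (mul_mem hg' hg)) fr.ht)
  rw [corner_conj hA hB (hC.add hf) hval] at this
  have e1 : α * β - (c • fr.e + ff α β) = -(c • fr.e - ff α β) := by
    rw [← two_ff fr.h5 α β]; abel
  rw [e1, mul_neg] at this
  simpa using fr.memA_neg this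

theorem e_ne : fr.e ≠ 0 := fun h => dev_ne_zero fr.hs (fr.aba.symm.trans (by
  rw [show dev fr.s * dev fr.t = 0 from h, zero_mul]))

/-- Some small scalar gives a non-zero shift. -/
theorem exists_good {α β : EndM} (hA : fr.IsA α) (hB : fr.IsB β) :
    ∃ c : F, c ≠ 0 ∧ (c • fr.e + ff α β) * (c • fr.e - ff α β) ≠ 0 := by
  have hf := (isC_AB hA hB).smul (half : F)
  have hexp : ∀ c : F, (c • fr.e + ff α β) * (c • fr.e - ff α β) = (c * c) • fr.e - ff α β * ff α β := by
    intro c
    have hee : fr.e * fr.e = fr.e := e_mul isC_e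
    have h1 : fr.e * ff α β = ff α β := e_mul hf
    have h2 : ff α β * fr.e = ff α β := mul_e hf
    generalize ff α β = x at h1 h2 ⊢
    simp only [mul_sub, add_mul, smul_mul_assoc, mul_smul_comm, smul_smul, smul_add, smul_sub, hee, h1, h2]
    abel
  have h2 : (2 : F) ≠ 0 := two_ne fr.h5
  by_contra hno
  push Not at hno
  have e1 := hno 1 one_ne_zero
  have e2 := hno 2 h2
  rw [hexp, sub_eq_zero] at e1 e2
  rw [← e1, ← sub_eq_zero, ← sub_smul, smul_eq_zero] at e2
  rcases e2 with h | h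
  · refine natCast_ne (p := p) (n := 3) (by omega) (by have := fr.h5; omega) ?_
    rw [Nat.cast_ofNat, ← h]; ring
  · exact fr.e_ne h

theorem shift_comm {α β : EndM} (hA : fr.IsA α) (hB : fr.IsB β) (c : F) :
    (c • fr.e + ff α β) * (c • fr.e - ff α β) = (c • fr.e - ff α β) * (c • fr.e + ff α β) := by
  have hf := (isC_AB hA hB).smul (half : F)
  have hee : fr.e * fr.e = fr.e := e_mul isC_e
  have h1 : fr.e * ff α β = ff α β := e_mul hf
  have h2 : ff α β * fr.e = ff α β := mul_e hf
  generalize ff α β = x at h1 h2 ⊢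
  simp only [mul_sub, add_mul, sub_mul, mul_add, smul_mul_assoc, mul_smul_comm, smul_smul, smul_add, smul_sub,
    hee, h1, h2]
  abel

/-- A non-zero shift yields the inverse coordinates. -/
theorem shift_inv {α β : EndM} (h : fr.MemV α β) {c : F}
    (h0 : (c • fr.e + ff α β) * (c • fr.e - ff α β) ≠ 0) :
    ∃ δ, fr.MemA δ ∧ (c • fr.e + ff α β) * (c • fr.e - ff α β) * δ = fr.e ∧
      δ * ((c • fr.e + ff α β) * (c • fr.e - ff α β)) = fr.e ∧
      δ * (c • fr.e + ff α β) = (c • fr.e + ff α β) * δ ∧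
      δ * (c • fr.e - ff α β) = (c • fr.e - ff α β) * δ := by
  obtain ⟨δ, hδ, r1, r2⟩ := fr.memA_inv (fr.memA_shift h c) h0
  refine ⟨δ, hδ, r1, r2, ?_⟩
  have hf := (isC_AB h.1 h.2.1).smul (half : F)
  have hγ : fr.IsC (c • fr.e + ff α β) := (isC_e.smul c).add hf
  have hγ' : fr.IsC (c • fr.e - ff α β) := (isC_e.smul c).sub hf
  set γ := c • fr.e + ff α β with hγd
  set γ' := c • fr.e - ff α β with hγ'd
  have hcom : γ * γ' = γ' * γ := fr.shift_comm h.1 h.2.1 c
  have key : ∀ x, fr.IsC x → (γ * γ') * x = x * (γ * γ') → δ * x = x * δ := fun x hx hxc => by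
    calc δ * x = δ * x * (γ * γ' * δ) := by rw [r1, mul_e (isC_CC hδ.1 hx)]
      _ = δ * (γ * γ' * x) * δ := by rw [hxc]; simp only [mul_assoc]
      _ = x * δ := by rw [← mul_assoc δ, r2, e_mul hx]
  refine ⟨key γ hγ ?_, key γ' hγ' ?_⟩
  · rw [mul_assoc, ← hcom]
  · rw [hcom, mul_assoc, hcom]

/-- The inverse coordinates again lie among the coordinates. -/
theorem phi {α β : EndM} (h : fr.MemV α β) {c : F} {δ : EndM} (hδ : fr.MemA δ)
    (hr : (c • fr.e + ff α β) * (c • fr.e - ff α β) * δ = fr.e)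
    (hl : δ * ((c • fr.e + ff α β) * (c • fr.e - ff α β)) = fr.e)
    (h1 : δ * (c • fr.e + ff α β) = (c • fr.e + ff α β) * δ)
    (h2 : δ * (c • fr.e - ff α β) = (c • fr.e - ff α β) * δ) :
    fr.MemV ((c • fr.e + ff α β) * δ * α) (β * (δ * (c • fr.e - ff α β))) := by
  obtain ⟨hA, hB, g0, hg0, he0⟩ := h
  obtain ⟨hC, g', hg', he'⟩ := fr.memA_smul fr.memA_e c
  have hf := (isC_AB hA hB).smul (half : F)
  set γ := c • fr.e + ff α β with hγd
  set γ' := c • fr.e - ff α β with hγ'd
  have hγ : fr.IsC γ := hC.add hf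
  have hγ' : fr.IsC γ' := hC.sub hf
  set g := g' * g0 with hgd
  have hg : g ∈ K := mul_mem hg' hg0
  have hgv : (g : EndM) = fr.up α β γ := by
    rw [Units.val_mul, he', he0, up_mul isA_zero isB_zero hC hA hB hf]
    simp [hγd]
  have hgi : ((g⁻¹ : GLM) : EndM) = fr.up (-α) (-β) (-γ') := by
    rw [up_inv hA hB hγ hgv, hγd, hγ'd, ← two_ff fr.h5 α β]
    congr 1; abel
  obtain ⟨hδC, u, hu, hue⟩ := fr.memA_neg hδ
  set r := g * (fr.w * u * fr.w⁻¹)⁻¹ * g⁻¹ with hrd
  have hrK : r ∈ K := mul_mem (mul_mem hg (inv_mem (mul_mem (mul_mem fr.w_mem hu) (inv_mem fr.w_mem))))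
    (inv_mem hg)
  have hud : dev (fr.w * u * fr.w⁻¹) = fr.b * δ := by rw [fr.conj_w_dev hδC hue, mul_neg, neg_neg]
  have husq : dev (fr.w * u * fr.w⁻¹) * dev (fr.w * u * fr.w⁻¹) = 0 := by
    rw [hud, mul_assoc, tail_mul hδ.1.rb, zero_mul, mul_zero]
  set i := δ * γ' with hid
  set i' := γ * δ with hi'd
  have hi : fr.IsC i := isC_CC hδ.1 hγ'
  have hi' : fr.IsC i' := isC_CC hγ hδ.1
  have hmid : γ * i = fr.e := by
    show γ * (δ * γ') = fr.e
    rw [show δ * γ' = γ' * δ from h2, ← mul_assoc, hr]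
  have hrv : dev r = -(fr.b * δ + β * δ + i') + (fr.b * δ + β * δ + i') * α
      + (fr.b * i + β * i) * fr.a + fr.a := by
    have hme : γ * (δ * (γ' * fr.a)) = fr.a := by
      rw [← mul_assoc δ, ← mul_assoc γ, show γ * (δ * γ') = fr.e from hmid]
      exact fr.aba
    rw [hrd, dev_conj, exists_partner_mem.dev_inv_of_sq' husq, hud, hgv, hgi]
    simp only [up, mul_add, add_mul, mul_sub, sub_mul, one_mul, mul_one, mul_assoc, hA.rb, hB.right,
      hγ.right, hB.right', hγ.right', tail_mul hA.rb, tail_mul (hδ.1.mul_B hB), hδ.1.mul_B hB,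
      zero_mul, mul_zero, neg_mul, mul_neg, hid, hi'd, hme]
    abel
  have hr2 : dev r * dev r = 0 := by
    rw [hrd, dev_conj, exists_partner_mem.dev_inv_of_sq' husq]
    generalize dev (fr.w * u * fr.w⁻¹) = X at husq ⊢
    simp only [mul_assoc]
    rw [← mul_assoc ((g⁻¹ : GLM) : EndM), Units.inv_mul, one_mul, ← mul_assoc (-X), neg_mul_neg, husq,
      zero_mul, mul_zero]
  have hbr : fr.b * dev r = -(fr.b * i') + fr.b * (i' * α) + fr.b * fr.a := by
    rw [hrv]
    simp only [mul_add, add_mul, mul_neg, mul_assoc, hB.lb, tail_mul hB.lb, tail_mul fr.hbb, zero_mul,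
      mul_zero, add_zero, zero_add]
  have hrb : dev r * fr.b = fr.b * i + β * i + fr.a * fr.b := by
    rw [hrv]
    simp only [mul_add, add_mul, neg_mul, mul_assoc, hi'.rb, hδ.1.rb, hA.rb, hi.right, zero_mul,
      mul_zero, neg_zero, add_zero, zero_add]
  have hbrb : fr.b * dev r * fr.b = fr.b := by
    rw [hbr]
    simp only [add_mul, neg_mul, mul_assoc, hi'.rb, hA.rb, mul_zero, neg_zero, zero_add, fr.hbab]
  have hrbr : dev r * fr.b * dev r = dev r := by
    rw [hrb, hrv]
    have ei : i * i' = δ := by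
      rw [hi'd, ← mul_assoc, hid, mul_assoc δ, show γ' * γ = γ * γ' from (fr.shift_comm hA hB c).symm, hl,
        e_mul hδ.1]
    have ei' : ∀ y, i * (i' * y) = δ * y := fun y => tail_mul ei y
    simp only [mul_add, add_mul, mul_neg, neg_mul, mul_assoc, hB.lb, hB.la, tail_mul hB.lb, tail_mul hB.la,
      hi.mul_B hB, tail_mul (hi.mul_B hB), hB.mul_B hB, tail_mul (hB.mul_B hB), hi.rb, tail_mul hi.rb, hB.rb,
      tail_mul hB.rb, fr.hbb, tail_mul fr.hbb, fr.haba, fr.haba', fr.hbab, fr.hbab', hδ.1.left, hδ.1.left',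
      hi.left, hi.left', hi'.left, hi'.left', ei, ei', hi.right, hi.right', zero_mul, mul_zero, neg_zero,
      add_zero, zero_add, mul_e hi, hi.la, fr.haa, tail_mul fr.haa]
    abel
  obtain ⟨hw', -⟩ := exists_swap hbrb hrbr fr.hbb hr2
  set w' := fr.t * r⁻¹ * fr.t
  have hw'K : w' ∈ K := mul_mem (mul_mem fr.htK (inv_mem hrK)) fr.htK
  have hz' : ((w' * w' : GLM) : EndM) = 1 - (2 : F) • (fr.b * dev r + dev r * fr.b) := by
    have p1 : fr.b * (dev r * fr.b) = fr.b := by rw [← mul_assoc, hbrb]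
    have p2 : dev r * (fr.b * dev r) = dev r := by rw [← mul_assoc, hrbr]
    have p1' : ∀ y, fr.b * (dev r * (fr.b * y)) = fr.b * y := fun y => by
      rw [← mul_assoc (dev r), ← mul_assoc fr.b, p1]
    have p2' : ∀ y, dev r * (fr.b * (dev r * y)) = dev r * y := fun y => by
      rw [← mul_assoc fr.b, ← mul_assoc (dev r), p2]
    rw [Units.val_mul, hw']
    simp only [mul_add, add_mul, mul_sub, sub_mul, one_mul, mul_one, mul_assoc, fr.hbb, hr2, p1, p2, p1',
      p2', tail_mul fr.hbb, tail_mul hr2, zero_mul, mul_zero, two_smul]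
    abel
  have hX : ((fr.z * (w' * w') : GLM) : EndM) = (fr.w : EndM)
      * fr.up ((-2 : F) • (i' * α)) ((-2 : F) • (β * i)) ((-2 : F) • (i - i')) * ((fr.w⁻¹ : GLM) : EndM) := by
    rw [w_conj ((isA_CA hi' hA).smul _) ((isB_BC hB hi).smul _) ((hi.sub hi').smul _), Units.val_mul, hz',
      z_val, hbr, hrb]
    simp only [neg_smul, two_smul, mul_add, add_mul, mul_sub, sub_mul, one_mul, mul_one, mul_neg, mul_assoc,
      hB.la, hB.lb, tail_mul hB.la, tail_mul hB.lb, fr.haa, fr.hbb, fr.haba, fr.hbab, fr.haba', fr.hbab',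
      tail_mul fr.haa, tail_mul fr.hbb, hi.left, hi'.left', hi.la, hi'.la, tail_mul hi'.la,
      zero_mul, mul_zero, neg_zero]
    abel
  have hV := fr.memV_of_up (g := fr.w⁻¹ * (fr.z * (w' * w')) * fr.w)
    (mul_mem (mul_mem (inv_mem fr.w_mem) (mul_mem fr.z_mem (mul_mem hw'K hw'K))) fr.w_mem)
    ((isA_CA hi' hA).smul (-2 : F)) ((isB_BC hB hi).smul (-2 : F)) ((hi.sub hi').smul (-2 : F)) (by
      rw [Units.val_mul, Units.val_mul, hX]
      simp only [← mul_assoc, Units.inv_mul, one_mul]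
      rw [mul_assoc, Units.inv_mul, mul_one])
  have h2ne : (-2 : F) ≠ 0 := neg_ne_zero.2 (two_ne fr.h5)
  simpa [smul_smul, inv_mul_cancel₀ h2ne, inv_mul_cancel₀ (two_ne fr.h5)] using fr.memV_smul hV ((-2 : F)⁻¹)

end Frame

end Cfsg.Agent.EquiQuad
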