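import Cfsg.Agent.Lib.EquiQuad.Levi

/-!
The operators on the coordinates coming from block diagonal elements.
-/

set_option autoImplicit false
set_option linter.unusedSimpArgs false

namespace Cfsg.Agent.EquiQuad

open UniFamily QuadPair

variable {p : ℕ} [hp : Fact p.Prime] {M : Type} [AddCommGroup M] [Module (ZMod p) M]

local notation "F" => ZMod p
local notation "GLM" => LinearMap.GeneralLinearGroup (ZMod p) M
local notation "EndM" => M →ₗ[ZMod p] M

namespace Frame

variable {G K : Subgroup (LinearMap.GeneralLinearGroup (ZMod p) M)} (fr : Frame G K)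
variable [FiniteDimensional (ZMod p) M]

/-- Multiplication by a non-zero central coordinate. -/
theorem memV_delta {δ α β : EndM} (hδ : fr.MemA δ) (h : fr.MemV α β) : fr.MemV (δ * α) (β * δ) := by
  by_cases h0 : δ = 0
  · subst h0; simpa using fr.memV_zero
  obtain ⟨δ', hδ', r, l⟩ := fr.memA_inv hδ h0
  obtain ⟨ℓ, hℓ, hblk, -, -, hact⟩ := fr.op_delta hδ hδ' r l
  have := fr.memV_blk hblk (fr.hKG hℓ) h
  rwa [(hact α β h.1 h.2.1).1, (hact α β h.1 h.2.1).2] at this

/-- The element producing the twisted operator of a coordinate pair. -/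
theorem op_good {α β : EndM} (h : fr.MemV α β) {c : F} {δ : EndM} (hδ : fr.MemA δ)
    (hr : (c • fr.e + ff α β) * (c • fr.e - ff α β) * δ = fr.e)
    (hl : δ * ((c • fr.e + ff α β) * (c • fr.e - ff α β)) = fr.e)
    (h1 : δ * (c • fr.e + ff α β) = (c • fr.e + ff α β) * δ)
    (h2 : δ * (c • fr.e - ff α β) = (c • fr.e - ff α β) * δ)
    :
    ∃ ℓ ∈ K, fr.Blk ℓ ∧ (ℓ : EndM) * fr.e = -((c • fr.e + ff α β) * δ) ∧
      (∀ x, fr.IsA x → x * ((ℓ⁻¹ : GLM) : EndM) = x + x * β * ((c • fr.e + ff α β) * δ) * α) ∧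
      ∀ x y, fr.IsA x → fr.IsB y →
      (ℓ : EndM) * x * ((ℓ⁻¹ : GLM) : EndM)
          = -((c • fr.e + ff α β) * δ * (x + x * β * ((c • fr.e + ff α β) * δ) * α)) ∧
      (ℓ : EndM) * y * fr.a * ((ℓ⁻¹ : GLM) : EndM) * fr.b
          = -((y - β * (δ * (c • fr.e - ff α β)) * α * y) * (δ * (c • fr.e - ff α β))) := by
  have hcomm := fr.shift_comm h.1 h.2.1 c
  have h0 := h
  obtain ⟨hA, hB, g0, hg0, he0⟩ := h0
  obtain ⟨hC, g', hg', he'⟩ := fr.memA_smul fr.memA_e c
  have hf := (isC_AB hA hB).smul (half : F)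
  set γ := c • fr.e + ff α β with hγd
  set γ' := c • fr.e - ff α β with hγ'd
  have hγ : fr.IsC γ := hC.add hf
  have hγ' : fr.IsC γ' := hC.sub hf
  set g := g' * g0 with hgd
  have hg : g ∈ K := mul_mem hg' hg0
  have hgv : (g : EndM) = fr.up α β γ := by
    rw [Units.val_mul, he', he0, up_mul isA_zero isB_zero hC hA hB hf]
    simp [hγd]
  -- the lower element
  have hn1 : -c • fr.e + ff α β = -γ' := by rw [hγ'd, neg_smul]; abel
  have hn2 : -c • fr.e - ff α β = -γ := by rw [hγd, neg_smul]; abel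
  have hV : fr.MemV (δ * γ' * α) (β * (γ * δ)) := by
    have := fr.memV_neg (fr.phi h (c := -c) hδ (by rw [hn1, hn2, neg_mul_neg, ← hcomm, hr])
      (by rw [hn1, hn2, neg_mul_neg, ← hcomm, hl]) (by rw [hn1, mul_neg, neg_mul, h2])
      (by rw [hn2, mul_neg, neg_mul, h1]))
    rw [hn1, hn2] at this
    simpa [← h2, h1, neg_mul, mul_neg] using this
  obtain ⟨hA', hB', l0, hl0, hl0e⟩ := hV
  obtain ⟨hcδ, d, hd, hde⟩ := fr.memA_smul hδ c
  have hi' : fr.IsC (γ * δ) := isC_CC hγ hδ.1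
  have hi : fr.IsC (δ * γ') := isC_CC hδ.1 hγ'
  have hf' := (isC_AB hA' hB').smul (half : F)
  have hlv : ((d * l0 : GLM) : EndM) = fr.up (δ * γ' * α) (β * (γ * δ)) (γ * δ) := by
    rw [Units.val_mul, hde, hl0e, up_mul isA_zero isB_zero hcδ hA' hB' hf']
    have e1 : (half : F) • (δ * γ' * α * (β * (γ * δ))) = ff α β * δ := by
      have k1 : (half : F) • (δ * γ' * α * (β * (γ * δ))) = δ * γ' * (ff α β) * (γ * δ) := by
        simp only [ff, smul_mul_assoc, mul_smul_comm, mul_assoc]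
      have hef : fr.e * ff α β = ff α β := e_mul hf
      have hfe : ff α β * fr.e = ff α β := mul_e hf
      have k2 : γ' * ff α β = ff α β * γ' := by
        rw [hγ'd]
        generalize ff α β = t at hef hfe ⊢
        simp only [sub_mul, mul_sub, smul_mul_assoc, mul_smul_comm, hef, hfe]
      have k3 : δ * ff α β = ff α β * δ := by
        have : ff α β = γ - c • fr.e := by rw [hγd]; abel
        rw [this, mul_sub, sub_mul, h1, mul_smul_comm, smul_mul_assoc, mul_e hδ.1, e_mul hδ.1]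
      rw [k1, mul_assoc δ γ', k2, ← mul_assoc δ, k3, mul_assoc, mul_assoc, ← mul_assoc γ' γ δ, ← hcomm, hr,
        mul_e hδ.1]
    rw [zero_add, zero_add, zero_mul, add_zero, e1]
    congr 1
    rw [hγd, add_mul]
    simp only [smul_mul_assoc, e_mul hδ.1]
  set x0 := fr.w * g * (fr.w * (d * l0) * fr.w⁻¹) with hx0d
  have hx0 : x0 ∈ K :=
    mul_mem (mul_mem fr.w_mem hg) (mul_mem (mul_mem fr.w_mem (mul_mem hd hl0)) (inv_mem fr.w_mem))
  have hv0 : (x0 : EndM) = (fr.w : EndM) * fr.up α β γ * (1 - fr.b * (δ * γ' * α) + β * (γ * δ) - fr.b * (γ * δ)) := by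
    rw [hx0d, Units.val_mul, Units.val_mul, Units.val_mul (fr.w * (d * l0)), Units.val_mul fr.w (d * l0), hgv, hlv,
      w_conj hA' hB' hi']
  have q1 : γ * (δ * γ') = fr.e := by rw [h2, ← mul_assoc, hr]
  have q1' : ∀ z, γ * (δ * (γ' * z)) = fr.a * (fr.b * z) := fun z => by
    rw [← mul_assoc δ, ← mul_assoc γ, q1, mul_assoc]
  have q2 : γ' * (γ * δ) = fr.e := by rw [← mul_assoc, ← hcomm, hr]
  have q2' : ∀ z, γ' * (γ * (δ * z)) = fr.a * (fr.b * z) := fun z => by
    rw [← mul_assoc γ, ← mul_assoc γ', q2, mul_assoc]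
  have hab : ∀ z, α * (β * z) = γ * z - γ' * z := fun z => by
    rw [← mul_assoc, ← two_ff fr.h5 α β, hγd, hγ'd]
    simp only [add_mul, sub_mul]
    abel
  have hxa : (x0 : EndM) * fr.a = -(γ * δ * fr.a) := by
    rw [hv0, w_val]
    simp only [up, mul_add, add_mul, mul_sub, sub_mul, one_mul, mul_one, mul_neg, neg_mul, mul_assoc, hab,
      hA.la, hA.ra, hA.rb, hA.left, hA.left', tail_mul hA.la, tail_mul hA.ra, tail_mul hA.rb,
      hB.la, hB.lb, hB.right, hB.right', tail_mul hB.la, tail_mul hB.lb, q1', q2',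
      hγ.left, hγ.left', hγ.right', hγ.la, tail_mul hγ.la, tail_mul hγ.rb,
      hγ'.left', hδ.1.left', tail_mul hδ.1.la, fr.haa, fr.hbb, fr.haba, fr.haba', fr.hbab, fr.hbab',
      tail_mul fr.haa, tail_mul fr.hbb, mul_zero, zero_mul]
    abel
  set E0 : EndM := 1 - fr.a * fr.b - fr.b * fr.a with hE0
  have hxE : (x0 : EndM) * E0 = E0 - δ * γ' * α - β * (δ * γ' * α) := by
    rw [hv0, w_val, hE0]
    simp only [up, mul_add, add_mul, mul_sub, sub_mul, one_mul, mul_one, mul_neg, neg_mul, mul_assoc, hab,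
      hA.la, hA.ra, hA.rb, hA.left, hA.left', tail_mul hA.la, tail_mul hA.ra, tail_mul hA.rb,
      hB.la, hB.lb, hB.right, hB.right', tail_mul hB.la, tail_mul hB.lb, q1', q2',
      hγ.left, hγ.left', hγ.right, hγ.right', hγ.la, hγ.rb, tail_mul hγ.la, tail_mul hγ.rb,
      hγ'.left', hδ.1.left, hδ.1.left', hδ.1.right, hδ.1.right', hδ.1.rb, tail_mul hδ.1.rb,
      tail_mul hδ.1.la, fr.haa, fr.hbb, fr.haba, fr.haba', fr.hbab, fr.hbab',
      tail_mul fr.haa, tail_mul fr.hbb, mul_zero, zero_mul]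
    abel
  have hxb : (x0 : EndM) * fr.b = fr.a * fr.b + β - fr.b * γ := by
    rw [hv0, w_val]
    simp only [up, mul_add, add_mul, mul_sub, sub_mul, one_mul, mul_one, mul_neg, neg_mul, mul_assoc, hab,
      hA.la, hA.ra, hA.rb, hA.left', tail_mul hA.ra, tail_mul hA.rb, hB.la, hB.lb, hB.right, hB.right',
      tail_mul hB.la, tail_mul hB.lb, hγ.left, hγ.left', hγ.right, hγ.la, tail_mul hγ.la, hδ.1.rb,
      fr.haa, fr.hbb, fr.haba, fr.haba', fr.hbab, fr.hbab', tail_mul fr.haa, tail_mul fr.hbb, mul_zero, zero_mul]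
    abel
  have haE : fr.a * ((x0 : EndM) * E0) = 0 := by
    rw [hxE, hE0]
    simp only [mul_sub, mul_one, ← mul_assoc, fr.haa, zero_mul, sub_zero, hB.la]
    rw [show fr.a * δ = 0 from hδ.1.la, show fr.a * fr.b * fr.a = fr.a from fr.aba]
    simp
  have hxab : fr.a * ((x0 : EndM) * (fr.a * fr.b)) = 0 := by
    rw [← mul_assoc (x0 : EndM), hxa, neg_mul, mul_neg, mul_assoc, mul_assoc, ← mul_assoc fr.a γ, hγ.la,
      zero_mul, neg_zero]
  have hfix : act x0 (key fr.s) = key fr.s := by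
    have hk : fr.a * (x0 : EndM) = fr.a * (x0 : EndM) * (fr.b * fr.a) := by
      have e : (x0 : EndM) = (x0 : EndM) * E0 + (x0 : EndM) * (fr.a * fr.b) + (x0 : EndM) * (fr.b * fr.a) := by
        rw [hE0]; simp only [mul_sub, mul_one]; abel
      conv_lhs => rw [e]
      rw [mul_add, mul_add, haE, hxab, zero_add, zero_add, mul_assoc]
    refine Prod.ext ?_ ?_
    · refine Submodule.eq_of_le_of_finrank_eq ?_
        (Submodule.equivMapOfInjective _ (gl_injective x0) _).finrank_eq.symm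
      rintro _ ⟨_, ⟨v, rfl⟩, rfl⟩
      show (x0 : EndM) (fr.a v) ∈ LinearMap.range fr.a
      rw [← Module.End.mul_apply, hxa, ← hi'.left, mul_assoc, ← mul_neg, Module.End.mul_apply]
      exact ⟨_, rfl⟩
    · refine Submodule.eq_of_le_of_finrank_eq ?_
        (Submodule.equivMapOfInjective _ (gl_injective x0) _).finrank_eq.symm
      rintro _ ⟨v, hv, rfl⟩
      show fr.a ((x0 : EndM) v) = 0
      rw [← Module.End.mul_apply, hk, Module.End.mul_apply, Module.End.mul_apply fr.b,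
        show fr.a v = 0 from hv, map_zero, map_zero]
  obtain ⟨u, -, αu, βu, γu, hAu, hBu, hCu, huv, ℓ, hℓ, hblk, hxl⟩ := fr.levi hx0 hfix
  have hℓv : (ℓ : EndM) = fr.up (-αu) (-βu) (αu * βu - γu) * (x0 : EndM) := by
    rw [← up_inv hAu hBu hCu huv, ← Units.val_mul]
    congr 1
    rw [hxl]; group
  have hCu' := (isC_AB hAu hBu).sub hCu
  have c1 : ∀ x, fr.a * (fr.b * x) = x → (ℓ : EndM) * x = -(γ * δ * x) := by
    intro x hx
    have : (x0 : EndM) * x = -(γ * δ * x) := by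
      rw [← hx, ← mul_assoc, hxa, neg_mul, mul_assoc]
    rw [hℓv, mul_assoc, this, up]
    simp only [add_mul, one_mul, mul_neg, neg_mul, mul_assoc, tail_mul (hAu.mul_C hγ), tail_mul hγ.la,
      mul_zero, zero_mul, neg_zero, add_zero]
  have c2 : ∀ x, fr.IsA x → x * ((ℓ⁻¹ : GLM) : EndM) = x + x * β * (γ * δ) * α := by
    intro x hX
    set z := x + x * β * (γ * δ) * α with hz
    have hzA : fr.IsA z := hX.add (isA_CA (isC_CC (isC_AB hX hB) hi') hA)
    have c2 : x * ((ℓ⁻¹ : GLM) : EndM) = z := by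
      have hzl : z * (ℓ : EndM) = x := by
        have e0 : z * (ℓ : EndM) = z * (ℓ : EndM) * E0 := by
          obtain ⟨k1, k2⟩ := hblk
          have za : z * (fr.a * fr.b) = 0 := by rw [← mul_assoc, hzA.ra, zero_mul]
          have zb : z * (fr.b * fr.a) = 0 := by rw [← mul_assoc, hzA.rb, zero_mul]
          rw [hE0, mul_assoc z]
          simp only [mul_sub, mul_one]
          rw [k1, k2, ← mul_assoc z (fr.a * fr.b), za, ← mul_assoc z (fr.b * fr.a), zb, zero_mul, sub_zero,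
            sub_zero]
        rw [e0, hℓv, mul_assoc, mul_assoc, hxE, up]
        have za' : ∀ v, z * (αu * v) = 0 := fun v => by rw [← mul_assoc, hzA.mul_A hAu, zero_mul]
        simp only [add_mul, mul_add, one_mul, mul_neg, neg_mul, mul_assoc, za',
          tail_mul (hzA.mul_C hCu'), zero_mul, mul_zero, neg_zero, add_zero, zero_add]
        have haA : fr.a * (E0 - δ * γ' * α - β * (δ * γ' * α)) = 0 := by rw [← hxE]; exact haE
        simp only [mul_assoc] at haA
        rw [haA, mul_zero, mul_zero, neg_zero, add_zero]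
        have zE : z * E0 = z := by
          rw [hE0, mul_sub, mul_sub, mul_one, ← mul_assoc, hzA.ra, ← mul_assoc, hzA.rb]; simp
        rw [mul_sub, mul_sub, zE, ← mul_assoc z δ, hzA.mul_C hδ.1, zero_mul, sub_zero, hz]
        have e1 : x * β * (γ * δ) * α * (β * (δ * (γ' * α))) = x * β * (γ * δ) * α - x * β * (δ * γ') * α := by
          rw [mul_assoc _ α, hab]
          simp only [mul_sub, mul_assoc, q1', q2', hA.left, hA.left']
          simp only [hδ.1.left']
        rw [add_mul x, e1]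
        simp only [mul_assoc]
        abel
      rw [← hzl, mul_assoc, Units.mul_inv, mul_one]
    exact c2
  refine ⟨ℓ, hℓ, hblk, ?_, c2, fun x y hX hY => ?_⟩
  · rw [c1 fr.e (isC_e.left), mul_assoc γ δ, mul_e hδ.1]
  have c3 : (ℓ : EndM) * y = y - β * (δ * γ') * α * y := by
    obtain ⟨k1, k2⟩ := hblk
    have yE : E0 * y = y := by
      rw [hE0, sub_mul, sub_mul, one_mul, mul_assoc, hY.lb, mul_assoc, hY.la]; simp
    have eE : E0 * ((ℓ : EndM) * y) = (ℓ : EndM) * y := by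
      conv_rhs => rw [← yE, ← mul_assoc]
      rw [← mul_assoc, hE0]
      simp only [sub_mul, mul_sub, one_mul, mul_one]
      rw [k1, k2]
    rw [← eE]
    conv_lhs => rw [← yE, hℓv, mul_assoc _ (x0 : EndM), ← mul_assoc (x0 : EndM), hxE]
    have haA : fr.a * ((E0 - δ * γ' * α - β * (δ * γ' * α)) * y) = 0 := by
      rw [← mul_assoc, ← hxE, haE, zero_mul]
    have eA : ∀ X, fr.IsA X → E0 * X = 0 := fun X hX => by
      rw [hE0, sub_mul, sub_mul, one_mul, mul_assoc, mul_assoc, hX.left, hX.la, mul_zero]; simp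
    have eC : ∀ X, fr.IsC X → E0 * X = 0 := fun X hX => by
      rw [hE0, sub_mul, sub_mul, one_mul, mul_assoc, mul_assoc, hX.left, hX.la, mul_zero]; simp
    rw [up]
    simp only [add_mul, mul_add, one_mul, neg_mul, mul_neg, mul_assoc, haA,
      tail_mul (eA _ hAu), tail_mul (eC _ hCu'), mul_zero, zero_mul, neg_zero, add_zero]
    have eB : E0 * β = β := by
      rw [hE0, sub_mul, sub_mul, one_mul, mul_assoc, hB.lb, mul_assoc, hB.la]; simp
    have eE0 : E0 * E0 = E0 := by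
      rw [hE0]
      simp only [mul_sub, sub_mul, one_mul, mul_one, mul_assoc, fr.haba', fr.hbab', fr.haba, fr.hbab,
        tail_mul fr.haa, tail_mul fr.hbb, mul_zero, zero_mul]
      abel
    have eP : (E0 - δ * (γ' * α) - β * (δ * (γ' * α))) * y = y - δ * (γ' * (α * y)) - β * (δ * (γ' * (α * y))) := by
      simp only [sub_mul, yE, mul_assoc]
    rw [eP]
    generalize hy1 : δ * (γ' * (α * y)) = r
    have er : E0 * r = 0 := by rw [← hy1, ← mul_assoc, eC δ hδ.1, zero_mul]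
    have ar : fr.a * r = 0 := by rw [← hy1, ← mul_assoc, hδ.1.la, zero_mul]
    simp only [mul_sub, yE, er, ar, hY.la, tail_mul hB.la, tail_mul eB, zero_mul, mul_zero, sub_zero, neg_zero,
      add_zero]
  have c4 : fr.a * ((ℓ⁻¹ : GLM) : EndM) * fr.b = -(δ * γ') := by
    obtain ⟨k1, k2⟩ := fr.blk_inv hblk
    have e1 : fr.a * (ℓ : EndM) * fr.b = -γ := by
      rw [hℓv, mul_assoc, mul_assoc, hxb, up]
      simp only [add_mul, mul_add, mul_sub, one_mul, neg_mul, mul_neg, mul_assoc, hAu.la, hBu.la, hCu'.la,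
        tail_mul hAu.la, tail_mul hBu.la, tail_mul hCu'.la, hγ.left, fr.haa, tail_mul fr.haa, hB.la,
        zero_mul, mul_zero, neg_zero, add_zero, zero_add, sub_zero, zero_sub]
    have e2 : fr.a * ((ℓ⁻¹ : GLM) : EndM) * fr.b * (fr.a * (ℓ : EndM) * fr.b) = fr.e := by
      calc _ = fr.a * (((ℓ⁻¹ : GLM) : EndM) * (fr.b * fr.a)) * (ℓ : EndM) * fr.b := by simp only [mul_assoc]
        _ = fr.a * (fr.b * fr.a) * (((ℓ⁻¹ : GLM) : EndM) * (ℓ : EndM)) * fr.b := by
          rw [k2]; simp only [mul_assoc]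
        _ = _ := by rw [Units.inv_mul, mul_one, fr.haba]
    rw [e1, mul_neg, neg_eq_iff_eq_neg] at e2
    have e3 : fr.a * ((ℓ⁻¹ : GLM) : EndM) * fr.b * fr.e = fr.a * ((ℓ⁻¹ : GLM) : EndM) * fr.b := by
      rw [mul_assoc, mul_assoc, fr.hbab, ← mul_assoc]
    rw [← e3, ← q1, ← mul_assoc, e2, neg_mul, e_mul hi]
  refine ⟨?_, ?_⟩
  · rw [c1 x hX.left, neg_mul, mul_assoc, c2 x hX]
  · rw [mul_assoc _ fr.a, mul_assoc, c4, c3, mul_neg]

/-- A convenient form of the twisted operator. -/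
theorem op_twist {α β : EndM} (h : fr.MemV α β) :
    ∃ c : F, c ≠ 0 ∧ ∃ δ, fr.MemA δ ∧ fr.MemA ((c • fr.e + ff α β) * (c • fr.e - ff α β)) ∧
      (c • fr.e + ff α β) * (c • fr.e - ff α β) * δ = fr.e ∧
      δ * ((c • fr.e + ff α β) * (c • fr.e - ff α β)) = fr.e ∧
      δ * (c • fr.e + ff α β) = (c • fr.e + ff α β) * δ ∧
      δ * (c • fr.e - ff α β) = (c • fr.e - ff α β) * δ := by
  obtain ⟨c, hc, h0⟩ := fr.exists_good h.1 h.2.1
  obtain ⟨δ, hδ, r1, r2, r3, r4⟩ := fr.shift_inv h h0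
  exact ⟨c, hc, δ, hδ, fr.memA_shift h c, r1, r2, r3, r4⟩

end Frame

end Cfsg.Agent.EquiQuad
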