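import Cfsg.Agent.Lib.EquiQuad.Basic

/-!
Finite p-groups of linear maps over the prime field of characteristic p are unipotent, and conversely.
-/

set_option autoImplicit false

namespace Cfsg.Agent.EquiQuad

open UniFamily QuadPair

variable {p : ℕ} [hp : Fact p.Prime] {M : Type} [AddCommGroup M] [Module (ZMod p) M] [FiniteDimensional (ZMod p) M]

local notation "F" => ZMod p
local notation "GLM" => LinearMap.GeneralLinearGroup (ZMod p) M
local notation "EndM" => M →ₗ[ZMod p] M

/-- Some vector outside a proper invariant subspace is moved only inside it. -/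
theorem exists_fixed_mod {P : Subgroup GLM} (hP : IsPGroup p P) {S : Submodule F M}
    (hS : ∀ g ∈ P, ∀ v ∈ S, (g : EndM) v ∈ S) (htop : S ≠ ⊤) :
    ∃ v ∉ S, ∀ g ∈ P, dev g v ∈ S := by
  classical
  haveI : Finite M := Module.finite_of_finite F
  haveI : Finite (M ⧸ S) := Quotient.finite _
  let act' : P → M ⧸ S → M ⧸ S := fun g => S.mapQ S (g.1 : EndM) (fun v hv => hS g.1 g.2 v hv)
  letI : MulAction P (M ⧸ S) :=
    { smul := act'
      one_smul := fun v => by
        obtain ⟨m, rfl⟩ := Submodule.Quotient.mk_surjective S v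
        rfl
      mul_smul := fun g h v => by
        obtain ⟨m, rfl⟩ := Submodule.Quotient.mk_surjective S v
        rfl }
  haveI : Nontrivial (M ⧸ S) := Submodule.Quotient.nontrivial_iff.2 htop
  have hdvd : p ∣ Nat.card (M ⧸ S) := by
    haveI : Fintype (M ⧸ S) := Fintype.ofFinite _
    rw [Nat.card_eq_fintype_card, Module.card_eq_pow_finrank (K := F), ZMod.card]
    exact dvd_pow_self _ (Module.finrank_pos (R := F) (M := M ⧸ S)).ne'
  have h0 : (0 : M ⧸ S) ∈ MulAction.fixedPoints P (M ⧸ S) := fun g => map_zero _
  obtain ⟨q, hq, hne⟩ := hP.exists_fixed_point_of_prime_dvd_card_of_fixed_point (M ⧸ S) hdvd h0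
  obtain ⟨v, rfl⟩ := Submodule.Quotient.mk_surjective S q
  refine ⟨v, fun hv => hne ((Submodule.Quotient.mk_eq_zero S).2 hv).symm, fun g hg => ?_⟩
  rw [dev_apply]
  exact (Submodule.Quotient.eq S).1 (hq ⟨g, hg⟩)

theorem unipotent_of_pgroup {P : Subgroup GLM} (hP : IsPGroup p P) : Cfsg.IsUnipotentOn P := by
  classical
  let next : Submodule F M → Submodule F M := fun S => ⨅ g ∈ P, S.comap (dev g)
  let ser : ℕ → Submodule F M := fun n => next^[n] ⊥
  have hmem : ∀ n v, v ∈ ser (n + 1) ↔ ∀ g ∈ P, dev g v ∈ ser n := fun n v => by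
    show v ∈ next^[n + 1] ⊥ ↔ _
    rw [Function.iterate_succ_apply']
    simp only [next, Submodule.mem_iInf, Submodule.mem_comap]
    rfl
  have hmono : ∀ n, ser n ≤ ser (n + 1) := by
    intro n
    induction n with
    | zero => exact bot_le
    | succ n ih => exact fun v hv => (hmem _ v).2 fun g hg => ih ((hmem _ v).1 hv g hg)
  have hinv : ∀ n, ∀ g ∈ P, ∀ v ∈ ser n, (g : EndM) v ∈ ser n := by
    intro n
    induction n with
    | zero =>
      intro g _ v hv
      rw [show v = 0 from (Submodule.mem_bot F).1 hv, map_zero]; exact zero_mem _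
    | succ n ih =>
      intro g hg v hv
      rw [show (g : EndM) v = dev g v + v by rw [dev_apply]; abel]
      exact Submodule.add_mem _ (hmono n ((hmem n v).1 hv g hg)) hv
  have hgrow : ∀ n, ser n = ⊤ ∨ n ≤ Module.finrank F (ser n) := by
    intro n
    induction n with
    | zero => exact Or.inr (Nat.zero_le _)
    | succ n ih =>
      rcases ih with h | h
      · exact Or.inl (top_le_iff.1 (h ▸ hmono n))
      · by_cases htop : ser n = ⊤
        · exact Or.inl (top_le_iff.1 (htop ▸ hmono n))
        · obtain ⟨v, hv, hv'⟩ := exists_fixed_mod hP (hinv n) htop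
          refine Or.inr ?_
          have := Submodule.finrank_lt_finrank_of_lt (lt_of_le_of_ne (hmono n)
            fun e => hv (e ▸ (hmem n v).2 hv'))
          omega
  set N := Module.finrank F M + 1
  have hN : ser N = ⊤ := by
    rcases hgrow N with h | h
    · exact h
    · have := Submodule.finrank_le (ser N); omega
  refine ⟨N, fun l hl hlen => ?_⟩
  refine (prod_dev l).trans (LinearMap.ext fun v => ?_)
  suffices ∀ (l : List GLM) j, (∀ g ∈ l, g ∈ P) → ∀ v ∈ ser (j + l.length), (l.map dev).prod v ∈ ser j by
    have := this l 0 hl v (by rw [zero_add, hlen, hN]; trivial)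
    exact (Submodule.mem_bot F).1 this
  intro l
  induction l with
  | nil => intro j _ v hv; simpa using hv
  | cons g l ih =>
    intro j hl v hv
    rw [List.map_cons, List.prod_cons, Module.End.mul_apply]
    refine (hmem j _).1 (ih (j + 1) (fun x hx => hl x (by simp [hx])) v ?_) g (hl g (by simp))
    rwa [List.length_cons, show j + (l.length + 1) = j + 1 + l.length by omega] at hv

end Cfsg.Agent.EquiQuad
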