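import Cfsg.Agent.Lib.EquiQuad.Rad

/-!
A quadratic element of a unipotent group of block diagonal elements normalised by the block diagonal part of `K`
centralises `K`.
-/

set_option autoImplicit false
set_option linter.unusedSimpArgs false

namespace Cfsg.Agent.EquiQuad

open UniFamily QuadPair

variable {p : ℕ} [hp : Fact p.Prime] {M : Type} [AddCommGroup M] [Module (ZMod p) M]

local notation "F" => ZMod p
local notation "GLM" => LinearMap.GeneralLinearGroup (ZMod p) M
local notation "EndM" => M →ₗ[ZMod p] M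

theorem prod_eq_zero_of_le {Q : Subgroup GLM} {n : ℕ}
    (hn : ∀ l : List GLM, (∀ g ∈ l, g ∈ Q) → l.length = n → (l.map dev).prod = 0)
    (l : List GLM) (hl : ∀ g ∈ l, g ∈ Q) (h : n ≤ l.length) : (l.map dev).prod = 0 := by
  rw [← List.take_append_drop n l, List.map_append, List.prod_append,
    show ((l.take n).map dev).prod = 0 from
      hn _ (fun g hg => hl g (List.mem_of_mem_take hg)) (by rw [List.length_take]; omega), zero_mul]

theorem unip_dev {Q : Subgroup GLM} (h : Cfsg.IsUnipotentOn Q) :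
    ∃ n, ∀ l : List GLM, (∀ g ∈ l, g ∈ Q) → l.length = n → (l.map dev).prod = 0 :=
  let ⟨n, hn⟩ := h
  ⟨n, fun l hl hlen => (prod_dev l).symm.trans (hn l hl hlen)⟩

theorem dev_nilpotent {Q : Subgroup GLM} (hQ : Cfsg.IsUnipotentOn Q) {g : GLM} (hg : g ∈ Q) :
    IsNilpotent (dev g) := by
  obtain ⟨n, hn⟩ := unip_dev hQ
  refine ⟨n, ?_⟩
  have := prod_eq_zero_of_le hn (List.replicate n g) (fun x hx => by rw [List.eq_of_mem_replicate hx]; exact hg)
    (by simp)
  rwa [List.map_replicate, List.prod_replicate] at this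

/-- A unipotent group fixes a vector of every non-zero invariant subspace. -/
theorem exists_fixed {H : Subgroup GLM} (hH : Cfsg.IsUnipotentOn H) {S : Submodule F M}
    (hS : ∀ g ∈ H, ∀ v ∈ S, (g : EndM) v ∈ S) (h0 : S ≠ ⊥) :
    ∃ v ∈ S, v ≠ 0 ∧ ∀ g ∈ H, dev g v = 0 := by
  by_contra hne
  push Not at hne
  obtain ⟨m₀, hm, hm₀⟩ := Submodule.exists_mem_ne_zero_of_ne_bot h0
  obtain ⟨n, hn⟩ := unip_dev hH
  have : ∀ j, ∃ l : List GLM, (∀ g ∈ l, g ∈ H) ∧ l.length = j ∧ (l.map dev).prod m₀ ≠ 0 ∧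
      (l.map dev).prod m₀ ∈ S := by
    intro j
    induction j with
    | zero => exact ⟨[], by simp, rfl, by simpa using hm₀, by simpa using hm⟩
    | succ j ih =>
      obtain ⟨l, hl, hlen, hl0, hlS⟩ := ih
      obtain ⟨g, hg, hg0⟩ := hne _ hlS hl0
      refine ⟨g :: l, by simpa [hg] using hl, by simp [hlen], ?_, ?_⟩
      · rw [List.map_cons, List.prod_cons, Module.End.mul_apply]; exact hg0
      · rw [List.map_cons, List.prod_cons, Module.End.mul_apply, dev_apply]
        exact S.sub_mem (hS g hg _ hlS) hlS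
  obtain ⟨l, hl, hlen, hl0, -⟩ := this n
  exact hl0 (by rw [prod_eq_zero_of_le hn l hl hlen.ge]; rfl)

/-- Iterated commutators with a nilpotent family vanish. -/
theorem iter_comm_zero {Q : Subgroup GLM} {n : ℕ}
    (hn : ∀ l : List GLM, (∀ g ∈ l, g ∈ Q) → l.length = n → (l.map dev).prod = 0) :
    ∀ (L A B : List GLM) (z : EndM), (∀ g ∈ L, g ∈ Q) → (∀ g ∈ A, g ∈ Q) → (∀ g ∈ B, g ∈ Q) →
      2 * n ≤ A.length + B.length + L.length →
      (A.map dev).prod * L.foldr (fun g X => dev g * X - X * dev g) z * (B.map dev).prod = 0 := by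
  intro L
  induction L with
  | nil =>
    intro A B z _ hA hB h
    simp only [List.length_nil, add_zero] at h
    rcases Nat.lt_or_ge A.length n with h' | h'
    · rw [prod_eq_zero_of_le hn B hB (by omega), mul_zero]
    · rw [prod_eq_zero_of_le hn A hA h', zero_mul, zero_mul]
  | cons g L ih =>
    intro A B z hL hA hB h
    simp only [List.length_cons] at h
    have hg := hL g (by simp)
    have hL' : ∀ x ∈ L, x ∈ Q := fun x hx => hL x (by simp [hx])
    have e1 := ih (A ++ [g]) B z hL' (by simpa [or_imp, forall_and] using And.intro hA hg) hB (by simp; omega)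
    have e2 := ih A (g :: B) z hL' hA (by simpa [hg] using hB) (by simp; omega)
    rw [List.map_append, List.prod_append, List.map_cons, List.map_nil, List.prod_cons, List.prod_nil,
      mul_one] at e1
    rw [List.map_cons, List.prod_cons] at e2
    rw [List.foldr_cons, mul_sub, sub_mul, ← mul_assoc (A.map dev).prod, e1, mul_assoc, mul_assoc,
      ← mul_assoc (A.map dev).prod, e2, sub_zero]

namespace Frame

variable {G K : Subgroup (LinearMap.GeneralLinearGroup (ZMod p) M)} (fr : Frame G K)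
variable [FiniteDimensional (ZMod p) M]

/-- The products of coordinates lie in the algebra spanned by the corners of block diagonal elements. -/
theorem corner_span (C : Submodule F EndM) (hmul : ∀ X ∈ C, ∀ Y ∈ C, X * Y ∈ C)
    (hC : ∀ ℓ ∈ K, fr.Blk ℓ → (ℓ : EndM) * fr.e ∈ C) :
    (∀ γ, fr.MemA γ → γ ∈ C) ∧ ∀ α β α' β', fr.MemV α β → fr.MemV α' β' → α * β' ∈ C := by
  have hA : ∀ γ, fr.MemA γ → γ ∈ C := by
    intro γ hγ
    by_cases h0 : γ = 0
    · rw [h0]; exact C.zero_mem
    obtain ⟨δ', hδ', r, l⟩ := fr.memA_inv hγ h0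
    obtain ⟨ℓ, hℓ, hblk, he, -, -⟩ := fr.op_delta hγ hδ' r l
    rw [← he]; exact hC ℓ hℓ hblk
  have hff : ∀ α β, fr.MemV α β → ff α β ∈ C := by
    intro α β h
    obtain ⟨c, hc, δ, hδ, hsh, r1, r2, r3, r4⟩ := fr.op_twist h
    obtain ⟨ℓ, hℓ, hblk, he, -⟩ := fr.op_good h hδ r1 r2 r3 r4
    have h1 := C.neg_mem (hmul _ (hC ℓ hℓ hblk) _ (hA _ hsh))
    have hf := (isC_AB h.1 h.2.1).smul (half : F)
    rw [he, neg_mul, neg_neg, mul_assoc, r2, mul_e ((isC_e.smul c).add hf)] at h1
    simpa using C.sub_mem h1 (C.smul_mem c (hA _ fr.memA_e))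
  refine ⟨hA, fun α β α' β' h h' => ?_⟩
  have h1 := C.add_mem (C.sub_mem (C.sub_mem (hff _ _ (fr.memV_add h h')) (hff _ _ h)) (hff _ _ h'))
    (C.smul_mem (half : F) (hA _ (fr.memA_anti h h')))
  rwa [← smul_sub, ← smul_sub, ← smul_add, fr.memA_polar h h', smul_smul,
    inv_mul_cancel₀ (two_ne fr.h5), one_smul] at h1

omit [FiniteDimensional (ZMod p) M] in
theorem nilp_corner {D : EndM} (hD : D * (fr.b * fr.a) = fr.b * fr.a * D) (hn : IsNilpotent D) :
    IsNilpotent (fr.a * D * fr.b) := by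
  obtain ⟨n, hn⟩ := hn
  refine ⟨n + 1, ?_⟩
  have : ∀ j, (fr.a * D * fr.b) ^ (j + 1) = fr.a * D ^ (j + 1) * fr.b := by
    intro j
    induction j with
    | zero => simp
    | succ j ih =>
      rw [pow_succ, ih, pow_succ D (j + 1)]
      have hba : fr.b * fr.a * fr.b = fr.b := fr.bab
      calc fr.a * D ^ (j + 1) * fr.b * (fr.a * D * fr.b)
          = fr.a * D ^ (j + 1) * (fr.b * fr.a * D) * fr.b := by simp only [mul_assoc]
        _ = fr.a * D ^ (j + 1) * D * (fr.b * fr.a * fr.b) := by rw [← hD]; simp only [mul_assoc]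
        _ = _ := by rw [hba, mul_assoc fr.a]
  rw [this, pow_succ, hn, zero_mul, mul_zero, zero_mul]

theorem memA_nilp {γ : EndM} (h : fr.MemA γ) (hn : IsNilpotent γ) : γ = 0 := by
  by_contra h0
  obtain ⟨δ, hδ, r, l⟩ := fr.memA_inv h h0
  obtain ⟨n, hn⟩ := hn
  have : ∀ j, γ ^ (j + 1) * δ ^ (j + 1) = fr.e := by
    intro j
    induction j with
    | zero => simpa using r
    | succ j ih =>
      rw [pow_succ γ, pow_succ' δ (j + 1), mul_assoc, ← mul_assoc γ, r, pow_succ' δ j, ← mul_assoc fr.e,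
        e_mul hδ.1, ← pow_succ', ih]
  exact fr.e_ne (by rw [← this n, pow_succ, hn, zero_mul, zero_mul])

/-- A quadratic element of such a group commutes with the pair and with the corner operators. -/
theorem q_basic (hsemi : fr.Semi) (hgen : fr.HGen) (Q : Subgroup GLM) (hQG : Q ≤ G)
    (hQ : Cfsg.IsUnipotentOn Q) (hQb : ∀ q ∈ Q, fr.Blk q)
    (hQn : ∀ ℓ ∈ K, fr.Blk ℓ → ∀ q ∈ Q, ℓ * q * ℓ⁻¹ ∈ Q) {x : GLM} (hx : x ∈ Q)
    (hsq : dev x * dev x = 0) :
    dev x * fr.a = fr.a * dev x ∧ dev x * fr.b = fr.b * dev x ∧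
      (∀ γ, fr.MemA γ → dev x * γ = γ * dev x) ∧
      ∀ α β α' β', fr.MemV α β → fr.MemV α' β' → dev x * (α * β') = α * β' * dev x := by
  classical
  set H := Q ⊓ K with hH
  have hHu : Cfsg.IsUnipotentOn H := UniFamily.mono inf_le_left hQ
  have blkdev : ∀ q, fr.Blk q → dev q * (fr.a * fr.b) = fr.a * fr.b * dev q ∧
      dev q * (fr.b * fr.a) = fr.b * fr.a * dev q := fun q h => by
    constructor
    · show ((q : EndM) - 1) * (fr.a * fr.b) = fr.a * fr.b * ((q : EndM) - 1)
      rw [sub_mul, mul_sub, one_mul, mul_one, h.1]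
    · show ((q : EndM) - 1) * (fr.b * fr.a) = fr.b * fr.a * ((q : EndM) - 1)
      rw [sub_mul, mul_sub, one_mul, mul_one, h.2]
  -- the part inside `K` is trivial on the corner
  have hfix : ∀ q ∈ H, dev q * fr.e = 0 := by
    set F0 : Submodule F M := LinearMap.eqLocus fr.e (1 : EndM) ⊓ Cfsg.fixedSubmodule H with hF0
    have memF : ∀ v, v ∈ F0 ↔ fr.e v = v ∧ ∀ q ∈ H, dev q v = 0 := fun v => by
      simp [hF0, Cfsg.fixedSubmodule, Submodule.mem_iInf, dev]
    let C : Submodule F EndM :=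
      { carrier := {X | ∀ v ∈ F0, X v ∈ F0}
        add_mem' := fun hX hY v hv => F0.add_mem (hX v hv) (hY v hv)
        zero_mem' := fun v _ => F0.zero_mem
        smul_mem' := fun c X hX v hv => F0.smul_mem c (hX v hv) }
    obtain ⟨hCA, hCV⟩ := fr.corner_span C (fun X hX Y hY v hv => hX _ (hY v hv)) (by
      intro ℓ hℓ hb v hv
      obtain ⟨hv1, hv2⟩ := (memF v).1 hv
      show ((ℓ : EndM) * fr.e) v ∈ F0
      rw [Module.End.mul_apply, hv1, memF]
      refine ⟨?_, fun q hq => ?_⟩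
      · show (fr.a * fr.b) ((ℓ : EndM) v) = (ℓ : EndM) v
        rw [← Module.End.mul_apply, ← hb.1, Module.End.mul_apply]
        exact congrArg (ℓ : EndM) hv1
      · obtain ⟨hqQ, hqK⟩ := Subgroup.mem_inf.1 hq
        have hq' : ℓ⁻¹ * q * ℓ⁻¹⁻¹ ∈ H := Subgroup.mem_inf.2
          ⟨hQn _ (inv_mem hℓ) (fr.blk_inv hb) q hqQ, mul_mem (mul_mem (inv_mem hℓ) hqK) (inv_mem (inv_mem hℓ))⟩
        have h1 := hv2 _ hq'
        rw [dev_conj, inv_inv, Module.End.mul_apply, Module.End.mul_apply] at h1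
        exact (injective_iff_map_eq_zero _).1 (gl_injective ℓ⁻¹) _ h1)
    obtain ⟨S, hS, hFS, hSe⟩ := fr.extend_inv (P := F0) (fun v hv => ((memF v).1 hv).1)
      (fun γ hγ v hv => hCA γ hγ v hv) (fun α β α' β' h h' v hv => hCV α β α' β' h h' v hv)
    obtain ⟨S', hS', hc⟩ := hsemi S hS
    have hR : LinearMap.eqLocus fr.e (1 : EndM) ⊓ S' = ⊥ := by
      by_contra hne
      obtain ⟨v, ⟨hv1, hv2⟩, hv0, hv⟩ := exists_fixed hHu (S := LinearMap.eqLocus fr.e (1 : EndM) ⊓ S')
        (fun q hq v hv => ⟨(LinearMap.congr_fun (hQb q (Subgroup.mem_inf.1 hq).1).1 v).symm.trans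
          (congrArg (q : EndM) hv.1), (show S'.map (q : EndM) = S' from fr.inv_le_stab hgen hS' hq.2).le
          ⟨v, hv.2, rfl⟩⟩) hne
      · exact hv0 ((Submodule.mem_bot F).1 (hc.inf_eq_bot ▸ ⟨hFS ((memF v).2 ⟨hv1, hv⟩), hv2⟩))
    intro q hq
    refine LinearMap.ext fun m => ((memF (fr.e m)).1 ?_).2 q hq
    obtain ⟨s, hs, s', hs', e⟩ :=
      Submodule.mem_sup.1 (show fr.e m ∈ S ⊔ S' by rw [hc.sup_eq_top]; trivial)
    have hee : ∀ w, fr.e (fr.e w) = fr.e w := fun w => LinearMap.congr_fun (e_mul isC_e) w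
    have h0 : fr.e s' = 0 := (Submodule.mem_bot F).1 (hR ▸ ⟨hee s', hS'.ha _ (hS'.hb _ hs')⟩)
    rw [← hee m, ← e, map_add, h0, add_zero]
    exact hSe s hs
  have hfix' : ∀ q ∈ H, dev q * (fr.b * fr.a) = 0 := by
    intro q hq
    have hi : dev q⁻¹ * fr.e = 0 := hfix _ (inv_mem hq)
    have hqe : (q : EndM) * fr.e = fr.e := by
      have := hfix q hq
      rwa [dev, sub_mul, one_mul, sub_eq_zero] at this
    have hγ := fr.memA_blk (hQb q hq.1) (hQG hq.1) fr.memA_e
    rw [hqe] at hγ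
    have e1 : fr.e * fr.a * ((q⁻¹ : GLM) : EndM) * fr.b - fr.e = fr.a * dev q⁻¹ * fr.b := by
      rw [show fr.e * fr.a = fr.a from fr.aba, dev, mul_sub, sub_mul, mul_one]
    have hqi : q⁻¹ ∈ Q := Q.inv_mem hq.1
    have h0 := fr.memA_nilp (fr.memA_sub hγ fr.memA_e) (e1 ▸ fr.nilp_corner
      (blkdev _ (fr.blk_inv (hQb q hq.1))).2 (dev_nilpotent hQ hqi))
    rw [e1] at h0
    have h1 : dev q⁻¹ * (fr.b * fr.a) = 0 := by
      obtain ⟨-, c2⟩ := blkdev _ (fr.blk_inv (hQb q hq.1))
      have : fr.b * (fr.a * dev q⁻¹ * fr.b) * fr.a = dev q⁻¹ * (fr.b * fr.a) := by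
        calc fr.b * (fr.a * dev q⁻¹ * fr.b) * fr.a = fr.b * fr.a * dev q⁻¹ * (fr.b * fr.a) := by
              simp only [mul_assoc]
          _ = _ := by rw [← c2, mul_assoc, mul_assoc fr.b, fr.haba]
      rw [← this, h0, mul_zero, zero_mul]
    have h2 : ((q⁻¹ : GLM) : EndM) * (fr.b * fr.a) = fr.b * fr.a := by
      rwa [dev, sub_mul, one_mul, sub_eq_zero] at h1
    rw [dev, sub_mul, one_mul, sub_eq_zero]
    conv_lhs => rw [← h2, ← mul_assoc, Units.mul_inv, one_mul]
  -- `x` commutes with the corners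
  set D := dev x with hD
  obtain ⟨hx1, hx2⟩ := hQb x hx
  obtain ⟨hD1, hD2⟩ := blkdev x (hQb x hx)
  have hxG := hQG hx
  let C : Submodule F EndM :=
    { carrier := {X | D * X = X * D}
      add_mem' := fun {X Y} hX hY => by
        show D * (X + Y) = (X + Y) * D
        rw [mul_add, add_mul, show D * X = X * D from hX, show D * Y = Y * D from hY]
      zero_mem' := by show D * 0 = 0 * D; simp
      smul_mem' := fun c X hX => by
        show D * (c • X) = (c • X) * D
        rw [mul_smul_comm, smul_mul_assoc, show D * X = X * D from hX] }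
  obtain ⟨hCA, hCV⟩ := fr.corner_span C (fun X hX Y hY => by
      show D * (X * Y) = X * Y * D
      rw [← mul_assoc, show D * X = X * D from hX, mul_assoc, show D * Y = Y * D from hY, mul_assoc]) (by
    intro ℓ hℓ hb
    have hq : x * ℓ * x⁻¹ * ℓ⁻¹ ∈ H := by
      refine Subgroup.mem_inf.2 ⟨?_, mul_mem (fr.hnorm x hxG ℓ hℓ) (inv_mem hℓ)⟩
      have := mul_mem hx (hQn ℓ hℓ hb _ (inv_mem hx))
      simpa [mul_assoc] using this
    have h1 := hfix _ hq
    rw [dev, sub_mul, one_mul, sub_eq_zero, Units.val_mul, Units.val_mul, Units.val_mul] at h1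
    have hle : ((ℓ⁻¹ : GLM) : EndM) * fr.e = fr.e * ((ℓ⁻¹ : GLM) : EndM) := (fr.blk_inv hb).1
    have hxe : ((x⁻¹ : GLM) : EndM) * fr.e = fr.e * ((x⁻¹ : GLM) : EndM) := (fr.blk_inv (hQb x hx)).1
    have h2 : (x : EndM) * ((ℓ : EndM) * fr.e) = (ℓ : EndM) * fr.e * (x : EndM) := by
      calc (x : EndM) * ((ℓ : EndM) * fr.e)
          = (x : EndM) * (ℓ : EndM) * (fr.e * ((x⁻¹ : GLM) : EndM)) * (((ℓ⁻¹ : GLM) : EndM) * (ℓ : EndM))
              * (x : EndM) := by
            rw [Units.inv_mul, mul_one, mul_assoc ((x : EndM) * (ℓ : EndM)), mul_assoc fr.e, Units.inv_mul,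
              mul_one, mul_assoc]
        _ = (x : EndM) * (ℓ : EndM) * ((x⁻¹ : GLM) : EndM) * ((ℓ⁻¹ : GLM) : EndM) * fr.e * (ℓ : EndM)
              * (x : EndM) := by
            rw [mul_assoc _ ((ℓ⁻¹ : GLM) : EndM) fr.e, hle, ← hxe]
            simp only [mul_assoc]
        _ = _ := by rw [h1, show fr.e * (ℓ : EndM) = (ℓ : EndM) * fr.e from hb.1.symm]
    show D * _ = _ * D
    simp only [hD, dev, sub_mul, mul_sub, one_mul, mul_one]
    rw [h2])
  have hDe : D * fr.e = fr.e * D := hD1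
  -- `x` commutes with `a` and `b`
  have hγ := fr.memA_blk (hQb x hx) hxG fr.memA_e
  have hxi : ((x⁻¹ : GLM) : EndM) = 1 - D := coe_inv_of_sq hsq
  have hxv : (x : EndM) = 1 + D := coe_dev x
  have hxa : x * fr.s = fr.s * x := by
    set γ1 := (x : EndM) * fr.e * fr.a * ((x⁻¹ : GLM) : EndM) * fr.b with hγ1
    have hsplit : γ1 = (1 + D) * (fr.e - fr.a * D * fr.b) := by
      rw [hγ1, hxv, hxi]
      simp only [mul_assoc, mul_sub, sub_mul, mul_one, one_mul, fr.haba', fr.hbab]
    set Z := fr.a * D * fr.b with hZ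
    have hDD : D * D = 0 := hsq
    have hγc : D * γ1 = γ1 * D := hCA _ hγ
    have hDZ : D * Z = Z * D := by
      have e := congrArg (fun y => ((x⁻¹ : GLM) : EndM) * y) hsplit
      have e' : fr.e - Z = (1 - D) * γ1 := by
        rw [hsplit, ← mul_assoc, show (1 - D) * (1 + D) = 1 by
          rw [sub_mul, mul_add, mul_add, hDD, one_mul, mul_one, one_mul]; abel, one_mul]
      have c : D * (fr.e - Z) = (fr.e - Z) * D := by
        rw [e', ← mul_assoc, mul_assoc (1 - D), ← hγc, ← mul_assoc (1 - D)]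
        simp only [mul_sub, sub_mul, mul_one, one_mul, hDD, zero_mul, sub_zero]
      rw [mul_sub, sub_mul, hDe, sub_right_inj] at c
      exact c
    have hN : IsNilpotent (γ1 - fr.e) := by
      have hX : IsNilpotent (D * fr.e) := ⟨2, by rw [pow_two, mul_assoc, ← mul_assoc fr.e, ← hDe,
        mul_assoc, ← mul_assoc D D, hDD, zero_mul]⟩
      have hZn : IsNilpotent Z := fr.nilp_corner hD2 ⟨2, by rw [pow_two, hDD]⟩
      have hcom1 : Commute (D * fr.e) ((1 + D) * Z) := by
        have k1 : Commute D Z := hDZ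
        have k2 : Commute fr.e Z := by
          show fr.e * Z = Z * fr.e
          rw [hZ]; simp only [mul_assoc, fr.haba', fr.hbab]
        have k3 : Commute D fr.e := hDe
        exact ((Commute.one_right _).add_right ((Commute.refl D).mul_left k3.symm)).mul_right (k1.mul_left k2)
      have hZn' : IsNilpotent ((1 + D) * Z) :=
        ((Commute.one_left _).add_left hDZ).isNilpotent_mul_left hZn
      have e : γ1 - fr.e = D * fr.e - (1 + D) * Z := by rw [hsplit, mul_sub, add_mul, one_mul]; abel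
      rw [e]
      exact hcom1.isNilpotent_sub hX hZn'
    have h0 := sub_eq_zero.1 (fr.memA_nilp (fr.memA_sub hγ fr.memA_e) hN)
    have h1 := congrArg (· * fr.a) h0
    rw [show fr.e * fr.a = fr.a from fr.aba, hγ1] at h1
    have hc : ((x⁻¹ : GLM) : EndM) * (fr.b * fr.a) = fr.b * fr.a * ((x⁻¹ : GLM) : EndM) :=
      (fr.blk_inv (hQb x hx)).2
    have h2 : (x : EndM) * fr.a * ((x⁻¹ : GLM) : EndM) = fr.a := by
      refine Eq.trans ?_ h1
      show _ = (x : EndM) * fr.e * fr.a * ((x⁻¹ : GLM) : EndM) * fr.b * fr.a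
      simp only [mul_assoc, fr.haba']
      rw [hc]
      simp only [mul_assoc, fr.haba']
    apply Units.ext
    rw [Units.val_mul, Units.val_mul, coe_dev fr.s, mul_add, add_mul, mul_one, one_mul]
    congr 1
    show (x : EndM) * fr.a = fr.a * (x : EndM)
    conv_rhs => rw [← h2, mul_assoc, Units.inv_mul, mul_one]
  have hxs : (x : EndM) * fr.a = fr.a * (x : EndM) := by
    show (x : EndM) * ((fr.s : EndM) - 1) = ((fr.s : EndM) - 1) * (x : EndM)
    rw [mul_sub, sub_mul, ← Units.val_mul, hxa, Units.val_mul, mul_one, one_mul]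
  have hDa : D * fr.a = fr.a * D := by
    show ((x : EndM) - 1) * fr.a = fr.a * ((x : EndM) - 1)
    rw [sub_mul, mul_sub, one_mul, mul_one, hxs]
  have hDb : D * fr.b = fr.b * D := by
    have hXb : (x : EndM) * fr.b * ((x⁻¹ : GLM) : EndM) = fr.b := by
      have i1 := (fr.blk_inv (hQb x hx)).1
      have hxs' : fr.a * (x : EndM) = (x : EndM) * fr.a := hxs.symm
      calc (x : EndM) * fr.b * ((x⁻¹ : GLM) : EndM)
          = fr.b * fr.a * ((x : EndM) * fr.b * ((x⁻¹ : GLM) : EndM)) * (fr.a * fr.b) := by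
            rw [mul_assoc _ _ (fr.a * fr.b), mul_assoc _ _ (fr.a * fr.b), i1]
            have t : ∀ y, fr.b * (fr.a * ((x : EndM) * y)) = (x : EndM) * (fr.b * (fr.a * y)) := fun y => by
              rw [← mul_assoc fr.a, ← mul_assoc fr.b, ← mul_assoc fr.b, ← hx2]; simp only [mul_assoc]
            simp only [mul_assoc, t, fr.hbab']
        _ = fr.b * ((x : EndM) * (fr.a * fr.b * fr.a) * ((x⁻¹ : GLM) : EndM)) * fr.b := by
            simp only [mul_assoc]
            rw [← mul_assoc fr.a (x : EndM), hxs']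
            have hxai : ((x⁻¹ : GLM) : EndM) * fr.a = fr.a * ((x⁻¹ : GLM) : EndM) := by
              calc ((x⁻¹ : GLM) : EndM) * fr.a
                  = ((x⁻¹ : GLM) : EndM) * (fr.a * (x : EndM)) * ((x⁻¹ : GLM) : EndM) := by
                    rw [mul_assoc, mul_assoc fr.a, Units.mul_inv, mul_one]
                _ = _ := by rw [← hxs, ← mul_assoc, Units.inv_mul, one_mul]
            rw [← mul_assoc ((x⁻¹ : GLM) : EndM) fr.a, hxai]
            simp only [mul_assoc]
        _ = fr.b := by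
            rw [show fr.a * fr.b * fr.a = fr.a from fr.aba, hxs, mul_assoc fr.a, Units.mul_inv, mul_one]
            exact fr.bab
    have : (x : EndM) * fr.b = fr.b * (x : EndM) := by
      conv_rhs => rw [← hXb, mul_assoc, Units.inv_mul, mul_one]
    show ((x : EndM) - 1) * fr.b = fr.b * ((x : EndM) - 1)
    rw [sub_mul, mul_sub, one_mul, mul_one, this]
  exact ⟨hDa, hDb, hCA, hCV⟩

/-- The commutator with a quadratic element preserves the coordinates. -/
theorem memV_comm {x : GLM} (hxG : x ∈ G) (hxb : fr.Blk x) (hsq : dev x * dev x = 0)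
    (ha : dev x * fr.a = fr.a * dev x) (hb : dev x * fr.b = fr.b * dev x) {α β : EndM} (h : fr.MemV α β) :
    fr.MemV (dev x * α - α * dev x) (dev x * β - β * dev x) := by
  have hxi : ((x⁻¹ : GLM) : EndM) = 1 - dev x := coe_inv_of_sq hsq
  have h1 := fr.memV_blk hxb hxG h
  have h2 := fr.memV_blk (fr.blk_inv hxb) (inv_mem hxG) h
  rw [hxi, coe_dev x] at h1
  rw [inv_inv, hxi, coe_dev x] at h2
  set D := dev x
  have hcom : ∀ z, fr.a * (D * z) = D * (fr.a * z) := fun z => by rw [← mul_assoc, ← ha, mul_assoc]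
  have hβD : ∀ z, β * (D * (fr.a * (fr.b * z))) = β * (D * z) := fun z => by
    rw [show D * (fr.a * (fr.b * z)) = fr.a * (fr.b * (D * z)) by
      rw [← mul_assoc fr.b, ← hb, mul_assoc, hcom], h.2.1.right']
  have hβD' : β * (D * (fr.a * fr.b)) = β * D := by simpa using hβD 1
  have k1 : (1 + D) * β * fr.a * (1 - D) * fr.b = (1 + D) * β * (1 - D) := by
    simp only [mul_assoc, mul_sub, sub_mul, mul_one, one_mul, hcom, h.2.1.right, hβD']
  have k2 : (1 - D) * β * fr.a * (1 + D) * fr.b = (1 - D) * β * (1 + D) := by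
    simp only [mul_assoc, mul_add, add_mul, mul_one, one_mul, hcom, h.2.1.right, hβD']
  rw [k1] at h1
  rw [k2] at h2
  have h3 := fr.memV_smul (fr.memV_sub h1 h2) (half : F)
  have e : ∀ z, (half : F) • ((1 + D) * z * (1 - D) - (1 - D) * z * (1 + D)) = D * z - z * D := fun z => by
    have : (1 + D) * z * (1 - D) - (1 - D) * z * (1 + D) = (2 : F) • (D * z - z * D) := by
      rw [two_smul]
      simp only [mul_add, add_mul, mul_sub, sub_mul, mul_one, one_mul]
      abel
    rw [this, smul_smul, inv_mul_cancel₀ (two_ne fr.h5), one_smul]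
  rwa [e, e] at h3

/-- The alternating form of a coordinate pair and its commutator vanishes. -/
theorem anti_comm_self {Q : Subgroup GLM} (hQ : Cfsg.IsUnipotentOn Q)
    (hQn : ∀ ℓ ∈ K, fr.Blk ℓ → ∀ q ∈ Q, ℓ * q * ℓ⁻¹ ∈ Q) {x : GLM} (hx : x ∈ Q)
    (hsq : dev x * dev x = 0) (ha : dev x * fr.a = fr.a * dev x) (hb : dev x * fr.b = fr.b * dev x)
    (hA : ∀ γ, fr.MemA γ → dev x * γ = γ * dev x)
    (hV : ∀ α β α' β', fr.MemV α β → fr.MemV α' β' → dev x * (α * β') = α * β' * dev x)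
    {α β : EndM} (h : fr.MemV α β) (hD : fr.MemV (dev x * α - α * dev x) (dev x * β - β * dev x)) :
    (dev x * α - α * dev x) * β - α * (dev x * β - β * dev x) = 0 := by
  set D := dev x with hDd
  have hanti := fr.memA_anti hD h
  by_contra h0
  obtain ⟨hαA, hβB, -⟩ := id h
  set p1 := α * D * β with hp1
  set A' := (D * α - α * D) * β - α * (D * β - β * D) with hA'
  have hA'e : A' = (2 : F) • (D * (α * β)) - (2 : F) • p1 := by
    rw [hA', two_smul, two_smul, hp1, sub_mul, mul_sub α, ← mul_assoc α β D, ← hV α β α β h h]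
    simp only [mul_assoc]
    abel
  obtain ⟨δ2, hδ2, -, l2⟩ := fr.memA_inv hanti h0
  obtain ⟨c, hc, δ, hδ, hsh, r1, r2, r3, r4⟩ := fr.op_twist h
  have hcomm := fr.shift_comm hαA hβB c
  obtain ⟨ℓ, hℓ, hblk, -, hinv, -⟩ := fr.op_good h hδ r1 r2 r3 r4
  have hf := (isC_AB hαA hβB).smul (half : F)
  have hDff : D * ff α β = ff α β * D := by
    rw [ff, mul_smul_comm, smul_mul_assoc, hV α β α β h h]
  set γ := c • fr.e + ff α β with hγd
  set γ' := c • fr.e - ff α β with hγ'd
  have hγ : fr.IsC γ := (isC_e.smul c).add hf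
  have hγ' : fr.IsC γ' := (isC_e.smul c).sub hf
  have hab : α * β = γ - γ' := by rw [← two_ff fr.h5 α β, hγd, hγ'd]; abel
  have hDe : D * fr.e = fr.e * D := hA _ fr.memA_e
  have hDγ : D * γ = γ * D := by
    rw [hγd, mul_add, add_mul, mul_smul_comm, smul_mul_assoc, hDe, hDff]
  have hDγ' : D * γ' = γ' * D := by
    rw [hγ'd, mul_sub, sub_mul, mul_smul_comm, smul_mul_assoc, hDe, hDff]
  set i := δ * γ' with hi0
  set i' := γ * δ with hi0'
  have hi : fr.IsC i := isC_CC hδ.1 hγ'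
  have hi' : fr.IsC i' := isC_CC hγ hδ.1
  have hDδ := hA _ hδ
  have hDi : D * i = i * D := by rw [hi0, ← mul_assoc, hDδ, mul_assoc, hDγ', ← mul_assoc]
  have hDi' : D * i' = i' * D := by rw [hi0', ← mul_assoc, hDγ, mul_assoc, hDδ, ← mul_assoc]
  have gi : γ * i = fr.e := by
    show γ * (δ * γ') = fr.e
    rw [show δ * γ' = γ' * δ from r4, ← mul_assoc, r1]
  have ig' : i' * γ' = fr.e := by
    show γ * δ * γ' = fr.e
    rw [mul_assoc]; exact gi
  have ig : i * γ = fr.e := by rw [hi0, mul_assoc, ← hcomm, r2]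
  have g'i' : γ' * i' = fr.e := by rw [hi0', ← mul_assoc, ← hcomm, r1]
  have hp1C : fr.IsC p1 := ⟨by rw [hp1, mul_assoc, hαA.left'], by rw [hp1, mul_assoc, mul_assoc, mul_assoc, hβB.right]⟩
  have hαD : fr.IsA (α * D) := ⟨hαA.left' D, by rw [mul_assoc, ha, ← mul_assoc, hαA.ra, zero_mul],
    by rw [mul_assoc, hb, ← mul_assoc, hαA.rb, zero_mul]⟩
  -- right multiplication by the block diagonal element
  have hzl : ∀ z, fr.IsA z → z * (ℓ : EndM) = z - z * β * i * α := by
    intro z hz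
    have hz' : fr.IsA (z - z * β * i * α) :=
      hz.sub (isA_CA (isC_CC (isC_AB hz hβB) hi) hαA)
    have e1 : (z - z * β * i * α) * ((ℓ⁻¹ : GLM) : EndM) = z := by
      rw [hinv _ hz']
      have k : i * (α * β) * i' = i' - i := by
        rw [hab, mul_sub, sub_mul, ig, mul_assoc i, g'i', e_mul hi', mul_e hi]
      have k' : z * β * i * α * β * i' * α = z * β * i' * α - z * β * i * α := by
        calc z * β * i * α * β * i' * α = z * β * (i * (α * β) * i') * α := by simp only [mul_assoc]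
          _ = _ := by rw [k, mul_sub, sub_mul]
      rw [sub_mul z, sub_mul, sub_mul, k']
      abel
    conv_lhs => rw [← e1, mul_assoc, Units.inv_mul, mul_one]
  set X := D * ((ℓ : EndM) * D * ((ℓ⁻¹ : GLM) : EndM)) with hX
  obtain ⟨n, hn⟩ := unip_dev hQ
  have hXn : X ^ n = 0 := by
    have : ∀ j, ∃ L : List GLM, (∀ g ∈ L, g ∈ Q) ∧ L.length = 2 * j ∧ (L.map dev).prod = X ^ j := by
      intro j
      induction j with
      | zero => exact ⟨[], by simp, rfl, by simp⟩
      | succ j ih =>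
        obtain ⟨L, hL, hlen, he⟩ := ih
        refine ⟨x :: ℓ * x * ℓ⁻¹ :: L, by simp [hx, hQn ℓ hℓ hblk x hx]; exact hL, by simp [hlen]; omega, ?_⟩
        rw [List.map_cons, List.map_cons, List.prod_cons, List.prod_cons, he, dev_conj, ← mul_assoc, pow_succ']
    obtain ⟨L, hL, hlen, he⟩ := this n
    rw [← he]; exact prod_eq_zero_of_le hn L hL (by omega)
  set N := p1 * i * (p1 * i') with hN
  have hαX : α * X = -(p1 * i * (α * D)) - N * α := by
    have e1 : α * D * D = 0 := by rw [mul_assoc, hsq, mul_zero]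
    calc α * X = (α * D * (ℓ : EndM)) * D * ((ℓ⁻¹ : GLM) : EndM) := by simp only [hX, mul_assoc]
      _ = -(p1 * i * (α * D * ((ℓ⁻¹ : GLM) : EndM))) := by
        rw [hzl _ hαD, sub_mul, sub_mul, e1, zero_mul, zero_sub, show α * D * β = p1 from rfl]
        simp only [mul_assoc]
      _ = _ := by
        rw [hinv _ hαD, show α * D * β = p1 from rfl, mul_add, neg_add, hN]
        simp only [mul_assoc, sub_eq_add_neg]
  have hαXj : ∀ j, α * X ^ (j + 1) = (-N) ^ j * (α * X) := by
    intro j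
    induction j with
    | zero => simp
    | succ j ih =>
      have e : α * D * X = 0 := by rw [hX, ← mul_assoc, mul_assoc α D D, hsq, mul_zero, zero_mul]
      have e2 : α * X * X = -N * (α * X) := by
        nth_rewrite 1 [hαX]
        rw [sub_mul, neg_mul, mul_assoc (p1 * i), e, mul_zero, neg_zero, zero_sub, mul_assoc N, neg_mul]
      rw [pow_succ, ← mul_assoc, ih, mul_assoc, e2, ← mul_assoc, ← pow_succ]
  have hαXβ : α * X * β = -(N * γ) := by
    rw [hαX, sub_mul, neg_mul, mul_assoc (p1 * i) (α * D), show α * D * β = p1 from rfl, mul_assoc N, hab]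
    have : p1 * i * p1 = N * γ' := by
      rw [hN, mul_assoc (p1 * i), mul_assoc p1 i', ig', mul_e hp1C]
    rw [this, mul_sub N γ γ']
    generalize N * γ = u, N * γ' = v
    abel
  have hNn : (-N) ^ (n + 1) = 0 := by
    have h1 : (-N) ^ n * (α * X * β) = 0 := by
      rw [← mul_assoc, ← hαXj, pow_succ, hXn]; simp
    have h2 : -N = α * X * β * i := by
      rw [hαXβ, neg_mul, mul_assoc, gi, show N * fr.e = N from mul_e (isC_CC (isC_CC hp1C hi) (isC_CC hp1C hi'))]
    rw [pow_succ]; nth_rewrite 2 [h2]; rw [← mul_assoc, h1, zero_mul]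
  -- a fixed vector of the corner
  obtain ⟨v, hv0, hve, hvD⟩ : ∃ v, v ≠ 0 ∧ fr.e v = v ∧ D v = 0 := by
    have hee : fr.e * fr.e = fr.e := e_mul isC_e
    obtain ⟨w, hw⟩ : ∃ w, fr.e w ≠ 0 := by
      by_contra hall
      push Not at hall
      exact fr.e_ne (LinearMap.ext hall)
    by_cases hDw : D (fr.e w) = 0
    · exact ⟨_, hw, LinearMap.congr_fun hee w, hDw⟩
    · refine ⟨_, hDw, ?_, LinearMap.congr_fun hsq _⟩
      rw [← Module.End.mul_apply, ← hDe, Module.End.mul_apply]
      exact congrArg D (LinearMap.congr_fun hee w)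
  let Good : M → Prop := fun u => u ≠ 0 ∧ fr.e u = u ∧ D u = 0
  have good_C : ∀ Y Z : EndM, fr.IsC Y → Z * Y = fr.e → D * Y = Y * D → ∀ u, Good u → Good (Y u) := by
    rintro Y Z hY hZY hDY u ⟨u0, ue, uD⟩
    refine ⟨fun h' => u0 ?_, LinearMap.congr_fun (e_mul hY) u, ?_⟩
    · rw [← ue, ← hZY, Module.End.mul_apply, h', map_zero]
    · rw [← Module.End.mul_apply, hDY, Module.End.mul_apply, uD, map_zero]
  have hA'D : D * A' = A' * D := hA _ hanti
  have hDp1 : D * p1 = p1 * D := by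
    have h2 := two_ne fr.h5 (p := p)
    have k : (2 : F) • p1 = (2 : F) • (D * (α * β)) - A' := by rw [hA'e]; abel
    have e1 : D * ((2 : F) • p1) = (2 : F) • p1 * D := by
      rw [k, mul_sub, sub_mul, hA'D, mul_smul_comm, smul_mul_assoc, mul_assoc D (α * β) D,
        ← hV α β α β h h]
    rw [mul_smul_comm, smul_mul_assoc] at e1
    exact smul_right_injective EndM h2 e1
  have good_p : ∀ u, Good u → Good (p1 u) := by
    rintro u ⟨u0, ue, uD⟩
    refine ⟨fun h' => u0 ?_, LinearMap.congr_fun (e_mul hp1C) u, ?_⟩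
    · have : A' u = 0 := by
        rw [hA'e, hV α β α β h h, LinearMap.sub_apply, LinearMap.smul_apply, LinearMap.smul_apply,
          Module.End.mul_apply, uD, map_zero, h', smul_zero, sub_zero]
      rw [← ue, ← l2, Module.End.mul_apply, this, map_zero]
    · rw [← Module.End.mul_apply, hDp1, Module.End.mul_apply, uD, map_zero]
  have good_N : ∀ j, Good ((N ^ j) v) := by
    intro j
    induction j with
    | zero => simpa using ⟨hv0, hve, hvD⟩
    | succ j ih =>
      rw [pow_succ', Module.End.mul_apply, hN]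
      simp only [Module.End.mul_apply]
      exact good_p _ (good_C i γ hi gi hDi _ (good_p _ (good_C i' γ' hi' g'i' hDi' _ ih)))
  refine (good_N (n + 1)).1 ?_
  have : N ^ (n + 1) = 0 := by
    have h1 : N ^ (n + 1) = (-1) ^ (n + 1) * (-N) ^ (n + 1) := by rw [← neg_pow, neg_neg]
    rw [h1, hNn, mul_zero]
  rw [this]; rfl

/-- A quadratic element of a unipotent group of block diagonal elements normalised by the block diagonal part of
`K` centralises `K`. -/
theorem qlemma (hsemi : fr.Semi) (hgen : fr.HGen) (Q : Subgroup GLM) (hQG : Q ≤ G)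
    (hQ : Cfsg.IsUnipotentOn Q) (hQb : ∀ q ∈ Q, fr.Blk q)
    (hQn : ∀ ℓ ∈ K, fr.Blk ℓ → ∀ q ∈ Q, ℓ * q * ℓ⁻¹ ∈ Q) {x : GLM} (hx : x ∈ Q)
    (hsq : dev x * dev x = 0) : ∀ g ∈ K, x * g = g * x := by
  classical
  let Δ : Set GLM := {y | y ∈ Q ∧ dev y * dev y = 0}
  have bas : ∀ y ∈ Δ, _ := fun y (hy : y ∈ Δ) => fr.q_basic hsemi hgen Q hQG hQ hQb hQn hy.1 hy.2
  let dd : GLM → (EndM × EndM) → (EndM × EndM) := fun y u => (dev y * u.1 - u.1 * dev y, dev y * u.2 - u.2 * dev y)
  have dd_add : ∀ y u v, dd y (u + v) = dd y u + dd y v := fun y u v => by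
    refine Prod.ext ?_ ?_ <;> simp only [dd, Prod.fst_add, Prod.snd_add, mul_add, add_mul] <;> abel
  have dd_smul : ∀ y (c : F) u, dd y (c • u) = c • dd y u := fun y c u => by
    refine Prod.ext ?_ ?_ <;> simp only [dd, Prod.smul_fst, Prod.smul_snd, mul_smul_comm, smul_mul_assoc, smul_sub]
  have hDV : ∀ y ∈ Δ, ∀ α β, fr.MemV α β → fr.MemV (dd y (α, β)).1 (dd y (α, β)).2 := fun y hy α β h =>
    fr.memV_comm (hQG hy.1) (hQb y hy.1) hy.2 (bas y hy).1 (bas y hy).2.1 h
  have skew : ∀ y ∈ Δ, ∀ α β α' β', fr.MemV α β → fr.MemV α' β' →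
      (dd y (α, β)).1 * β' + α * (dd y (α', β')).2 = 0 := by
    intro y hy α β α' β' h h'
    have e := (bas y hy).2.2.2 α β α' β' h h'
    simp only [dd, sub_mul, mul_sub, mul_assoc] at e ⊢
    rw [e]; abel
  have antz : ∀ y ∈ Δ, ∀ α β α' β', fr.MemV α β → fr.MemV α' β' →
      (dd y (α, β)).1 * β' = α' * (dd y (α, β)).2 := by
    intro y hy α β α' β' h h'
    have self : ∀ α β, fr.MemV α β → (dd y (α, β)).1 * β - α * (dd y (α, β)).2 = 0 := fun α β h =>
      fr.anti_comm_self hQ hQn hy.1 hy.2 (bas y hy).1 (bas y hy).2.1 (bas y hy).2.2.1 (bas y hy).2.2.2 h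
        (hDV y hy α β h)
    have e0 := self _ _ (fr.memV_add h h')
    have e1 := self _ _ h
    have e2 := self _ _ h'
    have hd := dd_add y (α, β) (α', β')
    rw [Prod.mk_add_mk] at hd
    rw [hd] at e0
    simp only [Prod.fst_add, Prod.snd_add] at e0
    have k1 := skew y hy α β α' β' h h'
    have k2 := skew y hy α' β' α β h' h
    have key : (2 : F) • ((dd y (α, β)).1 * β' - α' * (dd y (α, β)).2) = 0 := by
      generalize (dd y (α, β)).1 = A1, (dd y (α, β)).2 = B1, (dd y (α', β')).1 = A2,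
        (dd y (α', β')).2 = B2 at e0 e1 e2 k1 k2 ⊢
      simp only [add_mul, mul_add] at e0
      rw [two_smul]
      linear_combination (norm := abel) e0 - e1 - e2 + k1 - k2
    exact sub_eq_zero.1 ((smul_eq_zero.1 key).resolve_left (two_ne fr.h5))
  -- the span of the commutators
  set S : Submodule F (EndM × EndM) := Submodule.span F {r | ∃ y ∈ Δ, ∃ α β, fr.MemV α β ∧ dd y (α, β) = r} with hS
  have hSV : ∀ r ∈ S, fr.MemV r.1 r.2 := by
    intro r hr
    induction hr using Submodule.span_induction with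
    | mem r hr => obtain ⟨y, hy, α, β, h, rfl⟩ := hr; exact hDV y hy α β h
    | zero => exact fr.memV_zero
    | add a b _ _ ha hb => exact fr.memV_add ha hb
    | smul c a _ ha => exact fr.memV_smul ha c
  have hSorth : ∀ r ∈ S, ∀ α β, fr.MemV α β → α * r.2 = r.1 * β := by
    intro r hr α β h
    induction hr using Submodule.span_induction with
    | mem r hr => obtain ⟨y, hy, α', β', h', rfl⟩ := hr; exact (antz y hy α' β' α β h' h).symm
    | zero => simp
    | add a b _ _ ha hb => simp only [Prod.fst_add, Prod.snd_add, mul_add, add_mul, ha, hb]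
    | smul c a _ ha => simp only [Prod.smul_fst, Prod.smul_snd, mul_smul_comm, smul_mul_assoc, ha]
  let J : Submodule F (EndM × EndM) :=
    { carrier := {r | r ∈ S ∧ ∀ y ∈ Δ, dd y r = 0}
      add_mem' := fun hr hs => ⟨S.add_mem hr.1 hs.1, fun y hy => by rw [dd_add, hr.2 y hy, hs.2 y hy, add_zero]⟩
      zero_mem' := ⟨S.zero_mem, fun y _ => by simp [dd]⟩
      smul_mem' := fun c r hr => ⟨S.smul_mem c hr.1, fun y hy => by rw [dd_smul, hr.2 y hy, smul_zero]⟩ }
  have bact_add : ∀ ℓ u v, fr.bact ℓ (u + v) = fr.bact ℓ u + fr.bact ℓ v := fun ℓ u v => by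
    refine Prod.ext ?_ ?_ <;> simp only [bact, Prod.fst_add, Prod.snd_add, mul_add, add_mul]
  have bact_smul : ∀ ℓ (c : F) u, fr.bact ℓ (c • u) = c • fr.bact ℓ u := fun ℓ c u => by
    refine Prod.ext ?_ ?_ <;> simp only [bact, Prod.smul_fst, Prod.smul_snd, mul_smul_comm, smul_mul_assoc]
  have hcov : ∀ ℓ ∈ K, fr.Blk ℓ → ∀ y ∈ Δ, ℓ * y * ℓ⁻¹ ∈ Δ ∧ ∀ u, u.2 * fr.e = u.2 →
      dd (ℓ * y * ℓ⁻¹) (fr.bact ℓ u) = fr.bact ℓ (dd y u) := by
    intro ℓ hℓ hb y hy
    have hli : ((ℓ⁻¹ : GLM) : EndM) * (ℓ : EndM) = 1 := ℓ.inv_mul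
    have hy' : ℓ * y * ℓ⁻¹ ∈ Δ := ⟨hQn ℓ hℓ hb y hy.1, by
      rw [dev_conj]; simp only [mul_assoc, tail_mul hli, one_mul, tail_mul hy.2, zero_mul, mul_zero]⟩
    refine ⟨hy', fun u hu => ?_⟩
    have hab : dev (ℓ * y * ℓ⁻¹) * fr.b = fr.b * dev (ℓ * y * ℓ⁻¹) := (bas _ hy').2.1
    have haa : dev y * fr.a = fr.a * dev y := (bas _ hy).1
    rw [dev_conj] at hab
    simp only [mul_assoc] at hab
    refine Prod.ext ?_ ?_
    · simp only [dd, bact]
      rw [dev_conj]
      simp only [mul_sub, sub_mul, mul_assoc, tail_mul hli, one_mul]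
    · simp only [dd, bact]
      rw [dev_conj]
      simp only [mul_sub, sub_mul, mul_assoc, tail_mul hli, one_mul]
      rw [← hab, ← mul_assoc ((ℓ⁻¹ : GLM) : EndM) (ℓ : EndM), hli, one_mul, ← mul_assoc (dev y) fr.a,
        haa, mul_assoc fr.a (dev y)]
  have hJ0 : J = ⊥ := by
    refine fr.rad_eq_bot hsemi J (fun j hj => hSV j hj.1) ?_ ?_ fun j hj => hSorth j hj.1
    · intro ℓ hℓ hb j hj
      have hSinv : ∀ r ∈ S, fr.bact ℓ r ∈ S := by
        intro r hr
        induction hr using Submodule.span_induction with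
        | mem r hr =>
          obtain ⟨y, hy, α, β, h, rfl⟩ := hr
          obtain ⟨h1, h2⟩ := hcov ℓ hℓ hb y hy
          rw [← h2 (α, β) h.2.1.right]
          exact Submodule.subset_span ⟨_, h1, _, _, fr.memV_blk hb (fr.hKG hℓ) h, rfl⟩
        | zero =>
          rw [show fr.bact ℓ 0 = 0 from Prod.ext (by simp [bact]) (by simp [bact])]
          exact S.zero_mem
        | add a b _ _ ha hb' => rw [bact_add]; exact S.add_mem ha hb'
        | smul c a _ ha => rw [bact_smul]; exact S.smul_mem c ha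
      refine ⟨hSinv j hj.1, fun y hy => ?_⟩
      obtain ⟨h1, h2⟩ := hcov ℓ⁻¹ (inv_mem hℓ) (fr.blk_inv hb) y hy
      obtain ⟨-, h3⟩ := hcov ℓ hℓ hb _ h1
      have := h3 j (hSV j hj.1).2.1.right
      rw [inv_inv, show ℓ * (ℓ⁻¹ * y * ℓ) * ℓ⁻¹ = y by group] at this
      rw [this, inv_inv] at *
      have hj2 := hj.2 _ h1
      rw [show (ℓ⁻¹ * y * ℓ) = ℓ⁻¹ * y * ℓ from rfl] at hj2
      rw [hj2]; simp [bact]
    · intro j hj j' hj'
      suffices ∀ r ∈ S, j.1 * r.2 = 0 from this _ hj'.1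
      intro r hr
      induction hr using Submodule.span_induction with
      | mem r hr =>
        obtain ⟨y, hy, α', β', h', rfl⟩ := hr
        have e := skew y hy _ _ α' β' (hSV j hj.1) h'
        rwa [show dd y (j.1, j.2) = 0 from hj.2 y hy, Prod.fst_zero, zero_mul, zero_add] at e
      | zero => simp
      | add a b _ _ ha hb => simp only [Prod.snd_add, mul_add, ha, hb, add_zero]
      | smul c a _ ha => simp only [Prod.smul_snd, mul_smul_comm, ha, smul_zero]
  -- iterated commutators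
  obtain ⟨n, hn⟩ := unip_dev hQ
  have hSdd : ∀ r ∈ S, ∀ y ∈ Δ, dd y r ∈ S := fun r hr y hy =>
    Submodule.subset_span ⟨y, hy, r.1, r.2, hSV r hr, rfl⟩
  have hit : ∀ k, ∀ r ∈ S, (∀ L : List GLM, (∀ g ∈ L, g ∈ Δ) → L.length = k →
      L.foldr dd r = 0) → r = 0 := by
    intro k
    induction k with
    | zero => intro r _ h; simpa using h [] (by simp) rfl
    | succ k ih =>
      intro r hr h
      have : r ∈ J := ⟨hr, fun y hy => ih _ (hSdd r hr y hy) fun L hL hlen => by
        simpa using h (L ++ [y]) (by simpa [or_imp, forall_and] using And.intro hL hy) (by simp [hlen])⟩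
      rw [hJ0] at this
      exact (Submodule.mem_bot F).1 this
  have hfold : ∀ (L : List GLM) (r : (EndM × EndM)), L.foldr dd r =
      (L.foldr (fun g X => dev g * X - X * dev g) r.1, L.foldr (fun g X => dev g * X - X * dev g) r.2) := by
    intro L r
    induction L with
    | nil => rfl
    | cons g L ih => simp only [List.foldr_cons, ih]; rfl
  have hS0 : ∀ r ∈ S, r = 0 := fun r hr => hit (2 * n) r hr fun L hL hlen => by
    rw [hfold]
    have z : ∀ X : EndM, L.foldr (fun g X => dev g * X - X * dev g) X = 0 := fun X => by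
      simpa using iter_comm_zero hn L [] [] X (fun g hg => (hL g hg).1) (by simp) (by simp) (by simp [hlen])
    rw [z, z]; rfl
  have hxΔ : x ∈ Δ := ⟨hx, hsq⟩
  obtain ⟨ha, hb, hA, hV⟩ := bas x hxΔ
  have hVc : ∀ α β, fr.MemV α β → dev x * α = α * dev x ∧ dev x * β = β * dev x := fun α β h => by
    have := hS0 _ (Submodule.subset_span ⟨x, hxΔ, α, β, h, rfl⟩)
    exact ⟨sub_eq_zero.1 (congrArg Prod.fst this), sub_eq_zero.1 (congrArg Prod.snd this)⟩
  have hcommute : ∀ g : GLM, dev x * dev g = dev g * dev x → x * g = g * x := fun g hg => by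
    apply Units.ext
    simp only [Units.val_mul, coe_dev x, coe_dev g, mul_add, add_mul, one_mul, mul_one, hg]
    abel
  suffices K ≤ Subgroup.centralizer {x} from fun g hg =>
    Subgroup.mem_centralizer_iff.1 (this hg) x rfl
  have hcen : ∀ g, x * g = g * x → g ∈ Subgroup.centralizer {x} := fun g hg =>
    Subgroup.mem_centralizer_iff.2 fun y hy => by rw [Set.mem_singleton_iff.1 hy]; exact hg
  have hup : ∀ g ∈ fr.upSet, g ∈ Subgroup.centralizer {x} := by
    rintro g ⟨hg, α, β, γ, hA', hB', hC', he⟩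
    obtain ⟨e1, e2⟩ := hVc _ _ (fr.memV_of_up hg hA' hB' hC' he)
    have e3 := hA _ (fr.memA_of_up hg hA' hB' hC' he)
    have e4 := hV α β α β (fr.memV_of_up hg hA' hB' hC' he) (fr.memV_of_up hg hA' hB' hC' he)
    have e5 : dev x * γ = γ * dev x := by
      rw [mul_sub, sub_mul, mul_smul_comm, smul_mul_assoc, e4, sub_left_inj] at e3
      exact e3
    refine hcen g (hcommute g ?_)
    rw [dev_up he, mul_add, mul_add, add_mul, add_mul, e1, ← mul_assoc, e2, ← mul_assoc (dev x) γ, e5,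
      mul_assoc β (dev x), ha, ← mul_assoc β, mul_assoc γ (dev x), ha, ← mul_assoc γ]
  have hw : fr.w ∈ Subgroup.centralizer {x} :=
    mul_mem (mul_mem (hcen _ (hcommute _ ha)) (inv_mem (hcen _ (hcommute _ hb)))) (hcen _ (hcommute _ ha))
  refine hgen.trans ((Subgroup.closure_le _).2 ?_)
  rintro g (hg | ⟨u, hu, rfl⟩)
  · exact hup g hg
  · exact mul_mem (mul_mem hw (hup u hu)) (inv_mem hw)

end Frame

end Cfsg.Agent.EquiQuad
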