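import Cfsg.Agent.Lib.EquiQuad.Ops

/-!
The radical of the alternating form on the coordinates: an isotropic invariant family orthogonal to all coordinates
vanishes when the group is generated by its elements trivial on two opposite flags and acts completely reducibly.
-/

set_option autoImplicit false
set_option linter.unusedSimpArgs false

namespace Cfsg.Agent.EquiQuad

open UniFamily QuadPair

variable {p : ℕ} [hp : Fact p.Prime] {M : Type} [AddCommGroup M] [Module (ZMod p) M]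

local notation "F" => ZMod p
local notation "GLM" => LinearMap.GeneralLinearGroup (ZMod p) M
local notation "EndM" => M →ₗ[ZMod p] M

namespace Frame

variable {G K : Subgroup (LinearMap.GeneralLinearGroup (ZMod p) M)} (fr : Frame G K)

/-- The elements of `K` trivial on the flag of `a`. -/
def upSet : Set (LinearMap.GeneralLinearGroup (ZMod p) M) :=
  {g | g ∈ K ∧ ∃ α β γ, fr.IsA α ∧ fr.IsB β ∧ fr.IsC γ ∧ (g : M →ₗ[ZMod p] M) = fr.up α β γ}

/-- `K` is generated by the elements trivial on one of two opposite flags. -/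
def HGen : Prop := K ≤ Subgroup.closure (fr.upSet ∪ (fun g => fr.w * g * fr.w⁻¹) '' fr.upSet)

/-- A subspace invariant under all coordinates. -/
structure Inv (S : Submodule (ZMod p) M) : Prop where
  ha : ∀ v ∈ S, fr.a v ∈ S
  hb : ∀ v ∈ S, fr.b v ∈ S
  hA : ∀ α β, fr.MemV α β → ∀ v ∈ S, α v ∈ S
  hB : ∀ α β, fr.MemV α β → ∀ v ∈ S, β v ∈ S
  hC : ∀ γ, fr.MemA γ → ∀ v ∈ S, γ v ∈ S

/-- Every invariant subspace has an invariant complement. -/
def Semi : Prop := ∀ S, fr.Inv S → ∃ S', fr.Inv S' ∧ IsCompl S S'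

/-- The stabiliser of a subspace. -/
def stab (S : Submodule (ZMod p) M) : Subgroup (LinearMap.GeneralLinearGroup (ZMod p) M) where
  carrier := {g | S.map (g : M →ₗ[ZMod p] M) = S}
  one_mem' := by simp [Module.End.one_eq_id]
  mul_mem' := fun {g h} hg hh => by
    show S.map _ = S
    rw [Units.val_mul, Module.End.mul_eq_comp, Submodule.map_comp, show S.map _ = S from hh]; exact hg
  inv_mem' := fun {g} hg => by
    show S.map _ = S
    conv_lhs => rw [← (show S.map _ = S from hg), ← Submodule.map_comp, ← Module.End.mul_eq_comp,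
      Units.inv_mul, Module.End.one_eq_id, Submodule.map_id]

variable [FiniteDimensional (ZMod p) M]

theorem mem_stab {S : Submodule F M} {g : GLM} (h : ∀ v ∈ S, (g : EndM) v ∈ S) : g ∈ stab S := by
  show S.map _ = S
  refine Submodule.eq_of_le_of_finrank_eq ?_ (Submodule.equivMapOfInjective _ (gl_injective g) S).finrank_eq.symm
  rintro _ ⟨v, hv, rfl⟩
  exact h v hv

theorem inv_le_stab (hgen : fr.HGen) {S : Submodule F M} (hS : fr.Inv S) : K ≤ stab S := by
  refine hgen.trans ((Subgroup.closure_le _).2 ?_)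
  have hup : ∀ g ∈ fr.upSet, g ∈ stab S := by
    rintro g ⟨hg, α, β, γ, hA, hB, hC, he⟩
    refine mem_stab fun v hv => ?_
    have hV := fr.memV_of_up hg hA hB hC he
    have hγ : γ v ∈ S → (g : EndM) v ∈ S := fun _ => by
      rw [he, up]
      simp only [LinearMap.add_apply, Module.End.mul_apply, Module.End.one_apply]
      refine Submodule.add_mem _ (Submodule.add_mem _ (Submodule.add_mem _ hv (hS.hA _ _ hV v hv))
        (hS.hB _ _ hV _ (hS.ha v hv))) ?_
      have h1 := hS.hC _ (fr.memA_of_up hg hA hB hC he) _ (hS.ha v hv)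
      rw [LinearMap.sub_apply, LinearMap.smul_apply, Module.End.mul_apply] at h1
      have h2 : ((half : F) • α (β (fr.a v))) ∈ S :=
        Submodule.smul_mem _ _ (hS.hA _ _ hV _ (hS.hB _ _ hV _ (hS.ha v hv)))
      simpa using Submodule.add_mem _ h1 h2
    refine hγ ?_
    have h1 := hS.hC _ (fr.memA_of_up hg hA hB hC he) _ hv
    rw [LinearMap.sub_apply, LinearMap.smul_apply, Module.End.mul_apply] at h1
    simpa using Submodule.add_mem _ h1 (Submodule.smul_mem _ (half : F) (hS.hA _ _ hV _ (hS.hB _ _ hV _ hv)))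
  have hw : fr.w ∈ stab S := by
    refine mem_stab fun v hv => ?_
    rw [w_val]
    simp only [LinearMap.add_apply, LinearMap.sub_apply, Module.End.mul_apply, Module.End.one_apply]
    exact Submodule.sub_mem _ (Submodule.add_mem _ (Submodule.sub_mem _ (Submodule.sub_mem _ hv
      (hS.ha _ (hS.hb v hv))) (hS.hb _ (hS.ha v hv))) (hS.ha v hv)) (hS.hb v hv)
  rintro g (hg | ⟨u, hu, rfl⟩)
  · exact hup g hg
  · exact mul_mem (mul_mem hw (hup u hu)) (inv_mem hw)

theorem dev_stable {S : Submodule F M} (hS : ∀ g ∈ K, ∀ v ∈ S, (g : EndM) v ∈ S) {g : GLM} (hg : g ∈ K) :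
    ∀ v ∈ S, dev g v ∈ S := fun v hv => by
  rw [dev_apply]; exact Submodule.sub_mem _ (hS g hg v hv) hv

theorem inv_of_stable {S : Submodule F M} (hS : ∀ g ∈ K, ∀ v ∈ S, (g : EndM) v ∈ S) : fr.Inv S := by
  have ha := dev_stable hS fr.hsK
  have hb := dev_stable hS fr.htK
  have hproj : ∀ v ∈ S, (1 - fr.a * fr.b - fr.b * fr.a) v ∈ S := fun v hv => by
    simp only [LinearMap.sub_apply, Module.End.one_apply, Module.End.mul_apply]
    exact Submodule.sub_mem _ (Submodule.sub_mem _ hv (ha _ (hb v hv))) (hb _ (ha v hv))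
  refine ⟨ha, hb, ?_, ?_, ?_⟩
  · rintro α β ⟨hA, hB, g, hg, he⟩ v hv
    have e : α = fr.a * fr.b * dev g * (1 - fr.a * fr.b - fr.b * fr.a) := by
      rw [dev_up he]
      simp only [mul_add, add_mul, mul_sub, sub_mul, mul_one, mul_assoc, hA.left, hA.ra, hA.rb, hA.left',
        tail_mul hA.ra, tail_mul hA.rb, hB.lb, tail_mul hB.lb, fr.haba, fr.hbab, fr.haba', fr.hbab',
        tail_mul fr.haa, tail_mul fr.hbb, zero_mul, mul_zero]
      abel
    rw [e, Module.End.mul_apply, Module.End.mul_apply, Module.End.mul_apply]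
    exact ha _ (hb _ (dev_stable hS hg _ (hproj v hv)))
  · rintro α β ⟨hA, hB, g, hg, he⟩ v hv
    have e : β = (1 - fr.a * fr.b - fr.b * fr.a) * (dev g * fr.b) := by
      have hC := (isC_AB hA hB).smul (half : F)
      rw [dev_up he]
      simp only [mul_add, add_mul, mul_sub, sub_mul, one_mul, mul_assoc, hA.rb, hB.right, hC.right, hB.la,
        hB.lb, hC.left, hC.la, tail_mul hB.la, mul_zero, zero_mul]
      abel
    rw [e, Module.End.mul_apply, Module.End.mul_apply]
    exact hproj _ (dev_stable hS hg _ (hb v hv))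
  · rintro γ ⟨hC, g, hg, he⟩ v hv
    have e : γ = dev g * fr.b := by
      rw [dev_up he, add_mul, add_mul, zero_mul, zero_add, zero_mul, zero_mul, zero_add, mul_assoc, hC.right]
    rw [e, Module.End.mul_apply]
    exact dev_stable hS hg _ (hb v hv)

/-- Complete reducibility of `K` gives invariant complements. -/
theorem semi_of_stable (hgen : fr.HGen)
    (h : ∀ S : Submodule F M, (∀ g ∈ K, ∀ v ∈ S, (g : EndM) v ∈ S) →
      ∃ S', (∀ g ∈ K, ∀ v ∈ S', (g : EndM) v ∈ S') ∧ IsCompl S S') : fr.Semi := by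
  intro S hS
  obtain ⟨S', h1, h2⟩ := h S fun g hg v hv =>
    (show S.map (g : EndM) = S from fr.inv_le_stab hgen hS hg).le ⟨v, hv, rfl⟩
  exact ⟨S', fr.inv_of_stable h1, h2⟩

/-- The symmetrised product of two coordinate pairs. -/
theorem memA_polar {α β α' β' : EndM} (h : fr.MemV α β) (h' : fr.MemV α' β') :
    (α + α') * (β + β') - α * β - α' * β' + (α * β' - α' * β) = (2 : F) • (α * β') := by
  rw [two_smul]; simp only [add_mul, mul_add]; abel

omit [FiniteDimensional (ZMod p) M] in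
/-- The closure of a subspace of the range of `ab` stable under the corner operators. -/
theorem extend_inv {P : Submodule F M} (hPe : ∀ v ∈ P, fr.e v = v)
    (hδ : ∀ γ, fr.MemA γ → ∀ v ∈ P, γ v ∈ P)
    (hxy : ∀ α β α' β', fr.MemV α β → fr.MemV α' β' → ∀ v ∈ P, α (β' v) ∈ P) :
    ∃ S, fr.Inv S ∧ P ≤ S ∧ (∀ v ∈ S, fr.e v ∈ P) := by
  set S : Submodule F M := P ⊔ ((⨆ (α : EndM) (β : EndM) (_ : fr.MemV α β), P.map β) ⊔ P.map fr.b) with hS
  have key : ∀ T : EndM, (∀ v ∈ P, T v ∈ S) → (∀ α β, fr.MemV α β → ∀ v ∈ P, T (β v) ∈ S) →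
      (∀ v ∈ P, T (fr.b v) ∈ S) → ∀ v ∈ S, T v ∈ S := by
    intro T h1 h2 h3
    show S ≤ S.comap T
    conv_lhs => rw [hS]
    refine sup_le h1 (sup_le (iSup_le fun α => iSup_le fun β => iSup_le fun h => ?_) ?_)
    · rw [Submodule.map_le_iff_le_comap]; exact h2 α β h
    · rw [Submodule.map_le_iff_le_comap]; exact h3
  have mP : ∀ v ∈ P, v ∈ S := fun v hv => Submodule.mem_sup_left hv
  have mB : ∀ α β, fr.MemV α β → ∀ v ∈ P, β v ∈ S := fun α β h v hv =>
    Submodule.mem_sup_right (Submodule.mem_sup_left (Submodule.mem_iSup_of_mem α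
      (Submodule.mem_iSup_of_mem β (Submodule.mem_iSup_of_mem h ⟨v, hv, rfl⟩))))
  have mb : ∀ v ∈ P, fr.b v ∈ S := fun v hv =>
    Submodule.mem_sup_right (Submodule.mem_sup_right ⟨v, hv, rfl⟩)
  have app : ∀ {x y : EndM}, x * y = 0 → ∀ v, x (y v) = 0 := fun h v => LinearMap.congr_fun h v
  have hee : ∀ v ∈ P, fr.a (fr.b v) = v := hPe
  refine ⟨S, ⟨?_, ?_, ?_, ?_, ?_⟩, mP, ?_⟩
  · refine key _ (fun v hv => ?_) (fun α β h v _ => ?_) (fun v hv => ?_)
    · rw [← hee v hv, app fr.haa]; exact zero_mem _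
    · rw [app h.2.1.la]; exact zero_mem _
    · rw [hee v hv]; exact mP v hv
  · refine key _ mb (fun α β h v _ => ?_) (fun v _ => ?_)
    · rw [app h.2.1.lb]; exact zero_mem _
    · rw [app fr.hbb]; exact zero_mem _
  · intro α β h
    refine key _ (fun v hv => ?_) (fun α' β' h' v hv => mP _ (hxy _ _ _ _ h h' v hv)) (fun v _ => ?_)
    · rw [← hee v hv, app h.1.ra]; exact zero_mem _
    · rw [app h.1.rb]; exact zero_mem _
  · intro α β h
    refine key _ (mB α β h) (fun α' β' h' v _ => ?_) (fun v _ => ?_)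
    · rw [app (h.2.1.mul_B h'.2.1)]; exact zero_mem _
    · rw [app h.2.1.rb]; exact zero_mem _
  · intro γ h
    refine key _ (fun v hv => mP _ (hδ γ h v hv)) (fun α' β' h' v _ => ?_) (fun v _ => ?_)
    · rw [app (h.1.mul_B h'.2.1)]; exact zero_mem _
    · rw [app h.1.rb]; exact zero_mem _
  · show S ≤ P.comap fr.e
    conv_lhs => rw [hS]
    refine sup_le (fun v hv => ?_) (sup_le (iSup_le fun α => iSup_le fun β => iSup_le fun h => ?_) ?_)
    · show fr.e v ∈ P; rw [hPe v hv]; exact hv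
    · rw [Submodule.map_le_iff_le_comap]; intro v _
      show fr.a (fr.b (β v)) ∈ P
      rw [app h.2.1.lb, map_zero]; exact zero_mem _
    · rw [Submodule.map_le_iff_le_comap]; intro v _
      show fr.a (fr.b (fr.b v)) ∈ P
      rw [app fr.hbb, map_zero]; exact zero_mem _

/-- The action of a block diagonal element on coordinate pairs. -/
def bact (ℓ : LinearMap.GeneralLinearGroup (ZMod p) M) (v : (M →ₗ[ZMod p] M) × (M →ₗ[ZMod p] M)) :
    (M →ₗ[ZMod p] M) × (M →ₗ[ZMod p] M) :=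
  ((ℓ : M →ₗ[ZMod p] M) * v.1 * ((ℓ⁻¹ : LinearMap.GeneralLinearGroup (ZMod p) M) : M →ₗ[ZMod p] M),
    (ℓ : M →ₗ[ZMod p] M) * v.2 * fr.a * ((ℓ⁻¹ : LinearMap.GeneralLinearGroup (ZMod p) M) : M →ₗ[ZMod p] M)
      * fr.b)

/-- The twisted derivative of a family orthogonal to all coordinates. -/
theorem twist_mem (J : Submodule F (EndM × EndM))
    (hJ : ∀ j ∈ J, fr.MemV j.1 j.2) (hinv : ∀ ℓ ∈ K, fr.Blk ℓ → ∀ j ∈ J, fr.bact ℓ j ∈ J)
    (horth : ∀ j ∈ J, ∀ α β, fr.MemV α β → α * j.2 = j.1 * β) {α β : EndM} (h : fr.MemV α β)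
    {j : EndM × EndM} (hj : j ∈ J) :
    α * j.2 * ff α β = -(ff α β * (α * j.2)) ∧
      (ff α β * j.1 + α * j.2 * α, -(j.2 * ff α β) - β * (α * j.2)) ∈ J := by
  -- multiplications
  have hdel : ∀ δ, fr.MemA δ → ∀ j ∈ J, (δ * j.1, j.2 * δ) ∈ J := by
    intro δ hδ j hj
    by_cases h0 : δ = 0
    · subst h0; simp only [zero_mul, mul_zero]; exact J.zero_mem
    obtain ⟨δ', hδ', r, l⟩ := fr.memA_inv hδ h0
    obtain ⟨ℓ, hℓ, hblk, -, -, hact⟩ := fr.op_delta hδ hδ' r l
    have := hinv ℓ hℓ hblk j hj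
    rwa [bact, (hact _ _ (hJ j hj).1 (hJ j hj).2.1).1, (hact _ _ (hJ j hj).1 (hJ j hj).2.1).2] at this
  obtain ⟨hX, hY, -⟩ := hJ j hj
  obtain ⟨c, hc, δ, hδ, hsh, r1, r2, r3, r4⟩ := fr.op_twist h
  have hcomm := fr.shift_comm h.1 h.2.1 c
  have hphi := fr.phi h hδ r1 r2 r3 r4
  have hx0 := horth j hj _ _ h
  have hx1 := horth j hj _ _ hphi
  set n := α * j.2 with hn
  have hf := (isC_AB h.1 h.2.1).smul (half : F)
  have hnC : fr.IsC n := isC_AB h.1 hY
  set γ := c • fr.e + ff α β with hγd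
  set γ' := c • fr.e - ff α β with hγ'd
  have hγ : fr.IsC γ := (isC_e.smul c).add hf
  have hγ' : fr.IsC γ' := (isC_e.smul c).sub hf
  have e1 : γ * δ * n = n * (δ * γ') := by
    rw [hn, ← mul_assoc, hx1, ← mul_assoc, ← hx0]
  have e2 : n * γ = γ' * n := by
    have := congrArg (fun x => γ' * x * γ) e1
    rw [show γ' * (γ * δ * n) * γ = n * γ from ?_, show γ' * (n * (δ * γ')) * γ = γ' * n from ?_] at this
    · exact this
    · simp only [mul_assoc]
      rw [← hcomm, r2, hnC.right]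
    · rw [← mul_assoc γ', ← mul_assoc γ', ← hcomm, r1, e_mul hnC]
  have hef : fr.e * n = n := e_mul hnC
  have hfe : n * fr.e = n := mul_e hnC
  have e3 : n * ff α β = -(ff α β * n) := by
    rw [hγd, hγ'd, mul_add, sub_mul, mul_smul_comm, smul_mul_assoc, hfe, hef, sub_eq_add_neg,
      add_right_inj] at e2
    exact e2
  refine ⟨e3, ?_⟩
  obtain ⟨ℓ, hℓ, hblk, -, -, hact⟩ := fr.op_good h hδ r1 r2 r3 r4
  obtain ⟨a1, a2⟩ := hact _ _ hX hY
  have h1 := hinv ℓ hℓ hblk j hj
  rw [bact, a1, a2, ← hx0, mul_assoc β _ α, mul_assoc β, mul_assoc (δ * γ') α, ← hn] at h1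
  have h2 := J.neg_mem (hdel _ hsh _ h1)
  have n2 : γ * n = n * γ' := by
    rw [hγd, hγ'd, add_mul, mul_sub, mul_smul_comm, smul_mul_assoc, hfe, hef, e3, sub_neg_eq_add]
  have i1 : n * (γ * δ) * α = n * (γ * δ) * α := rfl
  have f1 : -(γ * γ' * -(γ * δ * (j.1 + n * (γ * δ) * α))) = γ * j.1 + n * α := by
    have q : ∀ z, fr.IsA z → γ * γ' * (γ * δ * z) = γ * z := fun z hz => by
      rw [mul_assoc, ← mul_assoc γ', ← mul_assoc γ', ← hcomm, r1, e_mul_A hz]
    have hA2 : fr.IsA (n * (γ * δ) * α) := isA_CA (isC_CC hnC (isC_CC hγ hδ.1)) h.1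
    rw [mul_neg, neg_neg, q _ (hX.add hA2), mul_add, ← mul_assoc γ, ← mul_assoc γ n, n2, mul_assoc n,
      ← mul_assoc γ', ← hcomm, r1, mul_e hnC]
  have f2 : -(-((j.2 - β * (δ * γ' * n)) * (δ * γ')) * (γ * γ')) = j.2 * γ' - β * n := by
    rw [neg_mul, neg_neg, mul_assoc]
    have q : δ * γ' * (γ * γ') = γ' := by
      rw [mul_assoc, ← mul_assoc γ', ← hcomm, ← mul_assoc δ, r2, e_mul hγ']
    rw [q, sub_mul, mul_assoc β, mul_assoc (δ * γ') n, ← n2, ← mul_assoc (δ * γ') γ, mul_assoc δ γ' γ,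
      ← hcomm, r2, e_mul hnC]
  simp only [Prod.neg_mk] at h2
  rw [f1, f2] at h2
  have h3 := J.sub_mem h2 (J.smul_mem c hj)
  convert h3 using 1
  refine Prod.ext ?_ ?_
  · show _ = γ * j.1 + n * α - c • j.1
    rw [hγd, add_mul]; simp only [smul_mul_assoc, e_mul_A hX]; abel
  · show _ = j.2 * γ' - β * n - c • j.2
    rw [hγ'd, mul_sub]; simp only [mul_smul_comm, B_mul_e hY]; abel

/-- An isotropic invariant family orthogonal to all coordinates vanishes. -/
theorem rad_eq_bot (hsemi : fr.Semi) (J : Submodule F (EndM × EndM))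
    (hJ : ∀ j ∈ J, fr.MemV j.1 j.2) (hinv : ∀ ℓ ∈ K, fr.Blk ℓ → ∀ j ∈ J, fr.bact ℓ j ∈ J)
    (hiso : ∀ j ∈ J, ∀ j' ∈ J, j.1 * j'.2 = 0)
    (horth : ∀ j ∈ J, ∀ α β, fr.MemV α β → α * j.2 = j.1 * β) : J = ⊥ := by
  classical
  -- the twisted derivative
  have hw : ∀ α β, fr.MemV α β → ∀ j ∈ J, α * j.2 * ff α β = -(ff α β * (α * j.2)) ∧
      (ff α β * j.1 + α * j.2 * α, -(j.2 * ff α β) - β * (α * j.2)) ∈ J := fun α β h j hj =>
    fr.twist_mem J hJ hinv horth h hj
  -- isotropy of the derived products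
  have hsq : ∀ α β, fr.MemV α β → ∀ j ∈ J, ∀ j' ∈ J, α * j.2 * (α * j'.2) = 0 := by
    intro α β h j hj j' hj'
    have := hiso _ (hw α β h j hj).2 j' hj'
    simp only [add_mul] at this
    rwa [mul_assoc (ff α β), hiso j hj j' hj', mul_zero, zero_add, mul_assoc _ α] at this
  have hanti : ∀ α β α' β', fr.MemV α β → fr.MemV α' β' → ∀ j ∈ J, ∀ j' ∈ J,
      α * j.2 * (α' * j'.2) = -(α' * j.2 * (α * j'.2)) := by
    intro α β α' β' h h' j hj j' hj'
    have := hsq _ _ (fr.memV_add h h') j hj j' hj'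
    simp only [add_mul, mul_add, hsq α β h j hj j' hj', hsq α' β' h' j hj j' hj', zero_add, add_zero] at this
    exact eq_neg_of_add_eq_zero_right this
  let good : List (EndM × EndM) → Prop := fun L => ∀ q ∈ L, (∃ β, fr.MemV q.1 β) ∧ ∃ j ∈ J, j.2 = q.2
  let nn : EndM × EndM → EndM := fun q => q.1 * q.2
  have hmid : ∀ L, good L → ∀ α β, fr.MemV α β → ∀ j ∈ J, ∀ j' ∈ J,
      α * j.2 * ((L.map nn).prod * (α * j'.2)) = 0 := by
    intro L
    induction L with
    | nil => intro _ α β h j hj j' hj'; simpa using hsq α β h j hj j' hj'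
    | cons q L ih =>
      intro hL α β h j hj j' hj'
      obtain ⟨⟨β', h'⟩, j'', hj'', e⟩ := hL q (by simp)
      rw [List.map_cons, List.prod_cons, show nn q = q.1 * j''.2 by rw [e],
        mul_assoc (q.1 * j''.2), ← mul_assoc (α * j.2) (q.1 * j''.2),
        hanti _ _ _ _ h h' j hj j'' hj'', neg_mul, mul_assoc,
        ih (fun x hx => hL x (by simp [hx])) α β h j'' hj'' j' hj', mul_zero, neg_zero]
  have : Finite M := Module.finite_of_finite F
  have : Finite EndM := Finite.of_injective (fun f : EndM => (f : M → M)) DFunLike.coe_injective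
  have : Fintype EndM := Fintype.ofFinite _
  have hdup : ∀ L, good L → ¬ (L.map Prod.fst).Nodup → (L.map nn).prod = 0 := by
    intro L
    induction L with
    | nil => intro _ h; simp at h
    | cons q L ih =>
      intro hL hnd
      by_cases hmem : q.1 ∈ L.map Prod.fst
      · obtain ⟨q', hq', e⟩ := List.mem_map.1 hmem
        obtain ⟨L1, L2, rfl⟩ := List.append_of_mem hq'
        obtain ⟨⟨β, h⟩, j, hj, e1⟩ := hL q (by simp)
        obtain ⟨-, j', hj', e2⟩ := hL q' (by simp)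
        rw [List.map_cons, List.map_append, List.map_cons, List.prod_cons, List.prod_append, List.prod_cons,
          ← mul_assoc _ (nn q'), ← mul_assoc (nn q), show nn q = q.1 * j.2 by rw [e1],
          show nn q' = q.1 * j'.2 by rw [e2, ← e],
          hmid L1 (fun x hx => hL x (by simp [hx])) _ β h j hj j' hj', zero_mul]
      · rw [List.map_cons, List.nodup_cons, not_and] at hnd
        rw [List.map_cons, List.prod_cons, ih (fun x hx => hL x (by simp [hx])) (hnd hmem), mul_zero]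
  -- the images of the products
  set P : Submodule F M := ⨆ (α : EndM) (β : EndM) (_ : fr.MemV α β) (j : EndM × EndM) (_ : j ∈ J),
    LinearMap.range (α * j.2) with hP
  have hPm : ∀ α β, fr.MemV α β → ∀ j ∈ J, ∀ v, (α * j.2) v ∈ P := fun α β h j hj v =>
    Submodule.mem_iSup_of_mem α (Submodule.mem_iSup_of_mem β (Submodule.mem_iSup_of_mem h
      (Submodule.mem_iSup_of_mem j (Submodule.mem_iSup_of_mem hj ⟨v, rfl⟩))))
  have hPle : ∀ S : Submodule F M, (∀ α β, fr.MemV α β → ∀ j ∈ J, ∀ v, (α * j.2) v ∈ S) → P ≤ S := by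
    intro S h
    refine iSup_le fun α => iSup_le fun β => iSup_le fun hV => iSup_le fun j => iSup_le fun hj => ?_
    rintro _ ⟨v, rfl⟩
    exact h α β hV j hj v
  have hPe : ∀ v ∈ P, fr.e v = v := by
    show P ≤ LinearMap.eqLocus fr.e (1 : EndM)
    refine hPle _ fun α β h j hj v => ?_
    show fr.e ((α * j.2) v) = _
    rw [← Module.End.mul_apply, e_mul (isC_AB h.1 (hJ j hj).2.1)]; rfl
  have hPδ : ∀ γ, fr.MemA γ → ∀ v ∈ P, γ v ∈ P := by
    intro γ hγ
    show P ≤ P.comap γ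
    refine hPle _ fun α β h j hj v => ?_
    show γ ((α * j.2) v) ∈ P
    rw [← Module.End.mul_apply, ← mul_assoc]
    exact hPm _ _ (fr.memV_delta hγ h) j hj v
  let T : EndM → EndM → EndM → EndM × EndM → M → M := fun x y z j v => x (y ((z * j.2) v))
  have hdiag : ∀ x y α β, fr.MemV x y → fr.MemV α β → ∀ j ∈ J, ∀ v, T x β α j v ∈ P := by
    intro x y α β hx h j hj v
    have h1 := hPm x y hx _ (hw α β h j hj).2 v
    have h2 := hPm x y hx j hj (ff α β v)
    simp only [Module.End.mul_apply, LinearMap.sub_apply, LinearMap.neg_apply, map_sub, map_neg] at h1 h2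
    have := P.neg_mem (P.add_mem h1 h2)
    simpa [T] using this
  have hxy : ∀ α β α' β', fr.MemV α β → fr.MemV α' β' → ∀ v ∈ P, α (β' v) ∈ P := by
    intro xa ya xb yb ha hb
    show P ≤ P.comap (xa * yb)
    refine hPle _ fun xc yc hc j hj v => ?_
    show T xa yb xc j v ∈ P
    have pol : ∀ x y xu yu xv yv, fr.MemV x y → fr.MemV xu yu → fr.MemV xv yv →
        T x yu xv j v + T x yv xu j v ∈ P := by
      intro x y xu yu xv yv hx hu hv
      have h1 := hdiag x y _ _ hx (fr.memV_add hu hv) j hj v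
      have h2 := P.sub_mem (P.sub_mem h1 (hdiag x y _ _ hx hu j hj v)) (hdiag x y _ _ hx hv j hj v)
      simp only [T, Module.End.mul_apply, LinearMap.add_apply, map_add] at h2 ⊢
      convert h2 using 1
      abel
    have sym : ∀ xu yu xv yv xz yz, fr.MemV xu yu → fr.MemV xv yv → fr.MemV xz yz →
        T xu yv xz j v - T xv yu xz j v ∈ P := by
      intro xu yu xv yv xz yz hu hv hz
      have := hPδ _ (fr.memA_anti hu hv) _ (hPm xz yz hz j hj v)
      simpa [T] using this
    have e1 := pol xa ya xb yb xc yc ha hb hc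
    have e2 := sym xa ya xc yc xb yb ha hc hb
    have e3 := pol xc yc xa ya xb yb hc ha hb
    have e4 := sym xc yc xb yb xa ya hc hb ha
    have e5 := pol xb yb xc yc xa ya hb hc ha
    have e6 := sym xb yb xa ya xc yc hb ha hc
    have e7 : (2 : F) • T xa yb xc j v ∈ P := by
      have := P.add_mem (P.add_mem (P.sub_mem e1 e2) (P.sub_mem (P.neg_mem e3) (P.neg_mem e4)))
        (P.sub_mem e5 e6)
      convert this using 1
      rw [two_smul]
      abel
    simpa [smul_smul, inv_mul_cancel₀ (two_ne fr.h5)] using P.smul_mem (half : F) e7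
  obtain ⟨S, hS, hPS, hSe⟩ := fr.extend_inv hPe hPδ hxy
  obtain ⟨S', hS', hc⟩ := hsemi S hS
  set N : Submodule F M := ⨆ (α : EndM) (β : EndM) (_ : fr.MemV α β) (j : EndM × EndM) (_ : j ∈ J),
    P.map (α * j.2) with hN
  have hPN : P ≤ N := by
    refine hPle _ fun α β h j hj v => ?_
    obtain ⟨s, hs, s', hs', rfl⟩ :=
      Submodule.mem_sup.1 (show v ∈ S ⊔ S' by rw [hc.sup_eq_top]; trivial)
    have h0 : (α * j.2) s' = 0 := by
      rw [← Submodule.mem_bot F, ← hc.inf_eq_bot]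
      exact ⟨hPS (hPm α β h j hj s'), hS'.hA α β h _ (hS'.hB _ _ (hJ j hj) s' hs')⟩
    rw [map_add, h0, add_zero]
    refine Submodule.mem_iSup_of_mem α (Submodule.mem_iSup_of_mem β (Submodule.mem_iSup_of_mem h
      (Submodule.mem_iSup_of_mem j (Submodule.mem_iSup_of_mem hj ⟨fr.e s, hSe s hs, ?_⟩))))
    rw [← Module.End.mul_apply, mul_e (isC_AB h.1 (hJ j hj).2.1)]
  have hkill : ∀ k L, good L → Fintype.card EndM < k + L.length → ∀ v ∈ P, (L.map nn).prod v = 0 := by
    intro k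
    induction k with
    | zero =>
      intro L hL hlen v _
      rw [hdup L hL (fun hN => by
        have h2 := hN.length_le_card
        rw [List.length_map] at h2
        omega)]
      rfl
    | succ k ih =>
      intro L hL hlen
      show P ≤ LinearMap.ker (L.map nn).prod
      refine hPN.trans (iSup_le fun α => iSup_le fun β => iSup_le fun h => iSup_le fun j => iSup_le fun hj => ?_)
      rintro _ ⟨u, hu, rfl⟩
      show (L.map nn).prod ((α * j.2) u) = 0
      have hL' : good (L ++ [(α, j.2)]) := fun q hq => by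
        rcases List.mem_append.1 hq with hq | hq
        · exact hL q hq
        · rw [List.mem_singleton.1 hq]; exact ⟨⟨β, h⟩, j, hj, rfl⟩
      have := ih (L ++ [(α, j.2)]) hL' (by simp; omega) u hu
      simpa [nn] using this
  have hn0 : ∀ α β, fr.MemV α β → ∀ j ∈ J, α * j.2 = 0 := fun α β h j hj => LinearMap.ext fun v =>
    hkill (Fintype.card EndM + 1) [] (by simp [good]) (by simp) _ (hPm α β h j hj v)
  have app : ∀ {x y : EndM}, x * y = 0 → ∀ v, x (y v) = 0 := fun h v => LinearMap.congr_fun h v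
  refine (Submodule.eq_bot_iff J).2 fun j hj => ?_
  obtain ⟨hX, hY, -⟩ := hJ j hj
  have hy : j.2 = 0 := by
    have hW : fr.Inv (LinearMap.range j.2) := by
      refine ⟨?_, ?_, ?_, ?_, ?_⟩
      · rintro _ ⟨v, rfl⟩; rw [app hY.la]; exact zero_mem _
      · rintro _ ⟨v, rfl⟩; rw [app hY.lb]; exact zero_mem _
      · rintro α β h _ ⟨v, rfl⟩; rw [app (hn0 α β h j hj)]; exact zero_mem _
      · rintro α β h _ ⟨v, rfl⟩; rw [app (h.2.1.mul_B hY)]; exact zero_mem _
      · rintro γ h _ ⟨v, rfl⟩; rw [app (h.1.mul_B hY)]; exact zero_mem _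
    obtain ⟨W', hW', hc'⟩ := hsemi _ hW
    refine LinearMap.ext fun v => ?_
    obtain ⟨s, ⟨u, rfl⟩, s', hs', rfl⟩ :=
      Submodule.mem_sup.1 (show v ∈ LinearMap.range j.2 ⊔ W' by rw [hc'.sup_eq_top]; trivial)
    rw [map_add, app (hY.mul_B hY), zero_add, LinearMap.zero_apply, ← Submodule.mem_bot F, ← hc'.inf_eq_bot]
    exact ⟨⟨s', rfl⟩, hW'.hB _ _ (hJ j hj) s' hs'⟩
  have hx : j.1 = 0 := by
    have hxb : ∀ α β, fr.MemV α β → j.1 * β = 0 := fun α β h => by rw [← horth j hj α β h, hn0 α β h j hj]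
    set W : Submodule F M := LinearMap.range fr.a ⊔ LinearMap.range fr.b
      ⊔ ⨆ (α : EndM) (β : EndM) (_ : fr.MemV α β), LinearMap.range β with hW0
    have ma : ∀ v, fr.a v ∈ W := fun v => Submodule.mem_sup_left (Submodule.mem_sup_left ⟨v, rfl⟩)
    have hW : fr.Inv W := by
      refine ⟨fun v _ => ma v, fun v _ => Submodule.mem_sup_left (Submodule.mem_sup_right ⟨v, rfl⟩), ?_,
        fun α β h v _ => Submodule.mem_sup_right (Submodule.mem_iSup_of_mem α (Submodule.mem_iSup_of_mem β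
          (Submodule.mem_iSup_of_mem h ⟨v, rfl⟩))), ?_⟩
      · intro α β h v _; rw [← h.1.left, Module.End.mul_apply]; exact ma _
      · intro γ h v _; rw [← h.1.left, Module.End.mul_apply]; exact ma _
    have hxW : W ≤ LinearMap.ker j.1 := by
      refine sup_le (sup_le ?_ ?_) (iSup_le fun α => iSup_le fun β => iSup_le fun h => ?_)
      · rintro _ ⟨v, rfl⟩; exact app hX.ra v
      · rintro _ ⟨v, rfl⟩; exact app hX.rb v
      · rintro _ ⟨v, rfl⟩; exact app (hxb α β h) v
    obtain ⟨W', hW', hc'⟩ := hsemi _ hW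
    refine LinearMap.ext fun v => ?_
    obtain ⟨s, hs, s', hs', rfl⟩ :=
      Submodule.mem_sup.1 (show v ∈ W ⊔ W' by rw [hc'.sup_eq_top]; trivial)
    rw [map_add, show j.1 s = 0 from hxW hs, zero_add, LinearMap.zero_apply, ← Submodule.mem_bot F,
      ← hc'.inf_eq_bot]
    exact ⟨by rw [← hX.left, Module.End.mul_apply]; exact ma _, hW'.hA _ _ (hJ j hj) s' hs'⟩
  exact Prod.ext hx hy

end Frame

end Cfsg.Agent.EquiQuad
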