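import Mathlib.FieldTheory.Finite.Basic
import Mathlib.RingTheory.Adjoin.Basic
import Mathlib.NumberTheory.LegendreSymbol.QuadraticChar.Basic

/-!
A finite linear space of invertible elements of an algebra, closed under `x, y ↦ x * y * x`, is covered by the
squares and one further class.
-/

set_option autoImplicit false

namespace Cfsg.Agent.EquiQuad.QuadSpace

variable {F : Type*} [Field F] {A : Type*} [Ring A] [Finite A] [Algebra F A]

/-- The hypotheses on the space. -/
structure Closed (D : Submodule F A) : Prop where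
  two : (2 : F) ≠ 0
  one : (1 : A) ∈ D
  inv : ∀ x ∈ D, x ≠ 0 → ∃ y ∈ D, x * y = 1 ∧ y * x = 1
  conj : ∀ x ∈ D, ∀ y ∈ D, x * y * x ∈ D

variable {D : Submodule F A}

theorem Closed.sq (h : Closed D) {x : A} (hx : x ∈ D) : x * x ∈ D := by
  simpa using h.conj x hx 1 h.one

theorem Closed.mul_mem (h : Closed D) {x y : A} (hx : x ∈ D) (hy : y ∈ D) (hc : x * y = y * x) :
    x * y ∈ D := by
  have h1 : (x + y) * (x + y) - x * x - y * y = (2 : F) • (x * y) := by
    rw [two_smul, add_mul, mul_add, mul_add, ← hc]; abel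
  have h2 := D.smul_mem (2 : F)⁻¹ (D.sub_mem (D.sub_mem (h.sq (D.add_mem hx hy)) (h.sq hx)) (h.sq hy))
  rwa [h1, inv_smul_smul₀ h.two] at h2

theorem Closed.eq_zero_or (h : Closed D) {x y : A} (hx : x ∈ D) (hxy : x * y = 0) : x = 0 ∨ y = 0 := by
  by_cases h0 : x = 0
  · exact Or.inl h0
  obtain ⟨x', -, -, hx'⟩ := h.inv x hx h0
  exact Or.inr (by rw [← one_mul y, ← hx', mul_assoc, hxy, mul_zero])

/-- The subalgebra generated by commuting members lies in the space and is a field. -/
theorem Closed.adjoin_le (h : Closed D) {s : Set A} (hs : s ⊆ (D : Set A))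
    (hc : ∀ a ∈ s, ∀ b ∈ s, a * b = b * a) :
    ∀ a ∈ Algebra.adjoin F s, a ∈ D ∧ ∀ b ∈ Algebra.adjoin F s, a * b = b * a := by
  have hcomm : ∀ a ∈ Algebra.adjoin F s, ∀ b ∈ Algebra.adjoin F s, a * b = b * a := fun a ha b hb =>
    congrArg Subtype.val ((Algebra.adjoinCommRingOfComm F hc).mul_comm ⟨a, ha⟩ ⟨b, hb⟩)
  refine fun a ha => ⟨?_, hcomm a ha⟩
  induction ha using Algebra.adjoin_induction with
  | mem x hx => exact hs hx
  | algebraMap r => rw [Algebra.algebraMap_eq_smul_one]; exact D.smul_mem r h.one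
  | add x y _ _ hx hy => exact D.add_mem hx hy
  | mul x y hx' hy' hx hy => exact h.mul_mem hx hy (hcomm x hx' y hy')

theorem Closed.field (h : Closed D) [Nontrivial A] {s : Set A} (hs : s ⊆ (D : Set A))
    (hc : ∀ a ∈ s, ∀ b ∈ s, a * b = b * a) : IsField (Algebra.adjoin F s) := by
  letI := Algebra.adjoinCommRingOfComm F hc
  haveI : NoZeroDivisors (Algebra.adjoin F s) := ⟨fun {x y} hxy => by
    rcases h.eq_zero_or (h.adjoin_le hs hc x x.2).1 (congrArg Subtype.val hxy) with e | e
    · exact Or.inl (Subtype.ext e)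
    · exact Or.inr (Subtype.ext e)⟩
  haveI : IsDomain (Algebra.adjoin F s) := NoZeroDivisors.to_isDomain _
  exact Finite.isField_of_domain _

theorem exists_sum_sq {E : Type*} [Field E] [Finite E] (h2 : ringChar E ≠ 2) {α β : E} (hα : α ≠ 0) (hβ : β ≠ 0) :
    ∃ a b : E, α * a ^ 2 + β * b ^ 2 = 1 := by
  classical
  haveI := Fintype.ofFinite E
  open Polynomial in
  obtain ⟨a, b, hab⟩ := FiniteField.exists_root_sum_quadratic (f := C α * X ^ 2 - 1) (g := C β * X ^ 2)
    (by
      rw [degree_sub_eq_left_of_degree_lt] <;> rw [degree_C_mul_X_pow 2 hα]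
      · rfl
      · rw [degree_one]; exact WithBot.coe_lt_coe.2 two_pos)
    (by rw [degree_C_mul_X_pow 2 hβ]; rfl) (FiniteField.odd_card_of_char_ne_two h2)
  refine ⟨a, b, ?_⟩
  simp only [Polynomial.eval_sub, Polynomial.eval_mul, Polynomial.eval_C, Polynomial.eval_pow, Polynomial.eval_X,
    Polynomial.eval_one] at hab
  linear_combination hab

/-- Two nonzero members of the space do not anticommute. -/
theorem Closed.not_anti (h : Closed D) {u v : A} (hu : u ∈ D) (hv : v ∈ D) (hu0 : u ≠ 0) (hv0 : v ≠ 0) :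
    u * v + v * u ≠ 0 := by
  intro hanti
  haveI : Nontrivial A := ⟨⟨u, 0, hu0⟩⟩
  have hvu : v * u = -(u * v) := eq_neg_of_add_eq_zero_right hanti
  have huv : u * v = -(v * u) := eq_neg_of_add_eq_zero_left hanti
  have hau : u * u * v = v * (u * u) := by
    rw [mul_assoc, huv, mul_neg, ← mul_assoc, huv, neg_mul, neg_neg, mul_assoc]
  have hbv : v * v * u = u * (v * v) := by
    rw [mul_assoc, hvu, mul_neg, ← mul_assoc, hvu, neg_mul, neg_neg, mul_assoc]
  set s : Set A := {u * u, v * v}
  have hs : s ⊆ (D : Set A) := by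
    rintro _ (rfl | rfl)
    · exact h.sq hu
    · exact h.sq hv
  have hc : ∀ a ∈ s, ∀ b ∈ s, a * b = b * a := by
    have e : u * u * (v * v) = v * v * (u * u) := by rw [← mul_assoc, hau, mul_assoc, hau, ← mul_assoc]
    rintro _ (rfl | rfl) _ (rfl | rfl)
    · rfl
    · exact e
    · exact e.symm
    · rfl
  have hcu : ∀ a ∈ Algebra.adjoin F s, a * u = u * a ∧ a * v = v * a := by
    intro a ha
    refine ⟨?_, ?_⟩ <;> induction ha using Algebra.adjoin_induction with
    | mem x hx =>
      rcases hx with rfl | rfl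
      all_goals first | exact mul_assoc u u u | exact mul_assoc v v v | exact hau | exact hbv
    | algebraMap r => exact Algebra.commutes r _
    | add x y _ _ hx hy => rw [add_mul, mul_add, hx, hy]
    | mul x y _ _ hx hy => rw [mul_assoc, hy, ← mul_assoc, hx, mul_assoc]
  set E := Algebra.adjoin F s
  letI := Algebra.adjoinCommRingOfComm F hc
  letI := (h.field hs hc).toField
  have h2 : ringChar E ≠ 2 := by
    intro e
    have : ((2 : ℕ) : E) = 0 := by rw [← e]; exact ringChar.Nat.cast_ringChar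
    rw [← map_natCast (algebraMap F E), ← map_zero (algebraMap F E)] at this
    exact h.two (by simpa using (algebraMap F E).injective this)
  have hα0 : (⟨u * u, Algebra.subset_adjoin (Or.inl rfl)⟩ : E) ≠ 0 := fun e =>
    hu0 ((h.eq_zero_or hu (congrArg Subtype.val e)).elim id id)
  have hβ0 : (⟨v * v, Algebra.subset_adjoin (Or.inr rfl)⟩ : E) ≠ 0 := fun e =>
    hv0 ((h.eq_zero_or hv (congrArg Subtype.val e)).elim id id)
  obtain ⟨⟨a, ha⟩, ⟨b, hb⟩, hab⟩ := exists_sum_sq h2 hα0 hβ0
  have hab' : u * u * (a * a) + v * v * (b * b) = 1 := by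
    have := congrArg Subtype.val hab
    simpa [pow_two] using this
  obtain ⟨cau, cav⟩ := hcu a ha
  obtain ⟨cbu, cbv⟩ := hcu b hb
  have cab : a * b = b * a := (h.adjoin_le hs hc a ha).2 b hb
  set w := a * u + b * v
  have hwD : w ∈ D := D.add_mem (h.mul_mem (h.adjoin_le hs hc a ha).1 hu cau)
    (h.mul_mem (h.adjoin_le hs hc b hb).1 hv cbv)
  have hw : w * w = 1 := by
    rw [← hab']
    have e1 : a * u * (a * u) = u * u * (a * a) := by
      rw [cau, mul_assoc, ← mul_assoc a, cau, mul_assoc u a a, ← mul_assoc u u]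
    have e2 : b * v * (b * v) = v * v * (b * b) := by
      rw [cbv, mul_assoc, ← mul_assoc b, cbv, mul_assoc v b b, ← mul_assoc v v]
    have e3 : a * u * (b * v) + b * v * (a * u) = 0 := by
      rw [show a * u * (b * v) = a * b * (u * v) by rw [mul_assoc a, ← mul_assoc u, ← cbu, mul_assoc b, ← mul_assoc],
        show b * v * (a * u) = a * b * (v * u) by rw [mul_assoc b, ← mul_assoc v, ← cav, mul_assoc a, ← mul_assoc, ← cab],
        ← mul_add, hanti, mul_zero]
    calc w * w = a * u * (a * u) + b * v * (b * v) + (a * u * (b * v) + b * v * (a * u)) := by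
          simp only [w, add_mul, mul_add]; abel
      _ = _ := by rw [e1, e2, e3, add_zero]
  have h0 : (w - 1) * (w + 1) = 0 := by
    rw [sub_mul, mul_add, one_mul, mul_one, hw]; abel
  have hcomm : w * u = u * w := by
    rcases h.eq_zero_or (D.sub_mem hwD h.one) h0 with e | e
    · rw [sub_eq_zero.1 e, one_mul, mul_one]
    · rw [eq_neg_of_add_eq_zero_left e, neg_one_mul, mul_neg_one]
  have hbuv : b * (u * v) + b * (u * v) = 0 := by
    have e1 : a * u * u = u * (a * u) := by rw [cau, mul_assoc, cau]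
    have e2 : u * (b * v) = b * (u * v) := by rw [← mul_assoc, ← cbu, mul_assoc]
    have e3 : b * v * u = -(b * (u * v)) := by rw [mul_assoc, hvu, mul_neg]
    have := hcomm
    simp only [w, add_mul, mul_add, e1, e2, e3, add_right_inj] at this
    exact add_eq_zero_iff_neg_eq.2 this
  have hbuv0 : b * (u * v) = 0 := by
    have e : (2 : F) • (b * (u * v)) = 0 := by rw [two_smul]; exact hbuv
    exact (smul_eq_zero.1 e).resolve_left h.two
  have hb0 : b = 0 := by
    rcases h.eq_zero_or (h.adjoin_le hs hc b hb).1 hbuv0 with e | e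
    · exact e
    · exact absurd e fun e => hv0 ((h.eq_zero_or hu e).resolve_left hu0)
  -- then `u` commutes with `v`
  have hw' : w = a * u := by simp [w, hb0]
  have hau1 : a * u = 1 ∨ a * u = -1 := by
    rcases h.eq_zero_or (D.sub_mem hwD h.one) h0 with e | e
    · exact Or.inl (hw' ▸ sub_eq_zero.1 e)
    · exact Or.inr (hw' ▸ eq_neg_of_add_eq_zero_left e)
  have hc' : a * (u * v) = a * (v * u) := by
    rw [← mul_assoc, ← mul_assoc, cav, mul_assoc v]
    rcases hau1 with e | e <;> rw [e] <;> simp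
  have ha0 : a ≠ 0 := by rintro rfl; rcases hau1 with e | e <;> simp at e
  have h3 : u * v = v * u := by
    rcases h.eq_zero_or (h.adjoin_le hs hc a ha).1 (show a * (u * v - v * u) = 0 by rw [mul_sub, hc', sub_self])
      with e | e
    · exact absurd e ha0
    · exact sub_eq_zero.1 e
  rw [← h3, ← two_smul F] at hanti
  exact hv0 ((h.eq_zero_or hu ((smul_eq_zero.1 hanti).resolve_left h.two)).resolve_left hu0)

/-- The nonzero members fall into the squares and one further class. -/
theorem Closed.two_classes [Nontrivial A] (h : Closed D) :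
    ∃ c ∈ D, c ≠ 0 ∧ ∀ x ∈ D, x ≠ 0 → ∃ z ∈ D, z ≠ 0 ∧ (x = z * z ∨ x = z * c * z) := by
  classical
  set Zc : Set A := {z | z ∈ D ∧ ∀ y ∈ D, z * y = y * z}
  have hZs : Zc ⊆ (D : Set A) := fun z hz => hz.1
  have hZc : ∀ a ∈ Zc, ∀ b ∈ Zc, a * b = b * a := fun a ha b hb => ha.2 b hb.1
  set Z := Algebra.adjoin F Zc
  have hZcen : ∀ a ∈ Z, a ∈ Zc := by
    intro a ha
    refine ⟨(h.adjoin_le hZs hZc a ha).1, fun y hy => ?_⟩
    induction ha using Algebra.adjoin_induction with
    | mem x hx => exact hx.2 y hy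
    | algebraMap r => exact Algebra.commutes r y
    | add x z _ _ hx hz => rw [add_mul, mul_add, hx, hz]
    | mul x z _ _ hx hz => rw [mul_assoc, hz, ← mul_assoc, hx, mul_assoc]
  letI := Algebra.adjoinCommRingOfComm F hZc
  letI := (h.field hZs hZc).toField
  haveI := Fintype.ofFinite Z
  have h2 : ringChar Z ≠ 2 := by
    intro e
    have : ((2 : ℕ) : Z) = 0 := by rw [← e]; exact ringChar.Nat.cast_ringChar
    rw [← map_natCast (algebraMap F Z), ← map_zero (algebraMap F Z)] at this
    exact h.two (by simpa using (algebraMap F Z).injective this)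
  obtain ⟨⟨c, hcZ⟩, hc⟩ := FiniteField.exists_nonsquare (F := Z) h2
  obtain ⟨hcD, hccen⟩ := hZcen c hcZ
  have hc0 : c ≠ 0 := by rintro rfl; exact hc ⟨0, Subtype.ext (by simp)⟩
  refine ⟨c, hcD, hc0, fun x hx hx0 => ?_⟩
  set s : Set A := insert x Zc
  have hs : s ⊆ (D : Set A) := Set.insert_subset hx hZs
  have hsc : ∀ a ∈ s, ∀ b ∈ s, a * b = b * a := by
    rintro a (rfl | ha) b (rfl | hb)
    · rfl
    · exact (hb.2 _ hx).symm
    · exact ha.2 _ hx
    · exact hZc a ha b hb
  have hcE : c ∈ Algebra.adjoin F s := Algebra.adjoin_mono (Set.subset_insert _ _) hcZ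
  -- the fixed nonsquare stays a nonsquare
  have hns : ∀ i ∈ Algebra.adjoin F s, i * i ≠ c := by
    intro i hi e
    have hiD := (h.adjoin_le hs hsc i hi).1
    have hi0 : i ≠ 0 := fun e' => hc0 (by rw [← e, e', zero_mul])
    have hiZ : i ∈ Zc := by
      refine ⟨hiD, fun y hy => ?_⟩
      set v := c * y - i * y * i with hv
      have hvD : v ∈ D := D.sub_mem (h.mul_mem hcD hy (hccen y hy)) (h.conj i hiD y hy)
      have hic : i * c = c * i := (hccen i hiD).symm
      have hanti : i * v + v * i = 0 := by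
        calc i * v + v * i = (i * c * y - i * i * y * i) + (c * y * i - i * y * (i * i)) := by
              rw [hv]; simp only [mul_sub, sub_mul, mul_assoc]
          _ = (i * c * y - c * y * i) + (c * y * i - i * y * c) := by rw [e]
          _ = 0 := by rw [mul_assoc i y c, ← hccen y hy, ← mul_assoc, sub_add_sub_cancel, sub_self]
      have hv0 : v = 0 := by
        by_contra hv0
        exact h.not_anti hiD hvD hi0 hv0 hanti
      rw [hv, sub_eq_zero] at hv0
      have : c * (y * i - i * y) = 0 := by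
        rw [mul_sub, ← mul_assoc, hv0, mul_assoc, e, mul_assoc i y c, ← hccen y hy, ← mul_assoc, hic, mul_assoc,
          sub_self]
      rcases h.eq_zero_or hcD this with e' | e'
      · exact absurd e' hc0
      · exact (sub_eq_zero.1 e').symm
    exact hc ⟨⟨i, Algebra.subset_adjoin hiZ⟩, Subtype.ext e.symm⟩
  letI := Algebra.adjoinCommRingOfComm F hsc
  letI := (h.field hs hsc).toField
  haveI := Fintype.ofFinite (Algebra.adjoin F s)
  set xE : Algebra.adjoin F s := ⟨x, Algebra.subset_adjoin (Set.mem_insert _ _)⟩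
  set cE : Algebra.adjoin F s := ⟨c, hcE⟩
  have hcns : ¬ IsSquare cE := fun ⟨i, hi⟩ => hns i i.2 (congrArg Subtype.val hi).symm
  by_cases hsq : IsSquare xE
  · obtain ⟨z, hz⟩ := hsq
    refine ⟨z, (h.adjoin_le hs hsc z z.2).1, fun e => hx0 ?_, Or.inl (congrArg Subtype.val hz)⟩
    rw [show x = (z : A) * z from congrArg Subtype.val hz, e, mul_zero]
  · have hmul : IsSquare (cE * xE) := by
      have hcE0 : cE ≠ 0 := fun e => hc0 (congrArg Subtype.val e)
      have hxE0 : xE ≠ 0 := fun e => hx0 (congrArg Subtype.val e)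
      rw [← quadraticChar_one_iff_isSquare (mul_ne_zero hcE0 hxE0), map_mul,
        quadraticChar_neg_one_iff_not_isSquare.2 hcns, quadraticChar_neg_one_iff_not_isSquare.2 hsq]
      norm_num
    obtain ⟨w, hw⟩ := hmul
    obtain ⟨c', hc'D, hcc', hc'c⟩ := h.inv c hcD hc0
    have hwx : c * x = (w : A) * w := congrArg Subtype.val hw
    have hwD := (h.adjoin_le hs hsc w w.2).1
    have hcw : c * (w : A) = w * c := hccen w hwD
    have hc'w : c' * (w : A) = w * c' := by
      calc c' * (w : A) = c' * (w : A) * (c * c') := by rw [hcc', mul_one]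
        _ = c' * (c * (w : A)) * c' := by rw [hcw]; simp only [mul_assoc]
        _ = _ := by rw [← mul_assoc c' c, hc'c, one_mul]
    refine ⟨c' * w, h.mul_mem hc'D hwD hc'w, fun e => hx0 ?_, Or.inr ?_⟩
    · rcases h.eq_zero_or hc'D e with e' | e'
      · rw [e', mul_zero] at hcc'; exact absurd hcc'.symm one_ne_zero
      · rw [e', mul_zero] at hwx
        exact (h.eq_zero_or hcD hwx).resolve_left hc0
    · calc x = c' * (c * x) := by rw [← mul_assoc, hc'c, one_mul]
        _ = c' * (w * (c * c') * w) := by rw [hwx, hcc', mul_one]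
        _ = c' * (w : A) * c * (c' * w) := by simp only [mul_assoc]

end Cfsg.Agent.EquiQuad.QuadSpace
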