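import Cfsg.Agent.Lib.EquiQuad.Fam
import Cfsg.Agent.Lib.EquiQuad.TwoOrbits
import Cfsg.Agent.Lib.Solvable.SchurZassenhaus

/-!
Operators of odd order, prime to the group, fixing two opposite classes fix a normalised pair in these classes.
-/

set_option autoImplicit false
set_option linter.unusedSectionVars false
set_option linter.unusedSimpArgs false

namespace Cfsg.Agent.EquiQuad

open UniFamily QuadPair

variable {p : ℕ} [hp : Fact p.Prime] {M : Type} [AddCommGroup M] [Module (ZMod p) M]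
  [FiniteDimensional (ZMod p) M]

local notation "F" => ZMod p
local notation "GLM" => LinearMap.GeneralLinearGroup (ZMod p) M
local notation "EndM" => M →ₗ[ZMod p] M

namespace Frame

variable {G K : Subgroup (LinearMap.GeneralLinearGroup (ZMod p) M)} (fr : Frame G K)

theorem isC_mem {γ : EndM} (h : fr.IsC γ) (v : M) : γ v ∈ LinearMap.range fr.a :=
  ⟨fr.b (γ v), LinearMap.congr_fun h.left v⟩

/-- Restriction of a corner element to the range of `a`. -/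
def Rep (φ : Module.End (ZMod p) (LinearMap.range fr.a)) (γ : M →ₗ[ZMod p] M) : Prop :=
  ∀ w : LinearMap.range fr.a, ((φ w : LinearMap.range fr.a) : M) = γ w

theorem rep_unique {φ : Module.End F (LinearMap.range fr.a)} {γ γ' : EndM} (h : fr.IsC γ) (h' : fr.IsC γ')
    (hφ : fr.Rep φ γ) (hφ' : fr.Rep φ γ') : γ = γ' := by
  refine LinearMap.ext fun v => ?_
  rw [← h.right, ← h'.right]
  exact (hφ ⟨fr.a (fr.b v), ⟨_, rfl⟩⟩).symm.trans (hφ' ⟨fr.a (fr.b v), ⟨_, rfl⟩⟩)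

theorem exists_rep {γ : EndM} (h : fr.IsC γ) : ∃ φ, fr.Rep φ γ :=
  ⟨γ.restrict fun v _ => fr.isC_mem h v, fun _ => rfl⟩

theorem rep_mul {φ ψ : Module.End F (LinearMap.range fr.a)} {γ δ : EndM} (h : fr.Rep φ γ) (h' : fr.Rep ψ δ) :
    fr.Rep (φ * ψ) (γ * δ) := fun w => by
  rw [Module.End.mul_apply, Module.End.mul_apply, h, h']

theorem rep_e : fr.Rep 1 fr.e := fun w => by
  obtain ⟨v, hv⟩ := w.2
  rw [Module.End.one_apply, ← hv]
  exact (LinearMap.congr_fun fr.aba v).symm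

theorem memA_quad {δ γ : EndM} (hδ : fr.MemA δ) (hγ : fr.MemA γ) (h0 : δ ≠ 0) :
    ∃ ℓ ∈ K, fr.Blk ℓ ∧ fr.MemA (δ * γ * δ) ∧ ∀ g : GLM, dev g = γ * fr.a →
      dev (ℓ * g * ℓ⁻¹) = δ * γ * δ * fr.a := by
  obtain ⟨δ', hδ', r, l⟩ := fr.memA_inv hδ h0
  obtain ⟨ℓ, hℓ, hblk, he, hb, -⟩ := fr.op_delta hδ hδ' r l
  refine ⟨ℓ, hℓ, hblk, ?_, ?_⟩
  all_goals
    have hbe : fr.b * fr.a * fr.b = fr.b := fr.bab
    have hL : (ℓ : EndM) * γ = δ * γ := by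
      calc (ℓ : EndM) * γ = (ℓ : EndM) * (fr.e * γ) := by rw [e_mul hγ.1]
        _ = _ := by rw [← mul_assoc, he]
    have hLb : ((ℓ⁻¹ : GLM) : EndM) * fr.b = fr.b * δ := by
      calc ((ℓ⁻¹ : GLM) : EndM) * fr.b = ((ℓ⁻¹ : GLM) : EndM) * (fr.b * (δ' * δ)) := by
            rw [l, ← mul_assoc fr.b, hbe]
        _ = ((ℓ⁻¹ : GLM) : EndM) * ((ℓ : EndM) * fr.b) * δ := by rw [hb]; simp only [mul_assoc]
        _ = fr.b * δ := by rw [← mul_assoc, Units.inv_mul, one_mul]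
    have hinv : fr.a * ((ℓ⁻¹ : GLM) : EndM) = δ * fr.a := by
      calc fr.a * ((ℓ⁻¹ : GLM) : EndM) = fr.a * (fr.b * fr.a * ((ℓ⁻¹ : GLM) : EndM)) := by
            rw [← mul_assoc fr.a, fr.haba]
        _ = fr.a * (((ℓ⁻¹ : GLM) : EndM) * fr.b) * fr.a := by rw [← (fr.blk_inv hblk).2]; simp only [mul_assoc]
        _ = δ * fr.a := by rw [hLb, ← mul_assoc fr.a, e_mul hδ.1]
  · have := fr.memA_blk hblk (fr.hKG hℓ) hγ
    rw [hL, mul_assoc (δ * γ) fr.a, hinv, mul_assoc (δ * γ) (δ * fr.a), mul_assoc δ fr.a,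
      mul_e hδ.1] at this
    exact this
  · intro g hg
    rw [dev_conj, hg, ← mul_assoc, hL, mul_assoc (δ * γ) fr.a, hinv, ← mul_assoc]

/-- The central coordinates as operators on the range of `a`. -/
def corner : Submodule (ZMod p) (Module.End (ZMod p) (LinearMap.range fr.a)) where
  carrier := {φ | ∃ γ, fr.MemA γ ∧ fr.Rep φ γ}
  zero_mem' := ⟨0, fr.memA_zero, fun _ => rfl⟩
  add_mem' := fun {φ ψ} ⟨γ, hγ, hφ⟩ ⟨δ, hδ, hψ⟩ => ⟨γ + δ, fr.memA_add hγ hδ, fun w => by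
    rw [LinearMap.add_apply, LinearMap.add_apply, Submodule.coe_add, hφ, hψ]⟩
  smul_mem' := fun c φ ⟨γ, hγ, hφ⟩ => ⟨c • γ, fr.memA_smul hγ c, fun w => by
    rw [LinearMap.smul_apply, LinearMap.smul_apply, Submodule.coe_smul, hφ]⟩

theorem corner_closed : QuadSpace.Closed fr.corner := by
  have hinj : ∀ {φ ψ : Module.End F (LinearMap.range fr.a)} {γ : EndM}, fr.Rep φ γ → fr.Rep ψ γ → φ = ψ :=
    fun {φ ψ γ} h h' => LinearMap.ext fun w => Subtype.ext ((h w).trans (h' w).symm)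
  refine ⟨two_ne fr.h5, ⟨fr.e, fr.memA_e, fr.rep_e⟩, ?_, ?_⟩
  · rintro φ ⟨γ, hγ, hφ⟩ h0
    have hγ0 : γ ≠ 0 := fun e => h0 (hinj hφ (e ▸ fun _ => rfl))
    obtain ⟨δ, hδ, r, l⟩ := fr.memA_inv hγ hγ0
    obtain ⟨ψ, hψ⟩ := fr.exists_rep hδ.1
    exact ⟨ψ, ⟨δ, hδ, hψ⟩, hinj (r ▸ fr.rep_mul hφ hψ) fr.rep_e, hinj (l ▸ fr.rep_mul hψ hφ) fr.rep_e⟩
  · rintro φ ⟨δ, hδ, hφ⟩ ψ ⟨γ, hγ, hψ⟩
    by_cases h0 : δ = 0
    · subst h0
      exact ⟨0, fr.memA_zero, by rw [hinj hφ (fun _ => rfl : fr.Rep 0 0)]; intro w; simp⟩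
    · obtain ⟨-, -, -, hA, -⟩ := fr.memA_quad hδ hγ h0
      exact ⟨_, hA, fr.rep_mul (fr.rep_mul hφ hψ) hφ⟩

/-- The members of the class of `s` fall into at most two orbits of the stabiliser of both classes. -/
theorem two_orbits : ∃ c ∈ Min G, key c = key fr.s ∧ ∀ x ∈ Min G, key x = key fr.s →
    ∃ ℓ ∈ K, act ℓ (key fr.s) = key fr.s ∧ act ℓ (key fr.t) = key fr.t ∧
      (x = ℓ * fr.s * ℓ⁻¹ ∨ x = ℓ * c * ℓ⁻¹) := by
  haveI : Finite (Module.End F (LinearMap.range fr.a)) := by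
    haveI : Finite (LinearMap.range fr.a) := Module.finite_of_finite F
    exact Finite.of_injective (fun f : Module.End F (LinearMap.range fr.a) => (f : _ → _)) DFunLike.coe_injective
  haveI : Nontrivial (Module.End F (LinearMap.range fr.a)) := ⟨⟨1, 0, fun h => dev_ne_zero fr.hs
    (LinearMap.ext fun v => congrArg Subtype.val (LinearMap.congr_fun h ⟨fr.a v, ⟨v, rfl⟩⟩))⟩⟩
  obtain ⟨c₀, ⟨γc, hγc, hc₀⟩, hc0, htwo⟩ := fr.corner_closed.two_classes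
  have hγc0 : γc ≠ 0 := fun e => hc0 (LinearMap.ext fun w => Subtype.ext (by rw [hc₀, e]; rfl))
  obtain ⟨hCc, c, hcK, hce⟩ := hγc
  obtain ⟨hcmin, hck⟩ := fr.key_of_memA hCc hcK hce hγc0
  refine ⟨c, hcmin, hck, fun x hx hk => ?_⟩
  obtain ⟨hγ, hγa⟩ := fr.memA_class_s hx hk
  obtain ⟨φ, hφ⟩ := fr.exists_rep hγ.1
  have hφ0 : φ ≠ 0 := by
    intro e
    refine dev_ne_zero hx ?_
    have : dev x * fr.b = 0 := fr.rep_unique hγ.1 isC_zero hφ (e ▸ fun _ => rfl)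
    rw [← hγa, this, zero_mul]
  obtain ⟨z, ⟨ζ, hζ, hz⟩, hz0, hcase⟩ := htwo φ ⟨_, hγ, hφ⟩ hφ0
  have hζ0 : ζ ≠ 0 := fun e => hz0 (LinearMap.ext fun w => Subtype.ext (by rw [hz, e]; rfl))
  have hC3 : ∀ {γ : EndM}, fr.IsC γ → fr.IsC (ζ * γ * ζ) := fun hg => isC_CC (isC_CC hζ.1 hg) hζ.1
  have hfix : ∀ {ℓ : GLM}, fr.Blk ℓ → act ℓ (key fr.s) = key fr.s ∧ act ℓ (key fr.t) = key fr.t :=
    fun h => fr.blk_fix h
  rcases hcase with e | e
  · obtain ⟨ℓ, hℓ, hblk, -, hdev⟩ := fr.memA_quad hζ fr.memA_e hζ0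
    refine ⟨ℓ, hℓ, (hfix hblk).1, (hfix hblk).2, Or.inl ?_⟩
    have h := hdev fr.s (by rw [mul_assoc, fr.haba])
    have h2 : dev x * fr.b = ζ * fr.e * ζ := fr.rep_unique hγ.1 (hC3 isC_e) hφ
      (by rw [e, mul_e hζ.1]; exact fr.rep_mul hz hz)
    apply Units.ext
    rw [coe_dev x, coe_dev (ℓ * fr.s * ℓ⁻¹), h, ← h2, hγa]
  · obtain ⟨ℓ, hℓ, hblk, -, hdev⟩ := fr.memA_quad hζ ⟨hCc, c, hcK, hce⟩ hζ0
    refine ⟨ℓ, hℓ, (hfix hblk).1, (hfix hblk).2, Or.inr ?_⟩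
    have h := hdev c (by rw [dev_up hce]; simp)
    have h2 : dev x * fr.b = ζ * γc * ζ := fr.rep_unique hγ.1 (hC3 hCc) hφ
      (by rw [e]; exact fr.rep_mul (fr.rep_mul hz hc₀) hz)
    apply Units.ext
    rw [coe_dev x, coe_dev (ℓ * c * ℓ⁻¹), h, ← h2, hγa]

end Frame

/-- The elements fixing two classes. -/
def pairStab (G : Subgroup (LinearMap.GeneralLinearGroup (ZMod p) M))
    (C D : Submodule (ZMod p) M × Submodule (ZMod p) M) : Subgroup (LinearMap.GeneralLinearGroup (ZMod p) M) where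
  carrier := {g | g ∈ G ∧ act g C = C ∧ act g D = D}
  one_mem' := ⟨one_mem _, act_one C, act_one D⟩
  mul_mem' := fun {g h} hg hh => ⟨mul_mem hg.1 hh.1, by rw [act_mul, hh.2.1, hg.2.1],
    by rw [act_mul, hh.2.2, hg.2.2]⟩
  inv_mem' := fun {g} hg => ⟨inv_mem hg.1, by conv_lhs => rw [← hg.2.1, act_inv_act],
    by conv_lhs => rw [← hg.2.2, act_inv_act]⟩

/-- A partner in a given class is unique. -/
theorem partner_unique {x y y' : GLM} (hk : key y' = key y) (h : dev y * dev x * dev y = dev y)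
    (h' : dev y' * dev x * dev y' = dev y') (ha : dev x * dev y * dev x = dev x)
    (ha' : dev x * dev y' * dev x = dev x) : y' = y := by
  obtain ⟨e1, -⟩ := absorb (s := x) h hk
  obtain ⟨-, e2⟩ := absorb (s := x) h' hk.symm
  apply Units.ext
  rw [coe_dev y, coe_dev y']
  congr 1
  rw [← e1, e2]

/-- Odd order operators fixing two opposite classes fix a normalised pair in them. -/
theorem fixed_pair (h5 : 5 ≤ p) {G R : Subgroup GLM} (hG : CR G) (hnorm : R ≤ Subgroup.normalizer (G : Set GLM))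
    (hcop : (Nat.card R).Coprime (Nat.card G)) (hodd : Odd (Nat.card R)) (hsolv : Group.IsSolvable R)
    (hminN : ∀ r ∈ R, ∀ x ∈ Min G, r * x * r⁻¹ ∈ Min G) {s t : GLM} (hs : s ∈ Min G) (ht : t ∈ Min G)
    (ho : Opp (key s) (key t)) (hfix : ∀ r ∈ R, act r (key s) = key s ∧ act r (key t) = key t) :
    ∃ x ∈ Min G, ∃ y ∈ Min G, key x = key s ∧ key y = key t ∧ dev x * dev y * dev x = dev x ∧
      dev y * dev x * dev y = dev y ∧ ∀ r ∈ R, r * x = x * r ∧ r * y = y * r := by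
  classical
  haveI : Finite M := Module.finite_of_finite F
  haveI : Finite GLM := Finite.of_injective (fun g : GLM => ((g : EndM) : M → M)) fun g h e =>
    Units.ext (DFunLike.coe_injective e)
  obtain ⟨fr, hfs, hft⟩ := exists_frame h5 hG hs ht ho
  have e := min_stab1 h5 hs
  obtain ⟨c, hcm, hck, htwo⟩ := fr.two_orbits
  rw [e] at hcm htwo
  rw [hfs] at hck htwo
  set L := pairStab G (key s) (key t) with hL
  let cj : GLM → GLM → GLM := fun g x => g * x * g⁻¹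
  have cj_mul : ∀ g h x, cj (g * h) x = cj g (cj h x) := fun g h x => by simp only [cj]; group
  let O : Set GLM := {x | ∃ ℓ ∈ L, cj ℓ s = x}
  have hO : ∀ x, x ∈ O → x ∈ Min G ∧ key x = key s := by
    rintro _ ⟨ℓ, hℓ, rfl⟩
    exact ⟨min_conj hℓ.1 hs, by rw [key_conj, hℓ.2.1]⟩
  have hY : ∀ x ∈ Min G, key x = key s → x ∈ O ∨ ∃ ℓ ∈ L, cj ℓ c = x := by
    intro x hx hk
    obtain ⟨ℓ, hℓ, h1, h2, h | h⟩ := htwo x hx hk
    · exact Or.inl ⟨ℓ, ⟨stab1_le G (fr.hKG hℓ), h1, by rwa [hft] at h2⟩, h.symm⟩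
    · exact Or.inr ⟨ℓ, ⟨stab1_le G (fr.hKG hℓ), h1, by rwa [hft] at h2⟩, h.symm⟩
  have hRL : R ≤ Subgroup.normalizer (L : Set GLM) := fun r hr =>
    Subgroup.mem_normalizer_fintype fun ℓ (hℓ : ℓ ∈ L) => by
      have h1 := hfix r⁻¹ (inv_mem hr)
      refine ⟨(Subgroup.mem_normalizer_iff.1 (hnorm hr) ℓ).1 hℓ.1, ?_, ?_⟩
      · rw [act_mul, act_mul, h1.1, hℓ.2.1, (hfix r hr).1]
      · rw [act_mul, act_mul, h1.2, hℓ.2.2, (hfix r hr).2]
  have hmove : ∀ r ∈ R, ∀ ℓ ∈ L, ∀ x, ∃ m ∈ L, cj r (cj ℓ x) = cj m (cj r x) := fun r hr ℓ hℓ x =>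
    ⟨r * ℓ * r⁻¹, (Subgroup.mem_normalizer_iff.1 (hRL hr) ℓ).1 hℓ, by simp only [cj]; group⟩
  have hcjY : ∀ r ∈ R, ∀ x ∈ Min G, key x = key s → cj r x ∈ Min G ∧ key (cj r x) = key s :=
    fun r hr x hx hk => ⟨hminN r hr x hx, by rw [key_conj, hk, (hfix r hr).1]⟩
  have hOL : ∀ ℓ ∈ L, ∀ x ∈ O, cj ℓ x ∈ O := by
    rintro ℓ hℓ _ ⟨m, hm, rfl⟩
    exact ⟨ℓ * m, mul_mem hℓ hm, cj_mul _ _ _⟩
  have hOR : ∀ r ∈ R, ∀ x ∈ O, cj r x ∈ O := by
    suffices h2 : ∀ r ∈ R, cj r s ∈ O from fun r hr x ⟨ℓ, hℓ, hx⟩ => by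
      obtain ⟨m, hm, e⟩ := hmove r hr ℓ hℓ s
      rw [← hx, e]; exact hOL m hm _ (h2 r hr)
    intro r hr
    have hsq : cj (r * r) s ∈ O := by
      obtain h | ⟨ℓ, hℓ, h⟩ := hY _ (hcjY r hr s hs rfl).1 (hcjY r hr s hs rfl).2
      · obtain ⟨ℓ, hℓ, h⟩ := h
        obtain ⟨m, hm, e⟩ := hmove r hr ℓ hℓ s
        rw [cj_mul, ← h, e]
        exact hOL m hm _ ⟨ℓ, hℓ, h⟩
      · obtain ⟨m, hm, e⟩ := hmove r hr ℓ hℓ c
        rw [cj_mul, ← h, e]
        refine hOL m hm _ ?_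
        obtain h' | ⟨ℓ', hℓ', h'⟩ := hY _ (hcjY r hr c hcm hck).1 (hcjY r hr c hcm hck).2
        · exact h'
        · -- both orbits would map into one
          have hri := inv_mem hr
          obtain hs' | ⟨n, hn, hs'⟩ := hY _ (hcjY r⁻¹ hri s hs rfl).1 (hcjY r⁻¹ hri s hs rfl).2
          · obtain ⟨n, hn, hs'⟩ := hs'
            obtain ⟨m', hm', e'⟩ := hmove r hr n hn s
            have : s = cj m' (cj ℓ c) := by
              rw [h, ← e', hs', ← cj_mul, mul_inv_cancel]; simp [cj]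
            refine ⟨ℓ' * (m' * ℓ)⁻¹, mul_mem hℓ' (inv_mem (mul_mem hm' hℓ)), ?_⟩
            rw [cj_mul, ← h']
            congr 1
            rw [this, ← cj_mul, ← cj_mul, show (m' * ℓ)⁻¹ * m' * ℓ = 1 by group]; simp [cj]
          · obtain ⟨m', hm', e'⟩ := hmove r hr n hn c
            have : s = cj m' (cj ℓ' c) := by
              rw [h', ← e', hs', ← cj_mul, mul_inv_cancel]; simp [cj]
            refine ⟨ℓ' * (m' * ℓ')⁻¹, mul_mem hℓ' (inv_mem (mul_mem hm' hℓ')), ?_⟩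
            rw [cj_mul, ← h']
            congr 1
            rw [this, ← cj_mul, ← cj_mul, show (m' * ℓ')⁻¹ * m' * ℓ' = 1 by group]; simp [cj]
    have hpow : ∀ k : ℕ, cj ((r * r) ^ k) s ∈ O := by
      intro k
      induction k with
      | zero => exact ⟨1, one_mem _, by rw [pow_zero]⟩
      | succ k ih =>
        obtain ⟨ℓ, hℓ, h⟩ := ih
        obtain ⟨m, hm, e⟩ := hmove (r * r) (mul_mem hr hr) ℓ hℓ s
        rw [pow_succ', cj_mul, ← h, e]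
        exact hOL m hm _ hsq
    obtain ⟨k, hk⟩ := hodd
    have hrn : r ^ Nat.card R = 1 := orderOf_dvd_iff_pow_eq_one.1 (Subgroup.orderOf_dvd_natCard R hr)
    have : r = (r * r) ^ (k + 1) := by
      rw [← pow_two, ← pow_mul, show 2 * (k + 1) = Nat.card R + 1 by omega, pow_succ, hrn, one_mul]
    rw [this]; exact hpow _
  letI act0 : MulAction GLM {x : GLM // True} :=
    { smul := fun g x => ⟨cj g x.1, trivial⟩
      one_smul := fun x => Subtype.ext (by show cj 1 x.1 = x.1; simp [cj])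
      mul_smul := fun g h x => Subtype.ext (cj_mul g h x.1) }
  obtain ⟨⟨⟨x, _⟩, hxO, hxR⟩, -⟩ := SchurZ.glauberman hRL
    (hcop.coprime_dvd_right (Subgroup.card_dvd_of_le fun g hg => hg.1)) (Or.inl hsolv)
    {x : {x : GLM // True} | x.1 ∈ O} ⟨⟨s, trivial⟩, 1, one_mem _, by simp [cj]⟩
    (fun r hr x hx => hOR r hr x.1 hx) (fun ℓ hℓ x hx => hOL ℓ hℓ x.1 hx)
    (by
      rintro ⟨_, -⟩ ⟨ℓ, hℓ, rfl⟩ ⟨_, -⟩ ⟨m, hm, rfl⟩
      refine ⟨m * ℓ⁻¹, mul_mem hm (inv_mem hℓ), Subtype.ext ?_⟩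
      show cj (m * ℓ⁻¹) (cj ℓ s) = cj m s
      rw [← cj_mul, inv_mul_cancel_right])
  obtain ⟨hxm, hxk⟩ := hO x hxO
  have hxr : ∀ r ∈ R, r * x * r⁻¹ = x := fun r hr => congrArg Subtype.val (hxR r hr)
  obtain ⟨y, hym, hyk, h1, h2⟩ := exists_partner_mem h5 hxm ht (by rw [hxk]; exact ho)
  refine ⟨x, hxm, y, hym, hxk, hyk, h1, h2, fun r hr => ⟨mul_inv_eq_iff_eq_mul.1 (hxr r hr), ?_⟩⟩
  refine mul_inv_eq_iff_eq_mul.1 (partner_unique (x := x) ?_ h2 ?_ h1 ?_)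
  · rw [key_conj, hyk, (hfix r hr).2]
  all_goals
    have hconj : ∀ a b : GLM, dev a * dev b * dev a = dev a →
        dev (r * a * r⁻¹) * dev (r * b * r⁻¹) * dev (r * a * r⁻¹) = dev (r * a * r⁻¹) := fun a b h => by
      rw [dev_conj, dev_conj]
      simp only [mul_assoc, tail_mul r.inv_mul, one_mul]
      conv_rhs => rw [← h]
      simp only [mul_assoc]
    first
    | (have := hconj y x h2; rwa [hxr r hr] at this)
    | (have := hconj x y h1; rwa [hxr r hr] at this)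

end Cfsg.Agent.EquiQuad
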