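import Cfsg.Agent.Lib.EquiQuad.QLemma
import Cfsg.Agent.Lib.EquiQuad.PGroup

/-!
The only class of members of least rank fixed by all elements trivial on the flag of `a` is the class of `a`.
-/

set_option autoImplicit false
set_option linter.unusedSimpArgs false

namespace Cfsg.Agent.EquiQuad

open UniFamily QuadPair

variable {p : ℕ} [hp : Fact p.Prime] {M : Type} [AddCommGroup M] [Module (ZMod p) M]

local notation "F" => ZMod p
local notation "GLM" => LinearMap.GeneralLinearGroup (ZMod p) M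
local notation "EndM" => M →ₗ[ZMod p] M

/-- Vanishing of a four-fold product of symmetrised outer products. -/
theorem four_zero {R : Type*} [Ring R] {αa βa αb βb αc βc αe βe n1 n2 n3 n4 : R}
    (hac : αa * βc = n1) (hca : αc * βa = n1) (hae : αa * βe = n2) (hea : αe * βa = n2)
    (hbc : αb * βc = n3) (hcb : αc * βb = n3) (hbe : αb * βe = n4) (heb : αe * βb = n4)
    (z11 : n1 * n1 = 0) (z12 : n1 * n2 = 0) (z13 : n1 * n3 = 0)
    (z21 : n2 * n1 = 0) (z22 : n2 * n2 = 0) (z24 : n2 * n4 = 0)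
    (z31 : n3 * n1 = 0) (z33 : n3 * n3 = 0) (z34 : n3 * n4 = 0)
    (z42 : n4 * n2 = 0) (z43 : n4 * n3 = 0) (z44 : n4 * n4 = 0)
    (t1 : n1 * (n4 * n1) = 0) (t4 : n4 * (n1 * n4) = 0) (t2 : n2 * (n3 * n2) = 0) (t3 : n3 * (n2 * n3) = 0) :
    (βa * αb + βb * αa) * (βc * αe + βe * αc) * ((βa * αb + βb * αa) * (βc * αe + βe * αc)) = 0 := by
  have l : ∀ {x y n : R}, x * y = n → ∀ z, x * (y * z) = n * z := fun h z => tail_mul h z
  have q : ∀ {x y w : R}, x * (y * w) = 0 → ∀ z, x * (y * (w * z)) = 0 := fun {x y w} h z => by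
    rw [← mul_assoc y, ← mul_assoc x, h, zero_mul]
  simp only [add_mul, mul_add, mul_assoc, l hac, l hca, l hae, l hea, l hbc, l hcb, l hbe, l heb, l z11, l z12,
    l z13, l z21, l z22, l z24, l z31, l z33, l z34, l z42, l z43, l z44, q t1, q t2, q t3, q t4, zero_mul,
    mul_zero, add_zero]

namespace Frame

variable {G K : Subgroup (LinearMap.GeneralLinearGroup (ZMod p) M)} (fr : Frame G K)
variable [FiniteDimensional (ZMod p) M]

/-- The radical of the alternating form. -/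
def radV : Submodule (ZMod p) ((M →ₗ[ZMod p] M) × (M →ₗ[ZMod p] M)) where
  carrier := {r | fr.MemV r.1 r.2 ∧ ∀ α β, fr.MemV α β → α * r.2 = r.1 * β}
  add_mem' := fun {r s} hr hs => ⟨fr.memV_add hr.1 hs.1, fun α β h => by
    simp only [Prod.fst_add, Prod.snd_add, mul_add, add_mul, hr.2 α β h, hs.2 α β h]⟩
  zero_mem' := ⟨fr.memV_zero, fun α β _ => by simp⟩
  smul_mem' := fun c r hr => ⟨fr.memV_smul hr.1 c, fun α β h => by
    simp only [Prod.smul_fst, Prod.smul_snd, mul_smul_comm, smul_mul_assoc, hr.2 α β h]⟩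

theorem bact_pair {ℓ : GLM} {x y : EndM × EndM} :
    (fr.bact ℓ x).1 * (fr.bact ℓ y).2
      = (ℓ : EndM) * (x.1 * y.2) * fr.a * ((ℓ⁻¹ : GLM) : EndM) * fr.b := by
  simp only [bact, mul_assoc, tail_mul (show ((ℓ⁻¹ : GLM) : EndM) * (ℓ : EndM) = 1 from ℓ.inv_mul), one_mul]

theorem bact_inv {ℓ : GLM} (hb : fr.Blk ℓ) {v : EndM × EndM} (hv : fr.IsB v.2) :
    fr.bact ℓ (fr.bact ℓ⁻¹ v) = v := by
  have h1 : (ℓ : EndM) * ((ℓ⁻¹ : GLM) : EndM) = 1 := ℓ.mul_inv
  refine Prod.ext ?_ ?_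
  · simp only [bact, inv_inv, mul_assoc, tail_mul h1, one_mul, h1, mul_one]
  · have e : (ℓ : EndM) * (fr.b * fr.a * ((ℓ⁻¹ : GLM) : EndM)) = fr.b * fr.a := by
      rw [← mul_assoc, hb.2, mul_assoc, h1, mul_one]
    simp only [bact, inv_inv, mul_assoc, tail_mul h1, one_mul] at e ⊢
    rw [← mul_assoc fr.a ((ℓ⁻¹ : GLM) : EndM), ← mul_assoc fr.b, ← mul_assoc (ℓ : EndM),
      show (ℓ : EndM) * (fr.b * (fr.a * ((ℓ⁻¹ : GLM) : EndM))) = fr.b * fr.a from e, mul_assoc fr.b,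
      fr.hbab, hv.right]

theorem radV_inv {ℓ : GLM} (hℓ : ℓ ∈ G) (hb : fr.Blk ℓ) {r : EndM × EndM} (hr : r ∈ fr.radV) :
    fr.bact ℓ r ∈ fr.radV := by
  refine ⟨fr.memV_blk hb hℓ hr.1, fun α β h => ?_⟩
  have h' := fr.memV_blk (fr.blk_inv hb) (inv_mem hℓ) h
  have e := hr.2 _ _ h'
  have e0 := fr.bact_inv hb (v := (α, β)) h.2.1
  calc α * (fr.bact ℓ r).2 = (fr.bact ℓ (fr.bact ℓ⁻¹ (α, β))).1 * (fr.bact ℓ r).2 := by rw [e0]
    _ = (fr.bact ℓ r).1 * (fr.bact ℓ (fr.bact ℓ⁻¹ (α, β))).2 := by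
      rw [bact_pair, bact_pair]
      rw [show (fr.bact ℓ⁻¹ (α, β)).1 * r.2 = r.1 * (fr.bact ℓ⁻¹ (α, β)).2 from e]
    _ = _ := by rw [e0]

theorem up_commute {α β γ α' β' γ' : EndM} (h : fr.IsA α) (k : fr.IsB β) (l : fr.IsC γ) (h' : fr.IsA α')
    (k' : fr.IsB β') (l' : fr.IsC γ') {g g' : GLM} (hg : (g : EndM) = fr.up α β γ)
    (hg' : (g' : EndM) = fr.up α' β' γ') : g * g' = g' * g ↔ α * β' = α' * β := by
  have e1 : ((g * g' : GLM) : EndM) = fr.up (α + α') (β + β') (γ + γ' + α * β') := by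
    rw [Units.val_mul, hg, hg', up_mul h k l h' k' l']
  have e2 : ((g' * g : GLM) : EndM) = fr.up (α + α') (β + β') (γ + γ' + α' * β) := by
    rw [Units.val_mul, hg, hg', up_mul h' k' l' h k l, add_comm α', add_comm β', add_comm γ']
  constructor
  · intro he
    rw [he, e2] at e1
    have := (up_ext (h.add h') (k.add k') ((l.add l').add (isC_AB h' k)) (h.add h') (k.add k')
      ((l.add l').add (isC_AB h k')) e1).2.2
    exact (add_left_cancel this).symm
  · intro he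
    exact Units.ext (by rw [e1, e2, he])

theorem up_pow_p {α β γ : EndM} (h : fr.IsA α) (k : fr.IsB β) (l : fr.IsC γ) {g : GLM}
    (hg : (g : EndM) = fr.up α β γ) : g ^ p = 1 := by
  have : ∀ n : ℕ, ((g ^ n : GLM) : EndM)
      = fr.up ((n : F) • α) ((n : F) • β) ((n : F) • γ + ((half : F) * n * ((n : F) - 1)) • (α * β)) := by
    intro n
    induction n with
    | zero => simp [up_zero]
    | succ n ih =>
      rw [pow_succ, Units.val_mul, ih, hg, up_mul (h.smul _) (k.smul _) ((l.smul _).add ((isC_AB h k).smul _))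
        h k l, Nat.cast_succ, add_smul, add_smul, add_smul, one_smul, one_smul, one_smul, smul_mul_assoc]
      congr 1
      rw [show (half : F) * ((n : F) + 1) * ((n : F) + 1 - 1) = (half : F) * (n : F) * ((n : F) - 1) + (n : F) by
        have h2 := half_add_half (p := p) fr.h5
        linear_combination (n : F) * h2]
      rw [add_smul]
      abel
  refine Units.ext ?_
  rw [this, ZMod.natCast_self]
  simp [up_zero]

/-- The elements commuting with both flags' groups centralise `K`. -/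
theorem central_of_gen (hgen : fr.HGen) {x : GLM} (hu : ∀ g ∈ fr.upSet, x * g = g * x)
    (hs : x * fr.s = fr.s * x) (ht : x * fr.t = fr.t * x) : ∀ g ∈ K, x * g = g * x := by
  have hcen : ∀ g, x * g = g * x → g ∈ Subgroup.centralizer {x} := fun g hg =>
    Subgroup.mem_centralizer_iff.2 fun y hy => by rw [Set.mem_singleton_iff.1 hy]; exact hg
  have hw : fr.w ∈ Subgroup.centralizer {x} :=
    mul_mem (mul_mem (hcen _ hs) (inv_mem (hcen _ ht))) (hcen _ hs)
  have : K ≤ Subgroup.centralizer {x} := by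
    refine hgen.trans ((Subgroup.closure_le _).2 ?_)
    rintro g (hg | ⟨u, hu', rfl⟩)
    · exact hcen g (hu g hg)
    · exact mul_mem (mul_mem hw (hcen u (hu u hu'))) (inv_mem hw)
  exact fun g hg => Subgroup.mem_centralizer_iff.1 (this hg) x rfl

include fr in
/-- A central element of order `p` of `K` is trivial. -/
theorem central_eq_one (hG : NoUni G) {x : GLM} (hx : x ∈ K) (hc : ∀ g ∈ K, x * g = g * x)
    (hxp : x ^ p = 1) : x = 1 := by
  let Z : Subgroup GLM :=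
    { carrier := {y | y ∈ K ∧ (∀ g ∈ K, y * g = g * y) ∧ y ^ p = 1}
      one_mem' := ⟨one_mem _, by simp, one_pow _⟩
      mul_mem' := fun {y z} hy hz => ⟨mul_mem hy.1 hz.1, fun g hg => by
          rw [mul_assoc, hz.2.1 g hg, ← mul_assoc, hy.2.1 g hg, mul_assoc],
        by rw [Commute.mul_pow (hy.2.1 z hz.1), hy.2.2, hz.2.2, one_mul]⟩
      inv_mem' := fun {y} hy => ⟨inv_mem hy.1, fun g hg => (Commute.inv_left (hy.2.1 g hg)),
        by rw [inv_pow, hy.2.2, inv_one]⟩ }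
  have hp' : IsPGroup p Z := fun y => ⟨1, Subtype.ext (by rw [pow_one]; exact y.2.2.2)⟩
  have := hG Z (fun y hy => fr.hKG hy.1) (unipotent_of_pgroup hp') fun g hg y hy => by
    refine ⟨fr.hnorm g hg y hy.1, fun k hk => ?_, by rw [conj_pow, hy.2.2]; group⟩
    have h := hy.2.1 _ (fr.hnorm g⁻¹ (inv_mem hg) k hk)
    rw [inv_inv] at h
    calc g * y * g⁻¹ * k = g * (y * (g⁻¹ * k * g)) * g⁻¹ := by group
      _ = _ := by rw [h]; group
  exact (Subgroup.mem_bot).1 (this ▸ (⟨hx, hc, hxp⟩ : x ∈ Z))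

/-- The ranks of the two coordinates are bounded by that of the element. -/
theorem rank_pair {α β : EndM} (h : fr.IsA α) (k : fr.IsB β) :
    Module.finrank F (LinearMap.range α) + Module.finrank F (LinearMap.range β)
      ≤ Module.finrank F (LinearMap.range (α + β * fr.a)) := by
  have key := finrank_map_add (LinearMap.range (α + β * fr.a)) fr.e
  have e1 : fr.e * (α + β * fr.a) = α := by
    rw [mul_add, e_mul_A h, mul_assoc fr.a fr.b, tail_mul k.lb, zero_mul, mul_zero, add_zero]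
  have e2 : (α + β * fr.a) * fr.b = β := by rw [add_mul, h.rb, zero_add, mul_assoc, k.right]
  have h1 : LinearMap.range α ≤ (LinearMap.range (α + β * fr.a)).map fr.e := by
    rintro _ ⟨v, rfl⟩
    exact ⟨_, ⟨v, rfl⟩, LinearMap.congr_fun e1 v⟩
  have h2 : LinearMap.range β ≤ LinearMap.ker fr.e ⊓ LinearMap.range (α + β * fr.a) := by
    rintro _ ⟨v, rfl⟩
    refine ⟨?_, fr.b v, LinearMap.congr_fun e2 v⟩
    show fr.a (fr.b (β v)) = 0
    rw [show fr.b (β v) = 0 from LinearMap.congr_fun k.lb v, map_zero]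
  have := Submodule.finrank_mono h1
  have := Submodule.finrank_mono h2
  omega

/-- Coordinates of a member of least rank give a member of least rank. -/
theorem minimal_canon {c : GLM} {α β γ : EndM} (hmin : c ∈ Min G) (hV : fr.MemV α β) (h0 : α * β = 0)
    (hγ : fr.MemA γ) (hc : (c : EndM) = fr.up α β γ) (hne : (α, β) ≠ 0) :
    ∃ u ∈ K, u ∈ Min G ∧ (u : EndM) = fr.up α β 0 := by
  obtain ⟨hA, hB, u, hu, hue⟩ := hV
  rw [h0, smul_zero] at hue
  refine ⟨u, hu, ?_, hue⟩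
  by_cases hγ0 : γ = 0
  · subst hγ0; rwa [show u = c from Units.ext (hue.trans hc.symm)]
  obtain ⟨δ, hδ, r1, r2⟩ := fr.memA_inv hγ hγ0
  have hdu : dev u = α + β * fr.a := by rw [dev_up hue]; simp
  have hsq : dev u * dev u = 0 := by
    rw [hdu]
    simp only [mul_add, add_mul, mul_assoc, hA.mul_A hA, hA.la, tail_mul h0, tail_mul hB.la, zero_mul, mul_zero,
      add_zero]
  have hnz : dev u ≠ 0 := fun h => hne (by
    have h1 : (u : EndM) = fr.up 0 0 0 := by rw [up_zero, coe_dev u, h, add_zero]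
    obtain ⟨x1, x2, -⟩ := up_ext hA hB isC_zero isA_zero isB_zero isC_zero (hue.symm.trans h1)
    exact Prod.ext x1 x2)
  refine min_of_le hmin (fr.hKG hu) hsq hnz ?_
  set D := dev c with hD
  have hDv : D = α + β * fr.a + γ * fr.a := dev_up hc
  set L : EndM := 1 - β * δ
  set R : EndM := 1 - fr.b * (δ * α)
  set X := L * D * R with hX
  have hXv : X = γ * fr.a - β * (δ * α) := by
    rw [hX, hDv]
    simp only [L, R, mul_add, add_mul, mul_sub, sub_mul, one_mul, mul_one, mul_assoc, hA.rb, tail_mul hA.rb,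
      hB.right', hγ.1.right', hB.right, hγ.1.right, hδ.1.mul_B hB, tail_mul (hδ.1.mul_B hB), tail_mul r2,
      tail_mul r1, hA.left, hA.left', hB.mul_B hB, tail_mul (hB.mul_B hB), hB.rb, tail_mul hB.rb,
      fr.haba, fr.haba', zero_mul, mul_zero]
    abel
  have hrX : Module.finrank F (LinearMap.range X) ≤ Module.finrank F (LinearMap.range D) := by
    have e : LinearMap.range X ≤ (LinearMap.range D).map L := by
      rintro _ ⟨v, rfl⟩; exact ⟨D (R v), ⟨_, rfl⟩, rfl⟩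
    exact (Submodule.finrank_mono e).trans (Submodule.finrank_map_le _ _)
  have hγa : fr.e * X = γ * fr.a := by
    rw [hXv, mul_sub, ← mul_assoc, e_mul hγ.1, mul_assoc fr.a fr.b, tail_mul hB.lb, zero_mul, mul_zero, sub_zero]
  have ha : Module.finrank F (LinearMap.range fr.a) ≤ Module.finrank F ((LinearMap.range X).map fr.e : Submodule F M) := by
    have e : LinearMap.range fr.a ≤ ((LinearMap.range X).map fr.e).map δ := by
      rintro _ ⟨v, rfl⟩
      refine ⟨_, ⟨_, ⟨v, rfl⟩, rfl⟩, ?_⟩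
      rw [← Module.End.mul_apply, ← Module.End.mul_apply, mul_assoc, hγa, ← mul_assoc, r2]
      exact LinearMap.congr_fun fr.aba v
    exact (Submodule.finrank_mono e).trans (Submodule.finrank_map_le _ _)
  have hker : LinearMap.ker fr.e ⊓ LinearMap.range X = ⊥ := by
    have k := finrank_map_add (LinearMap.range X) fr.e
    have hd : Module.finrank F (LinearMap.range D) = Module.finrank F (LinearMap.range fr.a) :=
      rank_eq hmin fr.hs
    exact Submodule.finrank_eq_zero.1 (by omega)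
  have hbda : β * (δ * α) = 0 := by
    refine LinearMap.ext fun v => ?_
    have ew : (δ * α) (v - fr.b (fr.a v)) = (δ * α) v := by
      rw [map_sub, ← Module.End.mul_apply, mul_assoc, hA.rb, mul_zero, LinearMap.zero_apply, sub_zero]
    have ea : (γ * fr.a) (v - fr.b (fr.a v)) = 0 := by
      rw [Module.End.mul_apply, map_sub, show fr.a (fr.b (fr.a v)) = fr.a v from LinearMap.congr_fun fr.haba v,
        sub_self, map_zero]
    have : X (v - fr.b (fr.a v)) = 0 := by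
      rw [← Submodule.mem_bot F, ← hker]
      refine ⟨?_, _, rfl⟩
      show fr.e (X _) = 0
      rw [← Module.End.mul_apply, hγa, ea]
    rw [hXv, LinearMap.sub_apply, ea, zero_sub, neg_eq_zero, Module.End.mul_apply, ew] at this
    exact this
  rw [hdu]
  have k1 := finrank_map_add (LinearMap.range fr.a) β
  have k2 : LinearMap.range (δ * α) ≤ LinearMap.ker β ⊓ LinearMap.range fr.a := by
    rintro _ ⟨v, rfl⟩
    refine ⟨LinearMap.congr_fun hbda v, fr.b ((δ * α) v), ?_⟩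
    exact LinearMap.congr_fun hδ.1.left (α v)
  have k3 : LinearMap.range α ≤ (LinearMap.range (δ * α)).map γ := by
    rintro _ ⟨v, rfl⟩
    refine ⟨_, ⟨v, rfl⟩, ?_⟩
    rw [← Module.End.mul_apply, ← mul_assoc, r1, e_mul_A hA]
  have k4 : LinearMap.range β ≤ (LinearMap.range fr.a).map β := by
    rintro _ ⟨v, rfl⟩
    exact ⟨fr.a (fr.b v), ⟨_, rfl⟩, LinearMap.congr_fun hB.right v⟩
  have k5 : LinearMap.range (α + β * fr.a) ≤ LinearMap.range α ⊔ LinearMap.range β := by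
    rintro _ ⟨v, rfl⟩
    exact Submodule.add_mem_sup ⟨v, rfl⟩ ⟨fr.a v, rfl⟩
  have := Submodule.finrank_mono k2
  have := (Submodule.finrank_mono k3).trans (Submodule.finrank_map_le _ _)
  have := Submodule.finrank_mono k4
  have := (Submodule.finrank_mono k5).trans (Submodule.finrank_add_le_finrank_add_finrank _ _)
  have hd : Module.finrank F (LinearMap.range D) = Module.finrank F (LinearMap.range fr.a) := rank_eq hmin fr.hs
  omega

/-- The radical vectors whose canonical elements are of least rank. -/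
def Sm (v : (M →ₗ[ZMod p] M) × (M →ₗ[ZMod p] M)) : Prop :=
  v ∈ fr.radV ∧ v.1 * v.2 = 0 ∧
    ∃ u ∈ K, u ∈ Min G ∧ (u : M →ₗ[ZMod p] M) = fr.up v.1 v.2 0

theorem sm_bact {ℓ : GLM} (hℓ : ℓ ∈ G) (hb : fr.Blk ℓ) {v : EndM × EndM} (h : fr.Sm v) : fr.Sm (fr.bact ℓ v) := by
  obtain ⟨hr, h0, u, hu, hum, hue⟩ := h
  refine ⟨fr.radV_inv hℓ hb hr, ?_, ℓ * u * ℓ⁻¹, fr.hnorm ℓ hℓ u hu, min_conj hℓ hum, ?_⟩
  · rw [bact_pair, h0]; simp
  · rw [Units.val_mul, Units.val_mul, hue, (fr.blk_conj_up hb hr.1.1 hr.1.2.1 isC_zero).2.2.2]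
    simp [bact]

theorem w_blk {ℓ : GLM} (hb : fr.Blk ℓ) : fr.Blk (fr.w⁻¹ * ℓ * fr.w) := by
  have hst : act fr.w (key fr.s) = key fr.t := by
    rw [← key_conj, show fr.w * fr.s * fr.w⁻¹ = fr.t⁻¹ from (exists_swap fr.aba fr.bab fr.haa fr.hbb).2]
    refine Prod.ext ?_ ?_
    · show LinearMap.range (dev fr.t⁻¹) = LinearMap.range fr.b
      rw [exists_partner_mem.dev_inv_of_sq' fr.hbb, LinearMap.range_neg]
    · show LinearMap.ker (dev fr.t⁻¹) = LinearMap.ker fr.b
      rw [exists_partner_mem.dev_inv_of_sq' fr.hbb, LinearMap.ker_neg]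
  have hts : act fr.w (key fr.t) = key fr.s := by
    rw [← key_conj]; exact (swap_class fr.aba fr.bab fr.haa fr.hbb rfl).2
  obtain ⟨h1, h2⟩ := fr.blk_fix hb
  refine fr.blk_of_fix ?_ ?_
  · rw [act_mul, act_mul, hst, h2]; nth_rewrite 1 [← hst]; rw [act_inv_act]
  · rw [act_mul, act_mul, hts, h1]; nth_rewrite 1 [← hts]; rw [act_inv_act]

theorem sm_sq {v : EndM × EndM} (h : fr.Sm v) : v.2 * v.1 = 0 := by
  obtain ⟨hr, h0, u, hu, hum, hue⟩ := h
  obtain ⟨hA, hB, -⟩ := hr.1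
  have h2 := two_ne fr.h5 (p := p)
  have hd : dev u = v.1 + v.2 * fr.a := by rw [dev_up hue]; simp
  have hd' : dev (fr.w * u * fr.w⁻¹) = -(fr.b * v.1) + v.2 := by
    rw [dev, Units.val_mul, Units.val_mul, hue, w_conj hA hB isC_zero]; simp [sub_eq_add_neg]; abel
  have hmin := min_conj (fr.hKG fr.w_mem) hum
  have hzz : zz (dev (fr.w * u * fr.w⁻¹)) (dev u) = 0 := by
    rw [zz, hd, hd']
    simp only [mul_add, add_mul, mul_neg, neg_mul, mul_assoc, hA.mul_A hA, hA.la, hA.rb, tail_mul hA.rb, h0,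
      tail_mul h0, hB.mul_B hB, tail_mul (hB.mul_B hB), tail_mul hB.la, hB.la, hA.left, hA.left', hB.right, hB.right',
      zero_mul, mul_zero, neg_zero]
    abel
  have hzc : zc (dev (fr.w * u * fr.w⁻¹)) (dev u) = (2 : F) • (v.2 * v.1) := by
    rw [zc, hd, hd', two_smul]
    simp only [mul_add, add_mul, mul_neg, neg_mul, mul_assoc, hA.mul_A hA, hA.la, hA.rb, tail_mul hA.rb, h0,
      tail_mul h0, hB.mul_B hB, tail_mul (hB.mul_B hB), tail_mul hB.la, hB.la, hA.left, hA.left', hB.right, hB.right',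
      zero_mul, mul_zero, neg_zero]
    abel
  by_contra hne
  have hne' : zc (dev (fr.w * u * fr.w⁻¹)) (dev u) ≠ 0 := by
    rw [hzc]; exact smul_ne_zero h2 hne
  have hn : IsNilpotent (zz (dev (fr.w * u * fr.w⁻¹)) (dev u)) := ⟨1, by rw [pow_one, hzz]⟩
  obtain ⟨hmin', -⟩ := commutator_minimal h2 hmin hum hn hne'
  have hrk := rank_eq hum hmin'
  rw [dev_comm_pair h2 hmin hum hn, hzc, hd, LinearMap.range_smul _ _ h2] at hrk
  have := fr.rank_pair hA hB
  have l1 : Module.finrank F (LinearMap.range (v.2 * v.1)) ≤ Module.finrank F (LinearMap.range v.2) :=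
    Submodule.finrank_mono (LinearMap.range_comp_le_range _ _)
  have l2 : Module.finrank F (LinearMap.range (v.2 * v.1)) ≤ Module.finrank F (LinearMap.range v.1) := by
    rw [Module.End.mul_eq_comp, LinearMap.range_comp]; exact Submodule.finrank_map_le _ _
  have : Module.finrank F (LinearMap.range v.1) = 0 := by omega
  refine hne ?_
  rw [LinearMap.range_eq_bot.1 (Submodule.finrank_eq_zero.1 this), mul_zero]

/-- The products of the radical vectors of least rank satisfy a symmetric relation. -/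
theorem sm_identity {x y c r : EndM × EndM} (hx : x ∈ fr.radV) (hy : y ∈ fr.radV) (hc : c ∈ fr.radV)
    (hr : r ∈ fr.radV) :
    x.1 * y.2 * (c.1 * r.2) + c.1 * r.2 * (x.1 * y.2) + c.1 * x.2 * (y.1 * r.2) + c.1 * y.2 * (x.1 * r.2)
      + x.1 * r.2 * (y.1 * c.2) + y.1 * r.2 * (x.1 * c.2) = 0 := by
  have base : ∀ α β, fr.MemV α β → c.1 * r.2 * ff α β + ff α β * (c.1 * r.2) + c.1 * β * (α * r.2)
      + α * r.2 * (α * c.2) = 0 := by
    intro α β h
    have hm := (fr.twist_mem fr.radV (fun j hj => hj.1) (fun ℓ hℓ hb j hj => fr.radV_inv (fr.hKG hℓ) hb hj)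
      (fun j hj => hj.2) h hr).2
    have e := hm.2 _ _ hc.1
    simp only [mul_sub, mul_neg, add_mul, ← mul_assoc] at e ⊢
    rw [mul_assoc (ff α β) r.1, ← hr.2 _ _ hc.1, ← mul_assoc] at e
    linear_combination (norm := abel) -e
  have e0 := base _ _ (fr.memV_add hx.1 hy.1)
  have e1 := base _ _ hx.1
  have e2 := base _ _ hy.1
  have hsym : y.1 * x.2 = x.1 * y.2 := hx.2 _ _ hy.1
  have hff : ff (x.1 + y.1) (x.2 + y.2) = ff x.1 x.2 + ff y.1 y.2 + x.1 * y.2 := by
    have h1 : (x.1 + y.1) * (x.2 + y.2) = x.1 * x.2 + y.1 * y.2 + (x.1 * y.2 + x.1 * y.2) := by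
      rw [add_mul, mul_add, mul_add, hsym]; abel
    simp only [ff, h1, smul_add]
    rw [← add_smul, half_add_half fr.h5, one_smul]
  rw [hff] at e0
  simp only [add_mul, mul_add] at e0
  linear_combination (norm := abel) e0 - e1 - e2

theorem sm_adj {x y z : EndM × EndM} (hy : fr.Sm y) : x.1 * y.2 * (y.1 * z.2) = 0 := by
  rw [mul_assoc, tail_mul (fr.sm_sq hy), zero_mul, mul_zero]

theorem sm_triple {x y c r : EndM × EndM} (hx : fr.Sm x) (hy : fr.Sm y) (hc : fr.Sm c) (hr : fr.Sm r) :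
    x.1 * y.2 * (c.1 * r.2 * (x.1 * y.2)) = 0 := by
  have sym : ∀ {u v : EndM × EndM}, fr.Sm u → fr.Sm v → u.1 * v.2 = v.1 * u.2 := fun hu hv => hv.1.2 _ _ hu.1.1
  have e := congrArg (fun q => x.1 * y.2 * q) (fr.sm_identity hx.1 hy.1 hc.1 hr.1)
  simp only [mul_add, mul_zero] at e
  have z1 : x.1 * y.2 * (x.1 * y.2 * (c.1 * r.2)) = 0 := by
    rw [← mul_assoc (x.1 * y.2), sym hx hy]
    nth_rewrite 2 [← sym hx hy]
    rw [fr.sm_adj hx, zero_mul]
  have z2 : x.1 * y.2 * (c.1 * x.2 * (y.1 * r.2)) = 0 := by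
    rw [← mul_assoc (x.1 * y.2), sym hx hy, sym hc hx, fr.sm_adj hx, zero_mul]
  have z3 : x.1 * y.2 * (c.1 * y.2 * (x.1 * r.2)) = 0 := by
    rw [← mul_assoc (x.1 * y.2), sym hc hy, fr.sm_adj hy, zero_mul]
  have z4 : x.1 * y.2 * (x.1 * r.2 * (y.1 * c.2)) = 0 := by
    rw [← mul_assoc (x.1 * y.2), sym hx hy, fr.sm_adj hx, zero_mul]
  have z5 : x.1 * y.2 * (y.1 * r.2 * (x.1 * c.2)) = 0 := by
    rw [← mul_assoc (x.1 * y.2), fr.sm_adj hy, zero_mul]
  rw [z1, z2, z3, z4, z5, zero_add, add_zero, add_zero, add_zero, add_zero] at e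
  exact e

/-- The value of the commutator of two opposite radical elements. -/
def diag (x y : (M →ₗ[ZMod p] M) × (M →ₗ[ZMod p] M)) : M →ₗ[ZMod p] M :=
  -(fr.b * (x.1 * y.2) * fr.a) - x.1 * y.2 + (x.2 * y.1 + y.2 * x.1)

theorem comm_value {x y : EndM × EndM} (hx : fr.Sm x) (hy : fr.Sm y) {u v : GLM} (hum : u ∈ Min G)
    (hvm : v ∈ Min G) (hue : (u : EndM) = fr.up x.1 x.2 0) (hve : (v : EndM) = fr.up y.1 y.2 0) :
    dev ((fr.w * u * fr.w⁻¹) * v * (fr.w * u * fr.w⁻¹)⁻¹ * v⁻¹) = fr.diag x y ∧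
      dev ((fr.w * u * fr.w⁻¹) * v * (fr.w * u * fr.w⁻¹)⁻¹ * v⁻¹) *
        dev ((fr.w * u * fr.w⁻¹) * v * (fr.w * u * fr.w⁻¹)⁻¹ * v⁻¹) = 0 := by
  obtain ⟨hA, hB, -⟩ := hx.1.1
  obtain ⟨hA', hB', -⟩ := hy.1.1
  have h2 := two_ne fr.h5 (p := p)
  set ν := x.1 * y.2 with hν
  have hν' : y.1 * x.2 = ν := hx.1.2 _ _ hy.1.1
  have hνC : fr.IsC ν := isC_AB hA hB'
  have hd : dev v = y.1 + y.2 * fr.a := by rw [dev_up hve]; simp
  have hd' : dev (fr.w * u * fr.w⁻¹) = -(fr.b * x.1) + x.2 := by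
    rw [dev, Units.val_mul, Units.val_mul, hue, w_conj hA hB isC_zero]; simp [sub_eq_add_neg]; abel
  have hmin := min_conj (fr.hKG fr.w_mem) hum
  have hzc : zc (dev (fr.w * u * fr.w⁻¹)) (dev v) = fr.diag x y := by
    rw [zc, hd, hd', diag, ← hν]
    simp only [mul_add, add_mul, mul_neg, neg_mul, mul_assoc, hA.mul_A hA', tail_mul (hA.mul_A hA'), hA'.rb,
      tail_mul hA'.rb, hν', tail_mul hν.symm, hB.mul_B hB', tail_mul (hB.mul_B hB'), tail_mul hB.la, hA.left,
      hA.left', hB'.right', hB'.mul_B hB, hB.la, zero_mul, mul_zero, neg_zero]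
    abel
  have hn : IsNilpotent (zz (dev (fr.w * u * fr.w⁻¹)) (dev v)) := by
    have e : zz (dev (fr.w * u * fr.w⁻¹)) (dev v)
        = -(fr.b * ν * fr.a) + ν + (x.2 * y.1 - y.2 * x.1) := by
      rw [zz, hd, hd']
      simp only [mul_add, add_mul, mul_neg, neg_mul, mul_assoc, hA.mul_A hA', tail_mul (hA.mul_A hA'), hA'.rb,
        tail_mul hA'.rb, hν', tail_mul hν.symm, hB.mul_B hB', tail_mul (hB.mul_B hB'), tail_mul hB.la, hA.left,
        hA.left', hB'.right', hB'.mul_B hB, hB.la, zero_mul, mul_zero, neg_zero]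
      abel
    have q1 : ν * ν = 0 := by
      nth_rewrite 2 [← hν']
      exact fr.sm_adj hy
    have q2 : y.1 * y.2 = 0 := hy.2.1
    have q3 : x.2 * ν = 0 := by rw [hν, tail_mul (fr.sm_sq hx), zero_mul]
    have q4 : ν * x.1 = 0 := by rw [← hν', mul_assoc, fr.sm_sq hx, mul_zero]
    have q5 : y.2 * ν = 0 := by rw [← hν', tail_mul (fr.sm_sq hy), zero_mul]
    have q6 : ν * y.1 = 0 := by rw [hν, mul_assoc, fr.sm_sq hy, mul_zero]
    refine ⟨2, ?_⟩
    rw [pow_two, e]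
    simp only [mul_add, add_mul, mul_sub, sub_mul, mul_neg, neg_mul, mul_assoc, fr.haa, tail_mul fr.haa,
      hνC.la, tail_mul hνC.la, hνC.rb, tail_mul hνC.rb, hνC.left, hνC.left', hνC.right, hνC.right', hB.la, hB'.la,
      tail_mul hB.la, tail_mul hB'.la, hA.rb, hA'.rb, tail_mul hA.rb, tail_mul hA'.rb, hA.mul_C hνC,
      hA'.mul_C hνC, tail_mul (hA.mul_C hνC), tail_mul (hA'.mul_C hνC), hνC.mul_B hB, hνC.mul_B hB',
      tail_mul (hνC.mul_B hB), tail_mul (hνC.mul_B hB'), q1, tail_mul q1, tail_mul hν', tail_mul hν.symm,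
      tail_mul hx.2.1, tail_mul q2, tail_mul q3, tail_mul q5, q3, q4, q5, q6, zero_mul, mul_zero, neg_zero]
    abel
  rw [dev_comm_pair h2 hmin hvm hn, hzc]
  refine ⟨rfl, ?_⟩
  by_cases h0 : fr.diag x y = 0
  · rw [h0, zero_mul]
  · have := sq_zero (commutator_minimal h2 hmin hvm hn (by rwa [hzc])).1
    rwa [dev_comm_pair h2 hmin hvm hn, hzc] at this

theorem diag_mul {x y x' y' : EndM × EndM} (hx : fr.Sm x) (hy : fr.Sm y) (hx' : fr.Sm x') (hy' : fr.Sm y') :
    fr.diag x y * fr.diag x' y' = fr.b * (x.1 * y.2 * (x'.1 * y'.2)) * fr.a + x.1 * y.2 * (x'.1 * y'.2)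
      + (x.2 * y.1 + y.2 * x.1) * (x'.2 * y'.1 + y'.2 * x'.1) := by
  have hC : fr.IsC (x.1 * y.2) := isC_AB hx.1.1.1 hy.1.1.2.1
  have hC' : fr.IsC (x'.1 * y'.2) := isC_AB hx'.1.1.1 hy'.1.1.2.1
  rw [diag, diag]
  generalize x.1 * y.2 = ν at hC ⊢
  generalize x'.1 * y'.2 = ν' at hC' ⊢
  simp only [mul_add, add_mul, mul_sub, sub_mul, mul_neg, neg_mul, mul_assoc, hC'.la, tail_mul hC'.la,
    hC.rb, tail_mul hC.rb, hC'.left, hC'.left', hx'.1.1.2.1.la, hy'.1.1.2.1.la, tail_mul hx'.1.1.2.1.la,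
    tail_mul hy'.1.1.2.1.la, hx.1.1.1.rb, hy.1.1.1.rb, tail_mul hx.1.1.1.rb, tail_mul hy.1.1.1.rb,
    hx.1.1.1.mul_C hC', hy.1.1.1.mul_C hC', tail_mul (hx.1.1.1.mul_C hC'), tail_mul (hy.1.1.1.mul_C hC'),
    hC.mul_B hx'.1.1.2.1, hC.mul_B hy'.1.1.2.1, tail_mul (hC.mul_B hx'.1.1.2.1), tail_mul (hC.mul_B hy'.1.1.2.1),
    fr.haa, tail_mul fr.haa, fr.haba', zero_mul, mul_zero, neg_zero]
  abel

theorem diag_four {x y x' y' : EndM × EndM} (hx : fr.Sm x) (hy : fr.Sm y) (hx' : fr.Sm x') (hy' : fr.Sm y') :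
    fr.diag x y * fr.diag x' y' * (fr.diag x y * fr.diag x' y') = 0 := by
  have sym : ∀ {u v : EndM × EndM}, fr.Sm u → fr.Sm v → u.1 * v.2 = v.1 * u.2 := fun hu hv => hv.1.2 _ _ hu.1.1
  have hT : (x.2 * y.1 + y.2 * x.1) * (x'.2 * y'.1 + y'.2 * x'.1)
      * ((x.2 * y.1 + y.2 * x.1) * (x'.2 * y'.1 + y'.2 * x'.1)) = 0 := by
    refine four_zero rfl (sym hx' hx) rfl (sym hy' hx) rfl (sym hx' hy) rfl (sym hy' hy)
      ?_ ?_ ?_ ?_ ?_ ?_ ?_ ?_ ?_ ?_ ?_ ?_ ?_ ?_ ?_ ?_
    · nth_rewrite 2 [sym hx hx']; exact fr.sm_adj hx'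
    · rw [sym hx hx']; exact fr.sm_adj hx
    · rw [sym hy hx']; exact fr.sm_adj hx'
    · rw [sym hx hy']; exact fr.sm_adj hx
    · nth_rewrite 2 [sym hx hy']; exact fr.sm_adj hy'
    · rw [sym hy hy']; exact fr.sm_adj hy'
    · rw [sym hx hx']; exact fr.sm_adj hx'
    · nth_rewrite 2 [sym hy hx']; exact fr.sm_adj hx'
    · rw [sym hy hx']; exact fr.sm_adj hy
    · rw [sym hx hy']; exact fr.sm_adj hy'
    · rw [sym hy hy']; exact fr.sm_adj hy
    · nth_rewrite 2 [sym hy hy']; exact fr.sm_adj hy'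
    · exact fr.sm_triple hx hx' hy hy'
    · exact fr.sm_triple hy hy' hx hx'
    · exact fr.sm_triple hx hy' hy hx'
    · exact fr.sm_triple hy hx' hx hy'
  have ht := fr.sm_triple hx hy hx' hy'
  have hC : fr.IsC (x.1 * y.2) := isC_AB hx.1.1.1 hy.1.1.2.1
  have hC' : fr.IsC (x'.1 * y'.2) := isC_AB hx'.1.1.1 hy'.1.1.2.1
  rw [fr.diag_mul hx hy hx' hy']
  generalize hP : x.1 * y.2 * (x'.1 * y'.2) = P
  have hPC : fr.IsC P := hP ▸ isC_CC hC hC'
  have hPP : P * P = 0 := by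
    rw [← hP, ← mul_assoc, mul_assoc (x.1 * y.2), ht, zero_mul]
  simp only [mul_assoc] at hT
  simp only [mul_add, add_mul, mul_assoc, hPC.la, tail_mul hPC.la, hPC.rb, tail_mul hPC.rb, hPC.left, hPC.left',
    hPP, tail_mul hPP, hx.1.1.1.rb, hy.1.1.1.rb, tail_mul hx.1.1.1.rb, tail_mul hy.1.1.1.rb,
    hx.1.1.2.1.la, hy.1.1.2.1.la, tail_mul hx.1.1.2.1.la, tail_mul hy.1.1.2.1.la,
    hPC.mul_B hx.1.1.2.1, hPC.mul_B hy.1.1.2.1, tail_mul (hPC.mul_B hx.1.1.2.1),
    tail_mul (hPC.mul_B hy.1.1.2.1), hx'.1.1.1.mul_C hPC, hy'.1.1.1.mul_C hPC,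
    tail_mul (hx'.1.1.1.mul_C hPC), tail_mul (hy'.1.1.1.mul_C hPC), hx'.1.1.1.rb, hy'.1.1.1.rb,
    tail_mul hx'.1.1.1.rb, tail_mul hy'.1.1.1.rb, fr.haa, fr.haba', zero_mul, mul_zero, zero_add, add_zero]
  simp only [mul_add, add_mul, mul_assoc] at hT
  linear_combination (norm := abel) hT

/-- The commutators of opposite radical elements of least rank are trivial. -/
theorem sm_isotropic (hG : NoUni G) (hsemi : fr.Semi) (hgen : fr.HGen) {x y : EndM × EndM}
    (hx : fr.Sm x) (hy : fr.Sm y) : x.1 * y.2 = 0 := by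
  classical
  let Ts : Set GLM := {t | ∃ x y, fr.Sm x ∧ fr.Sm y ∧ ∃ u ∈ K, ∃ v ∈ K, u ∈ Min G ∧ v ∈ Min G ∧
    (u : EndM) = fr.up x.1 x.2 0 ∧ (v : EndM) = fr.up y.1 y.2 0 ∧
    t = (fr.w * u * fr.w⁻¹) * v * (fr.w * u * fr.w⁻¹)⁻¹ * v⁻¹}
  have hval : ∀ t ∈ Ts, t ∈ K ∧ fr.Blk t ∧ dev t * dev t = 0 ∧ ∃ x y, fr.Sm x ∧ fr.Sm y ∧ dev t = fr.diag x y := by
    rintro t ⟨x, y, hx, hy, u, hu, v, hv, hum, hvm, hue, hve, rfl⟩
    obtain ⟨e1, e2⟩ := fr.comm_value hx hy hum hvm hue hve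
    have hwu := mul_mem (mul_mem fr.w_mem hu) (inv_mem fr.w_mem)
    refine ⟨mul_mem (mul_mem (mul_mem hwu hv) (inv_mem hwu)) (inv_mem hv), ?_, e2, x, y, hx, hy, e1⟩
    have hC : fr.IsC (x.1 * y.2) := isC_AB hx.1.1.1 hy.1.1.2.1
    constructor <;>
    · rw [coe_dev ((fr.w * u * fr.w⁻¹) * v * (fr.w * u * fr.w⁻¹)⁻¹ * v⁻¹), e1, diag, add_mul, one_mul, mul_add,
        mul_one]
      congr 1
      generalize x.1 * y.2 = ν at hC ⊢
      simp only [mul_add, add_mul, mul_sub, sub_mul, mul_neg, neg_mul, mul_assoc, fr.haa, fr.hbb, fr.haba,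
        fr.hbab, fr.haba', fr.hbab', tail_mul fr.haa, tail_mul fr.hbb, hC.la, tail_mul hC.la, hC.rb,
        tail_mul hC.rb, hC.left, hC.left', hC.right, hC.right', hx.1.1.2.1.la, hy.1.1.2.1.la, hx.1.1.2.1.lb,
        hy.1.1.2.1.lb, tail_mul hx.1.1.2.1.la, tail_mul hy.1.1.2.1.la, tail_mul hx.1.1.2.1.lb,
        tail_mul hy.1.1.2.1.lb, hx.1.1.1.ra, hx.1.1.1.rb, hy.1.1.1.ra, hy.1.1.1.rb, tail_mul hx.1.1.1.ra,
        tail_mul hx.1.1.1.rb, tail_mul hy.1.1.1.ra, tail_mul hy.1.1.1.rb, zero_mul, mul_zero, neg_zero]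
      try abel
  have hconjT : ∀ ℓ ∈ K, fr.Blk ℓ → ∀ t ∈ Ts, ℓ * t * ℓ⁻¹ ∈ Ts := by
    rintro ℓ hℓ hb t ⟨x, y, hx, hy, u, hu, v, hv, hum, hvm, hue, hve, rfl⟩
    have hb' := fr.w_blk hb
    have hℓ' : fr.w⁻¹ * ℓ * fr.w ∈ K := mul_mem (mul_mem (inv_mem fr.w_mem) hℓ) fr.w_mem
    set ℓ' := fr.w⁻¹ * ℓ * fr.w with hl'
    refine ⟨_, _, fr.sm_bact (fr.hKG hℓ') hb' hx, fr.sm_bact (fr.hKG hℓ) hb hy, ℓ' * u * ℓ'⁻¹,
      fr.hnorm _ (fr.hKG hℓ') u hu, ℓ * v * ℓ⁻¹, fr.hnorm _ (fr.hKG hℓ) v hv, min_conj (fr.hKG hℓ') hum,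
      min_conj (fr.hKG hℓ) hvm, ?_, ?_, ?_⟩
    · rw [Units.val_mul, Units.val_mul, hue, (fr.blk_conj_up hb' hx.1.1.1 hx.1.1.2.1 isC_zero).2.2.2]
      simp [bact]
    · rw [Units.val_mul, Units.val_mul, hve, (fr.blk_conj_up hb hy.1.1.1 hy.1.1.2.1 isC_zero).2.2.2]
      simp [bact]
    · rw [hl']; group
  let W : Set (Subgroup GLM) := {A | ∃ t ∈ Ts, A = Subgroup.zpowers t}
  have hWW : ∀ A ∈ W, ∀ B ∈ W, Cfsg.IsUnipotentOn (A ⊔ B) := by
    rintro _ ⟨t, ht, rfl⟩ _ ⟨t', ht', rfl⟩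
    obtain ⟨-, -, hs, x, y, hx, hy, e⟩ := hval t ht
    obtain ⟨-, -, hs', x', y', hx', hy', e'⟩ := hval t' ht'
    have hn : IsNilpotent (zz (dev t) (dev t')) := by
      refine ⟨4, ?_⟩
      have z1 : dev t * dev t' * (dev t * dev t') = 0 := by rw [e, e']; exact fr.diag_four hx hy hx' hy'
      have z2 : dev t' * dev t * (dev t' * dev t) = 0 := by rw [e, e']; exact fr.diag_four hx' hy' hx hy
      rw [pow_succ, pow_succ, pow_two, QuadPair.zz_sq hs hs', mul_assoc _ (zz _ _),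
        show dev t * dev t' * dev t * dev t' = 0 by rw [← z1]; simp only [mul_assoc],
        show dev t' * dev t * dev t' * dev t = 0 by rw [← z2]; simp only [mul_assoc]]
      simp
    obtain ⟨n, hn', hb⟩ := exists_pwr_eq_bot (isUnipotentOn_of_nilpotent hs hs' hn)
    set X := Subgroup.closure (Set.range (el (dev t) hs) ∪ Set.range (el (dev t') hs'))
    have el1 : ∀ (g : GLM) (h : dev g * dev g = 0), el (dev g) h 1 = g := fun g h =>
      Units.ext (by rw [el_val, one_smul, ← coe_dev g])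
    have hle : Subgroup.zpowers t ⊔ Subgroup.zpowers t' ≤ X := by
      refine sup_le (Subgroup.zpowers_le.2 ?_) (Subgroup.zpowers_le.2 ?_)
      · exact Subgroup.subset_closure (Or.inl ⟨1, el1 t hs⟩)
      · exact Subgroup.subset_closure (Or.inr ⟨1, el1 t' hs'⟩)
    exact unipotent_of_algebra (le_bot_iff.1 ((pwr_one_pow X n hn').trans hb.le))
      fun g hg => dev_mem_pwr (hle hg)
  have hblkz : ∀ A ∈ W, ∀ g ∈ A, g ∈ K ∧ fr.Blk g := by
    rintro _ ⟨t, ht, rfl⟩ g hg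
    let B : Subgroup GLM :=
      { carrier := {g | g ∈ K ∧ fr.Blk g}
        one_mem' := ⟨one_mem _, by simp [Blk]⟩
        mul_mem' := fun h h' => ⟨mul_mem h.1 h'.1, fr.blk_mul h.2 h'.2⟩
        inv_mem' := fun h => ⟨inv_mem h.1, fr.blk_inv h.2⟩ }
    exact (Subgroup.zpowers_le.2 (show t ∈ B from ⟨(hval t ht).1, (hval t ht).2.1⟩)) hg
  have hconj : ∀ A ∈ W, ∀ B ∈ W, ∀ g ∈ A, Cfsg.conjBy B g ∈ W := by
    rintro A hA _ ⟨t, ht, rfl⟩ g hg
    obtain ⟨h1, h2⟩ := hblkz A hA g hg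
    refine ⟨g * t * g⁻¹, hconjT g h1 h2 t ht, ?_⟩
    rw [Cfsg.conjBy, MonoidHom.map_zpowers]
    congr 1
  set Q := ⨆ A ∈ W, A with hQ
  let Bs : Subgroup GLM :=
    { carrier := {g | g ∈ K ∧ fr.Blk g}
      one_mem' := ⟨one_mem _, by simp [Blk]⟩
      mul_mem' := fun h h' => ⟨mul_mem h.1 h'.1, fr.blk_mul h.2 h'.2⟩
      inv_mem' := fun h => ⟨inv_mem h.1, fr.blk_inv h.2⟩ }
  have hQB : Q ≤ Bs := iSup₂_le fun A hA g hg => hblkz A hA g hg
  have hQn : ∀ ℓ ∈ K, fr.Blk ℓ → ∀ q ∈ Q, ℓ * q * ℓ⁻¹ ∈ Q := by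
    intro ℓ hℓ hb q hq
    have hle : Q ≤ Q.comap (MulAut.conj ℓ).toMonoidHom := by
      refine iSup₂_le ?_
      rintro _ ⟨t, ht, rfl⟩
      refine Subgroup.zpowers_le.2 ?_
      exact le_iSup₂_of_le (f := fun (A : Subgroup GLM) (_ : A ∈ W) => A) _ ⟨_, hconjT ℓ hℓ hb t ht, rfl⟩
        le_rfl (by simp)
    exact hle hq
  obtain ⟨-, -, u, hu, hum, hue⟩ := id hx
  obtain ⟨-, -, v, hv, hvm, hve⟩ := id hy
  set t := (fr.w * u * fr.w⁻¹) * v * (fr.w * u * fr.w⁻¹)⁻¹ * v⁻¹ with ht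
  have htT : t ∈ Ts := ⟨x, y, hx, hy, u, hu, v, hv, hum, hvm, hue, hve, rfl⟩
  obtain ⟨htK, -, hts, -⟩ := hval t htT
  have hcen := fr.qlemma hsemi hgen Q (hQB.trans fun g hg => fr.hKG hg.1) (unipotent_iSup hWW hconj)
    (fun q hq => (hQB hq).2) hQn
    (le_iSup₂_of_le (f := fun (A : Subgroup GLM) (_ : A ∈ W) => A) _ ⟨t, htT, rfl⟩ le_rfl
      (Subgroup.mem_zpowers t)) hts
  have ht1 : t = 1 := fr.central_eq_one hG htK hcen
    (dev_eq_zero (by rw [dev_pow hts, ZMod.natCast_self, zero_smul]))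
  have e := (fr.comm_value hx hy hum hvm hue hve).1
  rw [← ht, ht1, dev_one] at e
  have := congrArg (fun q => fr.a * (fr.b * q)) e.symm
  rw [diag] at this
  have hC : fr.IsC (x.1 * y.2) := isC_AB hx.1.1.1 hy.1.1.2.1
  generalize x.1 * y.2 = ν at this hC ⊢
  simp only [mul_add, mul_sub, mul_neg, mul_assoc, tail_mul fr.hbb, zero_mul, hC.left, tail_mul hx.1.1.2.1.lb,
    tail_mul hy.1.1.2.1.lb, mul_zero, neg_zero, zero_sub, add_zero, neg_eq_zero] at this
  exact this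

/-- Uniqueness of the fixed class. -/
theorem uniq (hG : NoUni G) (hsemi : fr.Semi) (hgen : fr.HGen) {c : GLM} (hc : c ∈ Min G) (hcK : c ∈ K)
    (hfix : ∀ g ∈ fr.upSet, act g (key c) = key c) : key c = key fr.s := by
  classical
  have hsU : fr.s ∈ fr.upSet :=
    ⟨fr.hsK, 0, 0, fr.e, isA_zero, isB_zero, isC_e, by
      rw [up, coe_dev fr.s, zero_mul, mul_assoc fr.a, fr.haba, add_zero, add_zero]⟩
  -- it suffices to treat an element trivial on the flag and orthogonal to all coordinates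
  suffices key0 : ∀ c' ∈ Min G, c' ∈ K → key c' = key c → ∀ α β γ, fr.IsA α → fr.IsB β → fr.IsC γ →
      (c' : EndM) = fr.up α β γ → (∀ g ∈ fr.upSet, c' * g = g * c') → key c = key fr.s by
    by_contra hne
    by_cases hall : ∀ g ∈ fr.upSet, c * g = g * c
    · obtain ⟨hsc, -⟩ := commute_of_fix fr.h5 fr.hs hc (hfix _ hsU)
      obtain ⟨g, hg, α, β, γ, hA, hB, hC, hgv, ℓ, hℓ, hblk, hcl⟩ := fr.levi hcK (act_key_self hsc.symm)
      have hgs := fr.up_comm_s hA hB hC hgv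
      have hls : ℓ * fr.s = fr.s * ℓ := by
        rw [show ℓ = g⁻¹ * c by rw [hcl]; group]
        calc g⁻¹ * c * fr.s = g⁻¹ * (fr.s * g) * g⁻¹ * c := by rw [mul_assoc, ← hsc]; group
          _ = _ := by rw [← hgs]; group
      have hlt : ℓ * fr.t = fr.t * ℓ := by
        have hx : act ℓ (key fr.t) = key fr.t := (fr.blk_fix hblk).2
        obtain ⟨hl, hr⟩ := absorb (s := fr.s) (x := ℓ * fr.t * ℓ⁻¹) fr.bab ((key_conj ℓ fr.t).trans hx)
        have h1 : fr.a * dev (ℓ * fr.t * ℓ⁻¹) * fr.a = fr.a := by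
          have hla : (ℓ : EndM) * fr.a * ((ℓ⁻¹ : GLM) : EndM) = fr.a := by
            rw [← dev_conj, hls, mul_inv_cancel_right]
          rw [dev_conj]
          calc fr.a * ((ℓ : EndM) * fr.b * ((ℓ⁻¹ : GLM) : EndM)) * fr.a
              = (ℓ : EndM) * (fr.a * fr.b * fr.a) * ((ℓ⁻¹ : GLM) : EndM) := by
                conv_lhs => rw [← hla]
                simp only [mul_assoc, tail_mul (show ((ℓ⁻¹ : GLM) : EndM) * (ℓ : EndM) = 1 from ℓ.inv_mul),
                  one_mul]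
            _ = _ := by rw [show fr.a * fr.b * fr.a = fr.a from fr.aba]; exact hla
        have h2 : dev (ℓ * fr.t * ℓ⁻¹) = fr.b := by
          calc dev (ℓ * fr.t * ℓ⁻¹) = fr.b * (fr.a * dev (ℓ * fr.t * ℓ⁻¹) * fr.a) * fr.b := by
                conv_lhs => rw [← hl, ← hr]
                simp only [mul_assoc]
            _ = _ := by rw [h1]; exact fr.bab
        have : ℓ * fr.t * ℓ⁻¹ = fr.t := Units.ext (by rw [coe_dev (ℓ * fr.t * ℓ⁻¹), h2, coe_dev fr.t])
        exact mul_inv_eq_iff_eq_mul.1 this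
      have hzl : fr.z * ℓ = ℓ * fr.z := by
        have c1 : Commute fr.s ℓ := hls.symm
        have c2 : Commute fr.t ℓ := hlt.symm
        have cw : Commute fr.w ℓ := (c1.mul_left c2.inv_left).mul_left c1
        exact cw.mul_left cw
      have hzu : ∀ u ∈ fr.upSet, fr.z * u * fr.z ∈ fr.upSet := by
        rintro u ⟨hu, α', β', γ', hA', hB', hC', hue⟩
        refine ⟨mul_mem (mul_mem fr.z_mem hu) fr.z_mem, _, _, _, hA'.neg, hB'.neg, hC', ?_⟩
        rw [Units.val_mul, Units.val_mul, hue, z_conj hA' hB' hC']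
      have hz1 : fr.z * fr.z = 1 := Units.ext (by rw [Units.val_mul, fr.z_mul_z, Units.val_one])
      -- the symmetrised element
      set d := g * (fr.z * g⁻¹ * fr.z) with hd
      have hdc : d = c * (fr.z * c⁻¹ * fr.z) := by
        rw [hd, hcl, mul_inv_rev]
        calc g * (fr.z * g⁻¹ * fr.z) = g * (ℓ * ℓ⁻¹) * (fr.z * g⁻¹ * fr.z) := by rw [mul_inv_cancel, mul_one]
          _ = g * ℓ * (ℓ⁻¹ * fr.z) * g⁻¹ * fr.z := by group
          _ = _ := by
            rw [show ℓ⁻¹ * fr.z = fr.z * ℓ⁻¹ from (Commute.inv_right (show Commute fr.z ℓ from hzl)).symm]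
            group
      have hdu : ∀ u ∈ fr.upSet, d * u = u * d := by
        intro u hu
        have h1 : Commute c u := hall u hu
        have h2 : Commute c (fr.z * u * fr.z) := hall _ (hzu u hu)
        have h3 : Commute (fr.z * c⁻¹ * fr.z) u := by
          have := h2.inv_left.eq
          show fr.z * c⁻¹ * fr.z * u = u * (fr.z * c⁻¹ * fr.z)
          calc fr.z * c⁻¹ * fr.z * u = fr.z * (c⁻¹ * (fr.z * u * fr.z)) * fr.z := by
                simp only [mul_assoc, hz1, mul_one]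
            _ = _ := by rw [this]; simp only [← mul_assoc, hz1, one_mul]
        rw [hdc]; exact h1.mul_left h3
      have hdv : (d : EndM) = fr.up ((2 : F) • α) ((2 : F) • β) (γ + (α * β - γ) + α * β) := by
        rw [hd, Units.val_mul, Units.val_mul, Units.val_mul, hgv, up_inv hA hB hC hgv,
          z_conj hA.neg hB.neg ((isC_AB hA hB).sub hC), neg_neg, neg_neg,
          up_mul hA hB hC hA hB ((isC_AB hA hB).sub hC), two_smul, two_smul]
      have hgu : ∀ u ∈ fr.upSet, g * u = u * g := by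
        rintro u ⟨hu, α', β', γ', hA', hB', hC', hue⟩
        have := (fr.up_commute (hA.smul (2 : F)) (hB.smul (2 : F))
          ((hC.add ((isC_AB hA hB).sub hC)).add (isC_AB hA hB)) hA' hB' hC' hdv hue).1
          (hdu u ⟨hu, α', β', γ', hA', hB', hC', hue⟩)
        rw [smul_mul_assoc, mul_smul_comm] at this
        exact (fr.up_commute hA hB hC hA' hB' hC' hgv hue).2 (smul_right_injective EndM (two_ne fr.h5) this)
      have hlu : ∀ u ∈ fr.upSet, ℓ * u = u * ℓ := by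
        intro u hu
        rw [show ℓ = g⁻¹ * c by rw [hcl]; group]
        exact (Commute.inv_left (hgu u hu : Commute g u)).mul_left (hall u hu)
      have hlc := fr.central_of_gen hgen hlu hls hlt
      have hlp : ℓ ^ p = 1 := by
        have hc' : Commute g ℓ := (hlc g hg).symm
        have h1 : c ^ p = 1 := dev_eq_zero (by rw [dev_pow (sq_zero hc), ZMod.natCast_self, zero_smul])
        rw [hcl, hc'.mul_pow, fr.up_pow_p hA hB hC hgv, one_mul] at h1
        exact h1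
      have hl1 := fr.central_eq_one hG hℓ hlc hlp
      refine hne (key0 c hc hcK rfl α β γ hA hB hC ?_ hall)
      rw [hcl, hl1, mul_one, hgv]
    · push Not at hall
      obtain ⟨u, hu, huc⟩ := hall
      obtain ⟨huK, α', β', γ', hA', hB', hC', hue⟩ := id hu
      obtain ⟨hsc, -⟩ := commute_of_fix fr.h5 fr.hs hc (hfix _ hsU)
      obtain ⟨g, hg, α, β, γ, hA, hB, hC, hgv, ℓ, hℓ, hblk, hcl⟩ := fr.levi hcK (act_key_self hsc.symm)
      set c' := u * c * u⁻¹ * c⁻¹ with hc'd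
      have hui := up_inv hA' hB' hC' hue
      obtain ⟨k1, k2, k3, k4⟩ := fr.blk_conj_up hblk hA'.neg hB'.neg ((isC_AB hA' hB').sub hC')
      have hform : ∃ x y z, fr.IsA x ∧ fr.IsB y ∧ fr.IsC z ∧ (c' : EndM) = fr.up x y z := by
        have e : c' = u * g * (ℓ * u⁻¹ * ℓ⁻¹) * g⁻¹ := by rw [hc'd, hcl]; group
        refine ⟨_, _, _, ((hA'.add hA).add k1).add hA.neg, ((hB'.add hB).add k2).add hB.neg,
          ((((hC'.add hC).add (isC_AB hA' hB)).add k3).add (isC_AB (hA'.add hA) k2)).add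
            ((isC_AB hA hB).sub hC) |>.add (isC_AB ((hA'.add hA).add k1) hB.neg), ?_⟩
        rw [e, Units.val_mul, Units.val_mul, Units.val_mul, Units.val_mul, Units.val_mul, hue, hgv,
          up_inv hA hB hC hgv, hui, k4, up_mul hA' hB' hC' hA hB hC,
          up_mul (hA'.add hA) (hB'.add hB) ((hC'.add hC).add (isC_AB hA' hB)) k1 k2 k3,
          up_mul ((hA'.add hA).add k1) ((hB'.add hB).add k2)
            ((((hC'.add hC).add (isC_AB hA' hB)).add k3).add (isC_AB (hA'.add hA) k2)) hA.neg hB.neg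
            ((isC_AB hA hB).sub hC)]
      obtain ⟨x, y, z, hxA, hyB, hzC, hcv⟩ := hform
      -- the commutator is again a member of the class of `c`
      have hmem : ∀ v ∈ fr.upSet, v * c * v⁻¹ * c⁻¹ ≠ 1 →
          v * c * v⁻¹ * c⁻¹ ∈ Min G ∧ key (v * c * v⁻¹ * c⁻¹) = key c := by
        intro v hv hv1
        exact class_quot hc (min_conj (fr.hKG hv.1) hc) ((key_conj v c).trans (hfix v hv)) hv1
      have hne1 : c' ≠ 1 := fun h => huc (by
        have : u * c = c * u := by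
          calc u * c = c' * c * u := by rw [hc'd]; group
            _ = _ := by rw [h, one_mul]
        exact this.symm)
      obtain ⟨hc'min, hc'key⟩ := hmem u hu hne1
      have hc'K : c' ∈ K := mul_mem (mul_mem (mul_mem huK hcK) (inv_mem huK)) (inv_mem hcK)
      refine hne (key0 c' hc'min hc'K hc'key x y z hxA hyB hzC hcv ?_)
      rintro v ⟨hvK, α'', β'', γ'', hA'', hB'', hC'', hve⟩
      by_contra hvc
      have hd1 : v * c' * v⁻¹ * c'⁻¹ ≠ 1 := fun h => hvc (by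
        calc c' * v = (v * c' * v⁻¹ * c'⁻¹) * c' * v := by rw [h, one_mul]
          _ = v * c' := by group)
      obtain ⟨hdmin, hdkey⟩ := class_quot hc'min (min_conj (fr.hKG hvK) hc'min)
        ((key_conj v c').trans (by
          rw [show key c' = key c from hc'key]
          exact hfix v ⟨hvK, α'', β'', γ'', hA'', hB'', hC'', hve⟩)) hd1
      have hdv : ((v * c' * v⁻¹ * c'⁻¹ : GLM) : EndM) = fr.up 0 0 (α'' * y - x * β'') := by
        have e : v * c' * v⁻¹ * c'⁻¹ = (v * c') * (c' * v)⁻¹ := by group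
        have e2 : ((c' * v : GLM) : EndM) = fr.up (x + α'') (y + β'') (z + γ'' + x * β'') := by
          rw [Units.val_mul, hcv, hve, up_mul hxA hyB hzC hA'' hB'' hC'']
        rw [e, Units.val_mul, up_inv (hxA.add hA'') (hyB.add hB'') ((hzC.add hC'').add (isC_AB hxA hB'')) e2,
          Units.val_mul, hve, hcv, up_mul hA'' hB'' hC'' hxA hyB hzC,
          up_mul (hA''.add hxA) (hB''.add hyB) ((hC''.add hzC).add (isC_AB hA'' hyB)) (hxA.add hA'').neg
            (hyB.add hB'').neg ((isC_AB (hxA.add hA'') (hyB.add hB'')).sub ((hzC.add hC'').add (isC_AB hxA hB'')))]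
        congr 1 <;> (try simp only [mul_neg, neg_add, add_mul, mul_add]) <;> abel
      have hnu : α'' * y - x * β'' ≠ 0 := fun h => hd1 (Units.ext (by rw [hdv, h, up_zero, Units.val_one]))
      have := (fr.key_of_memA ((isC_AB hA'' hyB).sub (isC_AB hxA hB''))
        (mul_mem (mul_mem (mul_mem hvK hc'K) (inv_mem hvK)) (inv_mem hc'K)) hdv hnu).2
      exact hne (by rw [← hc'key, ← hdkey]; exact this)
  intro c' hmin hK hkey α β γ hA hB hC hcv hcomm
  rw [← hkey]
  have hV := fr.memV_of_up hK hA hB hC hcv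
  have horth : (α, β) ∈ fr.radV := by
    refine ⟨hV, fun α' β' h' => ?_⟩
    obtain ⟨hA', hB', g, hg, he⟩ := h'
    exact ((fr.up_commute hA hB hC hA' hB' ((isC_AB hA' hB').smul _) hcv he).1
      (hcomm g ⟨hg, α', β', _, hA', hB', (isC_AB hA' hB').smul _, he⟩)).symm
  have h0 : α * β = 0 := by
    have hsq := sq_zero hmin
    rw [dev_up hcv] at hsq
    simp only [mul_add, add_mul, mul_assoc, hA.mul_A hA, hA.mul_C hC, tail_mul (hA.mul_C hC), hA.la, hB.la,
      hC.la, tail_mul hB.la, tail_mul hC.la, zero_mul, mul_zero, add_zero, zero_add] at hsq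
    have := congrArg (· * fr.b) hsq
    simp only [mul_assoc, zero_mul, hB.right] at this
    exact this
  have hγ : fr.MemA γ := by simpa [h0] using fr.memA_of_up hK hA hB hC hcv
  by_cases hv0 : (α, β) = 0
  · obtain ⟨rfl, rfl⟩ := Prod.mk.inj hv0
    have hγ0 : γ ≠ 0 := fun h => mem_ne_one hmin (Units.ext (by rw [hcv, h, up_zero, Units.val_one]))
    exact (fr.key_of_memA hC hK hcv hγ0).2
  exfalso
  obtain ⟨u, hu, hum, hue⟩ := fr.minimal_canon hmin hV h0 hγ hcv hv0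
  have hSm : fr.Sm (α, β) := ⟨horth, h0, u, hu, hum, hue⟩
  set J : Submodule F (EndM × EndM) := Submodule.span F {v | fr.Sm v} with hJ
  have hJR : J ≤ fr.radV := Submodule.span_le.2 fun v hv => hv.1
  have hJ0 : J = ⊥ := by
    refine fr.rad_eq_bot hsemi J (fun j hj => (hJR hj).1) (fun ℓ hℓ hb j hj => ?_) (fun j hj j' hj' => ?_)
      fun j hj => (hJR hj).2
    · induction hj using Submodule.span_induction with
      | mem r hr => exact Submodule.subset_span (fr.sm_bact (fr.hKG hℓ) hb hr)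
      | zero => rw [show fr.bact ℓ 0 = 0 from Prod.ext (by simp [bact]) (by simp [bact])]; exact J.zero_mem
      | add r s _ _ hr hs =>
        rw [show fr.bact ℓ (r + s) = fr.bact ℓ r + fr.bact ℓ s from
          Prod.ext (by simp [bact, mul_add, add_mul]) (by simp [bact, mul_add, add_mul])]
        exact J.add_mem hr hs
      | smul q r _ hr =>
        rw [show fr.bact ℓ (q • r) = q • fr.bact ℓ r from Prod.ext (by simp [bact]) (by simp [bact])]
        exact J.smul_mem q hr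
    · induction hj using Submodule.span_induction with
      | mem r hr =>
        induction hj' using Submodule.span_induction with
        | mem r' hr' => exact fr.sm_isotropic hG hsemi hgen hr hr'
        | zero => simp
        | add a b _ _ ha hb => simp only [Prod.snd_add, mul_add, ha, hb, add_zero]
        | smul q a _ ha => simp only [Prod.smul_snd, mul_smul_comm, ha, smul_zero]
      | zero => simp
      | add a b _ _ ha hb => simp only [Prod.fst_add, add_mul, ha, hb, add_zero]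
      | smul q a _ ha => simp only [Prod.smul_fst, smul_mul_assoc, ha, smul_zero]
  exact hv0 ((Submodule.mem_bot F).1 (hJ0 ▸ (Submodule.subset_span hSm : (α, β) ∈ J)))
where
  class_quot {a b : GLM} (ha : a ∈ Min G) (hb : b ∈ Min G) (hk : key b = key a) (h1 : b * a⁻¹ ≠ 1) :
      b * a⁻¹ ∈ Min G ∧ key (b * a⁻¹) = key a := by
    have hba : dev b * dev a = 0 := by
      refine LinearMap.ext fun v => ?_
      exact (congrArg Prod.snd hk).ge (LinearMap.congr_fun (sq_zero ha) v)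
    have hd : dev (b * a⁻¹) = dev b - dev a := by
      rw [dev_mul, exists_partner_mem.dev_inv_of_sq' (sq_zero ha), mul_neg, hba]; abel
    have hr : LinearMap.range (dev b - dev a) ≤ LinearMap.range (dev a) := by
      rintro _ ⟨v, rfl⟩
      exact Submodule.sub_mem _ ((congrArg Prod.fst hk).le ⟨v, rfl⟩) ⟨v, rfl⟩
    have hkk : LinearMap.ker (dev a) ≤ LinearMap.ker (dev b - dev a) := fun v hv => by
      show dev b v - dev a v = 0
      rw [show dev a v = 0 from hv, show dev b v = 0 from (congrArg Prod.snd hk).ge hv, sub_zero]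
    have hne : dev (b * a⁻¹) ≠ 0 := fun h => h1 (dev_eq_zero h)
    have hsq : dev (b * a⁻¹) * dev (b * a⁻¹) = 0 := by
      rw [hd]
      refine LinearMap.ext fun v => ?_
      refine hkk ?_
      obtain ⟨w, hw⟩ := hr ⟨v, rfl⟩
      show dev a _ = 0
      rw [← hw]; exact LinearMap.congr_fun (sq_zero ha) w
    have hmin : b * a⁻¹ ∈ Min G :=
      min_of_le ha (mul_mem (min_mem hb) (inv_mem (min_mem ha))) hsq hne (by rw [hd]; exact Submodule.finrank_mono hr)
    refine ⟨hmin, Prod.ext ?_ ?_⟩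
    · show LinearMap.range (dev (b * a⁻¹)) = LinearMap.range (dev a)
      rw [hd]
      exact Submodule.eq_of_le_of_finrank_le hr (by rw [← hd]; exact (rank_eq ha hmin).le)
    · show LinearMap.ker (dev (b * a⁻¹)) = LinearMap.ker (dev a)
      rw [hd]
      refine (Submodule.eq_of_le_of_finrank_le hkk ?_).symm
      have a1 := (dev b - dev a).finrank_range_add_finrank_ker
      have a2 := (dev a).finrank_range_add_finrank_ker
      have a3 := rank_eq ha hmin
      rw [hd] at a3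
      omega

end Frame

end Cfsg.Agent.EquiQuad
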