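import Cfsg.Agent.Lib.PLocal.ZJ

/-!
The `ZJ`-theorem from stability on the `p`-subgroups invariant under given automorphisms.
-/

set_option autoImplicit false
set_option linter.style.haveILetI false

open scoped commutatorElement

namespace Cfsg.Agent.ZJInv

open Cfsg.Agent Cfsg.Agent.ZJ

variable {G : Type*} [Group G] [Finite G] {p : ℕ} [hp : Fact p.Prime]

/-- Stability on the normal `p`-subgroups fixed by `Φ`. -/
def IsQuadFor (p : ℕ) (Φ : Set (MulAut G)) : Prop :=
  ∀ (B : Subgroup G) [B.Normal], (∀ φ ∈ Φ, B.map φ.toMonoidHom = B) → ∀ a : G, IsPGroup p B →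
    IsPGroup p (Subgroup.zpowers a) → ⁅⁅B, Subgroup.zpowers a⁆, Subgroup.zpowers a⁆ = ⊥ →
      (QuotientGroup.mk a : G ⧸ Subgroup.centralizer (B : Set G)) ∈
        Cfsg.pCore p (G ⧸ Subgroup.centralizer (B : Set G))

theorem isQuadFor_of_isQuad {Φ : Set (MulAut G)} (h : IsQuad p G) : IsQuadFor p Φ :=
  fun B _ _ a => h B a

variable {Φ : Set (MulAut G)}

theorem le_stab (hq : IsQuadFor p Φ) {B A : Subgroup G} [B.Normal]
    (hBΦ : ∀ φ ∈ Φ, B.map φ.toMonoidHom = B) (hB : IsPGroup p B)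
    (hA : IsPGroup p A) (hAc : ∀ x ∈ A, ∀ y ∈ A, x * y = y * x)
    (hBA : B ≤ Subgroup.normalizer (A : Set G)) : A ≤ stab p B := fun a ha =>
  hq B hBΦ a hB (hA.to_le (Subgroup.zpowers_le.2 ha)) (quadratic_of_le_normalizer hAc hBA ha)

omit hp in
theorem pCore_fixed : ∀ φ ∈ Φ, (Cfsg.pCore p G).map φ.toMonoidHom = Cfsg.pCore p G := fun φ _ =>
  Subgroup.characteristic_iff_map_eq.1 (PBasic.pCore_characteristic p G) φ

/-- `Z(J(S))` meets every fixed normal `p`-subgroup in a normal subgroup. -/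
theorem zCore_inf_normal (hp2 : p ≠ 2) (hq : IsQuadFor p Φ) (S : Sylow p G)
    (hS : ∀ φ ∈ Φ, (S : Subgroup G).map φ.toMonoidHom = S)
    (B : Subgroup G) [B.Normal] (hBΦ : ∀ φ ∈ Φ, B.map φ.toMonoidHom = B) (hB : IsPGroup p B) :
    (zCore p False (S : Subgroup G) ⊓ B).Normal := by
  induction hn : Nat.card B using Nat.strong_induction_on generalizing B with
  | _ n ih =>
    set Z := zCore p False (S : Subgroup G) with hZ
    set W := Z ⊓ B with hW
    have hWΦ : ∀ φ ∈ Φ, W.map φ.toMonoidHom = W := fun φ hφ => by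
      rw [hW, Subgroup.map_inf _ _ _ φ.injective, hBΦ φ hφ, hZ,
        zCore_map _ φ.injective.injOn, hS φ hφ]
    have hZS : Z ≤ zJ p False (S : Subgroup G) := zCore_le_zJ _
    have hcl : Subgroup.normalClosure (W : Set G) ≤ B :=
      Subgroup.normalClosure_le_normal inf_le_right
    rcases lt_or_eq_of_le hcl with hlt | heq
    · have := ih _ (hn ▸ Set.ncard_lt_ncard (SetLike.coe_ssubset_coe.2 hlt) (Set.toFinite _))
        (Subgroup.normalClosure (W : Set G)) (fun φ hφ => by
          rw [Subgroup.map_normalClosure _ _ φ.surjective]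
          exact congrArg Subgroup.normalClosure ((Subgroup.coe_map _ _).symm.trans (congrArg _ (hWΦ φ hφ))))
        (hB.to_le hcl) rfl
      have h2 : Z ⊓ Subgroup.normalClosure (W : Set G) = W :=
        le_antisymm (inf_le_inf_left _ hcl) (le_inf inf_le_left Subgroup.le_normalClosure)
      rwa [h2] at this
    by_cases hB1 : B = ⊥
    · rw [hW, hB1, inf_bot_eq]; infer_instance
    have hlt : ⁅B, B⁆ < B := lt_of_le_of_ne (Subgroup.commutator_le_right B B) fun h =>
      hB1 (le_bot_iff.1 (Fusion.le_of_le_commutator_sup hB.isNilpotent le_rfl bot_le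
        (by rw [Subgroup.normalizer_eq_top]; exact le_top) (by rw [h, sup_bot_eq])))
    haveI hD : (Z ⊓ ⁅B, B⁆).Normal := ih _
      (hn ▸ Set.ncard_lt_ncard (SetLike.coe_ssubset_coe.2 hlt) (Set.toFinite _)) ⁅B, B⁆
      (fun φ hφ => by rw [Subgroup.map_commutator, hBΦ φ hφ])
      (hB.to_le hlt.le) rfl
    have hBS : B ≤ (S : Subgroup G) := le_sylow S hB
    have hSZ : (S : Subgroup G) ≤ Subgroup.normalizer (Z : Set G) :=
      (le_normalizer_zJ _).trans (normalizer_zJ_le_normalizer_zCore _)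
    have hBZ : ⁅B, B⁆ ≤ Z := by
      refine (commutator_normalClosure_le (N := Z ⊓ ⁅B, B⁆) heq fun z hz y hy => ⟨?_, ?_⟩).trans
        inf_le_left
      · rw [commutatorElement_def, mul_assoc, mul_assoc, ← mul_assoc y]
        exact Z.mul_mem hz.1 ((Subgroup.mem_normalizer_iff.1 (hSZ (hBS hy)) _).1 (Z.inv_mem hz.1))
      · exact Subgroup.commutator_mem_commutator hz.2 hy
    refine normal_of_replacement hp2 S False B B W hB le_rfl inf_le_right heq ?_ ?_
      (fun A hA => hBZ.trans (zCore_le_of_isMaxIn hA)) False.elim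
      (fun A hA hBA => le_stab hq hBΦ hB (S.isPGroup'.to_le hA.1) (fun x hx y hy => hA.2.1.comm hx hy) hBA)
    · intro g hg
      have h1 : g ∈ Subgroup.normalizer (Z : Set G) :=
        normalizer_zJ_le_normalizer_zCore _ (normalizer_jSub_le_normalizer_zJ _ hg)
      exact Subgroup.inf_normalizer_le_normalizer_inf
        ⟨h1, by rw [Subgroup.normalizer_eq_top]; exact Subgroup.mem_top g⟩
    · exact inf_le_left.trans (hZS.trans inf_le_right)

/-- `Z(J(S))` is normal. -/
theorem zJ_normal (hp2 : p ≠ 2) (hq : IsQuadFor p Φ)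
    (hc : Subgroup.centralizer (Cfsg.pCore p G : Set G) ≤ Cfsg.pCore p G) (S : Sylow p G)
    (hS : ∀ φ ∈ Φ, (S : Subgroup G).map φ.toMonoidHom = S) : (zJ p False (S : Subgroup G)).Normal := by
  set U := Cfsg.pCore p G with hU
  haveI : U.Normal := Cfsg.pCore_normal p G
  have h1 : zJ p False (S : Subgroup G) ≤ stab p U :=
    le_stab hq pCore_fixed (PBasic.pCore_isPGroup p G) (S.isPGroup'.to_le (zJ_le _))
      (fun x hx y hy => zJ_comm hx hy) ((PBasic.pCore_le_sylow S).trans (le_normalizer_zJ _))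
  have hZU : zJ p False (S : Subgroup G) ≤ U := by
    refine h1.trans (PBasic.le_pCore inferInstance ?_)
    refine (PBasic.pCore_isPGroup p _).comap_of_ker_isPGroup _ ?_
    rw [QuotientGroup.ker_mk']
    exact (PBasic.pCore_isPGroup p G).to_le hc
  have h := zCore_inf_normal hp2 hq S hS U pCore_fixed (PBasic.pCore_isPGroup p G)
  rwa [zCore_eq_zJ (fun h => h), inf_eq_left.2 hZU] at h

end Cfsg.Agent.ZJInv
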