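import Cfsg.Agent.Lib.EquiQuad.InvQuad
import Cfsg.Agent.Lib.EquiQuad.ZJInv
import Cfsg.Agent.Lib.Techniques.PConstrained

/-!
Factorisation by the normaliser of `Z(J(S))` under coprime operators.
-/

set_option autoImplicit false
set_option linter.style.haveILetI false
set_option linter.unusedSectionVars false

open scoped commutatorElement Pointwise

namespace Cfsg.Agent.EquiQuad

open Cfsg.Agent

universe u

variable {X : Type u} [Group X] [Finite X] {p : ℕ} [hp : Fact p.Prime]

local notation "SL2p" => Matrix.SpecialLinearGroup (Fin 2) (ZMod p)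

/-- The automorphisms of a normal subgroup induced by `R`. -/
def indAut (G R : Subgroup X) [G.Normal] : Set (MulAut G) := MulAut.conjNormal (H := G) '' (R : Set X)

theorem coe_map_conjNormal {G : Subgroup X} [G.Normal] (B : Subgroup G) (r : X) :
    (B.map (MulAut.conjNormal (H := G) r).toMonoidHom).map G.subtype =
      (B.map G.subtype).map (MulAut.conj r).toMonoidHom := by
  rw [Subgroup.map_map, Subgroup.map_map]
  rfl

theorem fixed_iff {G R : Subgroup X} [G.Normal] {B : Subgroup G} :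
    (∀ φ ∈ indAut G R, B.map φ.toMonoidHom = B) ↔ R ≤ Subgroup.normalizer ((B.map G.subtype : Subgroup X) : Set X) := by
  refine ⟨fun h r hr => ?_, fun h φ hφ => ?_⟩
  · exact Subgroup.mem_normalizer_iff_map_conj_eq.2 ((coe_map_conjNormal B r).symm.trans
      (congrArg (Subgroup.map G.subtype) (h _ ⟨r, hr, rfl⟩)))
  · obtain ⟨r, hr, rfl⟩ := hφ
    refine Subgroup.map_injective G.subtype_injective ?_
    rw [coe_map_conjNormal]
    exact Subgroup.mem_normalizer_iff_map_conj_eq.1 (h hr)

theorem isQuadFor (h5 : 5 ≤ p) {G R : Subgroup X} [G.Normal] (hgen : G ⊔ R = ⊤)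
    (hcop : (Nat.card R).Coprime (Nat.card G))
    (hfix : ¬ Cfsg.Involves (SL2p ⧸ Subgroup.center SL2p) (G ⊓ Subgroup.centralizer (R : Set X) : Subgroup X)) :
    ZJInv.IsQuadFor p (indAut G R) := by
  by_cases hoddG : Odd (Nat.card G)
  · exact ZJInv.isQuadFor_of_isQuad (PStable.isQuad_of_odd (by omega) hoddG)
  have hodd : Odd (Nat.card R) := by
    refine Nat.not_even_iff_odd.1 fun hR => ?_
    have h2 := Nat.dvd_gcd (even_iff_two_dvd.1 hR) (even_iff_two_dvd.1 (Nat.not_odd_iff_even.1 hoddG))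
    rw [hcop.gcd_eq_one] at h2
    exact absurd h2 (by norm_num)
  intro B hBn hBΦ a hB hap hq
  haveI := hBn
  set B' := B.map G.subtype with hB'
  have hn : B'.Normal := by
    rw [← Subgroup.normalizer_eq_top_iff, eq_top_iff, ← hgen]
    refine sup_le ?_ (fixed_iff.1 hBΦ)
    refine le_trans ?_ (Subgroup.le_normalizer_map G.subtype)
    rw [Subgroup.normalizer_eq_top, ← MonoidHom.range_eq_map, Subgroup.range_subtype]
  have hq' : ∀ b ∈ B', ⁅(a : X), ⁅(a : X), b⁆⁆ = 1 := by
    rintro _ ⟨b, hb, rfl⟩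
    have h1 : ⁅b, a⁆ ∈ ⁅B, Subgroup.zpowers a⁆ :=
      Subgroup.commutator_mem_commutator hb (Subgroup.mem_zpowers a)
    have h2 : ⁅a, ⁅a, b⁆⁆ = 1 := by
      rw [← commutatorElement_inv b a, ← inv_eq_one, commutatorElement_inv]
      exact (Subgroup.mem_bot.1 (hq ▸ Subgroup.commutator_mem_commutator (inv_mem h1) (Subgroup.mem_zpowers a)))
    exact congrArg Subtype.val h2
  obtain ⟨N, hNn, hNG, haN, hN⟩ := quad_normal h5 hcop hodd hfix B' hn (hB.map G.subtype) a.2 hq'
  haveI := hNn
  set f := QuotientGroup.mk' (Subgroup.centralizer (B : Set G))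
  refine PBasic.le_pCore ((inferInstance : (N.subgroupOf G).Normal).map f (QuotientGroup.mk'_surjective _))
    ?_ ⟨a, haN, rfl⟩
  rintro ⟨_, g, hg, rfl⟩
  obtain ⟨e, he⟩ := hN g hg
  refine ⟨e, Subtype.ext ?_⟩
  show f g ^ p ^ e = 1
  rw [← map_pow, QuotientGroup.mk'_apply, QuotientGroup.eq_one_iff, Subgroup.mem_centralizer_iff]
  intro b hb
  exact Subtype.ext (Subgroup.mem_centralizer_iff.1 he b ⟨b, hb, rfl⟩)

/-- The factorisation `G = O_{p'}(G) N(Z(J(S)))`. -/
theorem zj_factor (h5 : 5 ≤ p) {G R : Subgroup X} [G.Normal] (hgen : G ⊔ R = ⊤)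
    (hcop : (Nat.card R).Coprime (Nat.card G)) (hcon : Cfsg.IsPConstrained p G) (S : Sylow p G)
    (hfix : ¬ Cfsg.Involves (SL2p ⧸ Subgroup.center SL2p) (G ⊓ Subgroup.centralizer (R : Set X) : Subgroup X)) :
    Cfsg.pPrimeCore p G ⊔ Subgroup.normalizer (ZJ.zJ p False (S : Subgroup G) : Set G) = ⊤ := by
  set K := Cfsg.pPrimeCore p G with hK
  haveI : K.Normal := inferInstance
  have hnorm : R ≤ Subgroup.normalizer (G : Set X) := by rw [Subgroup.normalizer_eq_top]; exact le_top
  have hsolv : Group.IsSolvable R ∨ Group.IsSolvable G := by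
    rcases Nat.even_or_odd (Nat.card G) with hG | hG
    · refine Or.inl (OddChar.oddSolvable R (Nat.not_even_iff_odd.1 fun hR => ?_))
      have h2 := Nat.dvd_gcd (even_iff_two_dvd.1 hR) (even_iff_two_dvd.1 hG)
      rw [hcop.gcd_eq_one] at h2
      exact absurd h2 (by norm_num)
    · exact Or.inr (OddChar.oddSolvable G hG)
  obtain ⟨S0, hS0⟩ := CoprimeAct.exists_invariant_sylow hnorm hcop hsolv p
  set K' := K.map G.subtype with hK'
  haveI : (Cfsg.pPrimeCore p G).Characteristic := PBasic.pPrimeCore_characteristic p G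
  haveI : K'.Normal := inferInstanceAs ((Cfsg.pPrimeCore p G).map G.subtype).Normal
  set q := QuotientGroup.mk' K' with hqdef
  have hqs : Function.Surjective q := QuotientGroup.mk'_surjective _
  haveI hGb : (G.map q).Normal := ‹G.Normal›.map q hqs
  set g := q.subgroupMap G with hgdef
  have hgs : Function.Surjective g := q.subgroupMap_surjective G
  have hker : g.ker = K := by
    ext x
    rw [MonoidHom.mem_ker, Subtype.ext_iff]
    show q (x : X) = 1 ↔ _
    rw [hqdef, QuotientGroup.mk'_apply, QuotientGroup.eq_one_iff, hK']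
    exact Subgroup.mem_map_iff_mem G.subtype_injective
  have hkc : (Nat.card g.ker).Coprime p := by rw [hker, hK]; exact PBasic.pPrimeCore_coprime p G
  have hc : CharP.IsCharP p (G.map q) := CharP.isCharP_congr
    ((QuotientGroup.quotientMulEquivOfEq hker.symm).trans (QuotientGroup.quotientKerEquivOfSurjective g hgs))
    (PConstr.isPConstrained_iff.1 hcon)
  have hfixb : ¬ Cfsg.Involves (SL2p ⧸ Subgroup.center SL2p)
      (G.map q ⊓ Subgroup.centralizer ((R.map q : Subgroup (X ⧸ K')) : Set (X ⧸ K')) : Subgroup (X ⧸ K')) := by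
    rw [← CoprimeAct.map_inf_centralizer q hnorm hcop hsolv]
    exact fun h => hfix (PStable.involves_of_quotient (q.subgroupMap _) (q.subgroupMap_surjective _) h)
  have hgenb : G.map q ⊔ R.map q = ⊤ := by
    rw [← Subgroup.map_sup, hgen, Subgroup.map_top_of_surjective q hqs]
  have hcopb : (Nat.card (R.map q)).Coprime (Nat.card (G.map q)) :=
    (hcop.coprime_dvd_left (Subgroup.card_map_dvd R q)).coprime_dvd_right (Subgroup.card_map_dvd G q)
  set Sb := S0.mapSurjective hgs with hSb
  have hSbΦ : ∀ φ ∈ indAut (G.map q) (R.map q), (Sb : Subgroup (G.map q)).map φ.toMonoidHom = Sb := by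
    refine fixed_iff.2 ?_
    rw [hSb, Sylow.coe_mapSurjective, Subgroup.map_map,
      show (G.map q).subtype.comp g = q.comp G.subtype from rfl, ← Subgroup.map_map]
    exact (Subgroup.map_mono hS0).trans (Subgroup.le_normalizer_map q)
  haveI hZb := ZJInv.zJ_normal (by omega) (isQuadFor h5 hgenb hcopb hfixb) hc Sb hSbΦ
  set Z := ZJ.zJ p False (S0 : Subgroup G) with hZ
  have hinj : Set.InjOn g (S0 : Subgroup G) := by
    intro x hx y hy hxy
    have h1 : x * y⁻¹ ∈ g.ker := by rw [MonoidHom.mem_ker, map_mul, map_inv, hxy, mul_inv_cancel]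
    exact mul_inv_eq_one.1 (PBasic.eq_one_of_isPGroup_of_coprime S0.isPGroup' (mul_mem hx (inv_mem hy))
      (PBasic.coprime_orderOf_of_mem hkc h1))
  have hZmap : Z.map g = ZJ.zJ p False (Sb : Subgroup (G.map q)) := by
    rw [hZ, ZJ.zJ_map g hinj, hSb, Sylow.coe_mapSurjective]
  have h0 : K ⊔ Subgroup.normalizer (Z : Set G) = ⊤ := by
    have h := PConstr.map_normalizer_eq g hgs hkc (S0.isPGroup'.to_le (ZJ.zJ_le _) : IsPGroup p Z)
    rw [hZmap, Subgroup.normalizer_eq_top (ZJ.zJ p False (Sb : Subgroup (G.map q)))] at h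
    rw [sup_comm, ← hker, ← Subgroup.comap_map_eq, h, Subgroup.comap_top]
  obtain ⟨x, hx⟩ := MulAction.exists_smul_eq G S0 S
  set c := (MulAut.conj x).toMonoidHom
  have hSc : (S : Subgroup G) = (S0 : Subgroup G).map c := by rw [← hx]; rfl
  have hcs : Function.Bijective c := (MulAut.conj x).bijective
  rw [hSc, ← ZJ.zJ_map c hcs.1.injOn, ← Subgroup.map_normalizer_eq_of_bijective _ hcs,
    show K ⊔ _ = K.map c ⊔ _ from congrArg (· ⊔ _) (Subgroup.mem_normalizer_iff_map_conj_eq.1
      (K.normalizer_eq_top ▸ Subgroup.mem_top x)).symm, ← Subgroup.map_sup, h0,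
    Subgroup.map_top_of_surjective _ hcs.2]

end Cfsg.Agent.EquiQuad
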